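import Cfsg.Agent.Block.Brauer
import Cfsg.Agent.Clifford.Gallagher
import Cfsg.Agent.Clifford.PermChar
import Cfsg.Prelude.Def_CaseTheorems

/-!
# Subgroups of index two, sectional rank and characters of degree `p`
-/

namespace CF.Block

open Cfsg MonoidAlgebra Subgroup Module
open CF.BlockB (v O k resC nrm omega eSet ev incl pPart pReg regProj InSpan PV Lat BSet)
open CF.Clifford (NormalEmb)

theorem card_le_two_mul_finrank {ι W : Type*} [LinearOrder ι] [AddCommGroup W] [Module ℂ W]
    {Y : ι → W} (hY : LinearIndependent ℂ Y) {σ : ι → ι} (hσ : Function.Involutive σ)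
    (S : Finset ι) (U : Submodule ℂ W) [Module.Finite ℂ U] (h : ∀ i ∈ S, Y i + Y (σ i) ∈ U) :
    S.card ≤ 2 * finrank ℂ U := by
  let T := S.filter fun i => σ i ∉ S ∨ i ≤ σ i
  have h1 : S ⊆ T ∪ T.image σ := fun i hi => by
    by_cases h2 : σ i ∉ S ∨ i ≤ σ i
    · exact Finset.mem_union_left _ (Finset.mem_filter.2 ⟨hi, h2⟩)
    · push Not at h2
      exact Finset.mem_union_right _ (Finset.mem_image.2 ⟨σ i, Finset.mem_filter.2
        ⟨h2.1, Or.inr (by rw [hσ]; exact h2.2.le)⟩, hσ i⟩)
  have h2 : LinearIndependent ℂ fun i : T =>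
      (Finsupp.single (i : ι) (1 : ℂ) + Finsupp.single (σ i) 1 : ι →₀ ℂ) := by
    rw [Fintype.linearIndependent_iff]
    intro g hg i
    have h3 := DFunLike.congr_fun hg (i : ι)
    rw [Finset.sum_apply', Finset.sum_eq_single i] at h3
    · by_cases h4 : σ i = i
      · simpa [h4] using h3
      · simpa [h4] using h3
    · intro l _ hl
      have h4 : (l : ι) ≠ i := fun h => hl (Subtype.ext h)
      have h5 : σ l ≠ i := fun h => by
        have hi := Finset.mem_filter.1 i.2
        have hl := Finset.mem_filter.1 l.2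
        have h' : σ i = l := by rw [← h, hσ]
        rw [h] at hl
        rw [h'] at hi
        exact h4 (le_antisymm (hl.2.resolve_left (not_not.2 hi.1))
          (hi.2.resolve_left (not_not.2 hl.1)))
      simp [h4, h5]
    · simp
  have h3 : LinearIndependent ℂ fun i : T =>
      (⟨Y i + Y (σ i), h i (Finset.mem_filter.1 i.2).1⟩ : U) := by
    refine LinearIndependent.of_comp U.subtype ?_
    have h3 := h2.map' (Finsupp.linearCombination ℂ Y) (LinearMap.ker_eq_bot.2 hY)
    simpa [Function.comp_def] using h3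
  have h4 := h3.fintype_card_le_finrank
  rw [Fintype.card_coe] at h4
  have h5 := (Finset.card_le_card h1).trans (Finset.card_union_le _ _)
  have h6 := Finset.card_image_le (s := T) (f := σ)
  omega

variable {p : ℕ} {M : Ideal AlgInt} {G : Type*} [Group G] [Finite G]

omit [Finite G] in
theorem NPrim.gmap_equiv {F : Type*} [Field F] (φ : G ≃* G) {j : F[G]}
    (hj : NPrim (⊤ : Subalgebra F F[G]) j) :
    NPrim (⊤ : Subalgebra F F[G]) (gmap φ.toMonoidHom j) := by
  have hinj := gmap_injective (R := F) (f := φ.toMonoidHom) φ.injective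
  refine ⟨Algebra.mem_top, by rw [← map_mul, hj.idem], fun h => hj.ne (hinj (by simpa using h)),
    fun g _ h1 h2 h3 => ?_⟩
  obtain ⟨g, rfl⟩ := gmap_surjective (R := F) (f := φ.toMonoidHom) φ.surjective g
  exact (hj.prim g Algebra.mem_top (hinj (by rwa [map_mul])) (hinj (by rwa [map_mul]))
    (hinj (by rwa [map_mul]))).imp (fun h => by rw [h, map_zero]) fun h => by rw [h]

theorem pch_gmap (φ : G ≃* G) {x : (k M)[G]} (hx : x * x = x) :
    pch M (gmap φ.toMonoidHom x) = fun g => pch M x (φ.symm g) := by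
  have := Fintype.ofFinite G
  refine Char.classFun_ext (pch_classFun _) (Char.classFun_comp (pch_classFun x) φ.symm.toMonoidHom)
    fun χ hχ => ?_
  have h := lft_spec hx
  rw [inner_pch_irr _ ⟨χ, hχ⟩, ← Char.inner_comp_equiv φ.toEquiv]
  simp only [MulEquiv.toEquiv_eq_coe, EquivLike.coe_coe, MulEquiv.symm_apply_apply]
  rw [inner_pch_irr x ⟨_, Char.irr_comp_equiv hχ φ⟩, ← ev_lft (Char.irr_isClassFunction
    (Char.irr_comp_equiv hχ φ)) hx]
  conv_lhs => rw [← h.eq, ← red_gmap φ.injective]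
  rw [tau_one_red (Char.irr_isClassFunction hχ) (by rw [← map_mul, h.idem])
    ((nrm_gmap_le _ _).trans h.le), ev_gmap]
  rfl

theorem blockRank_le_two_mul (hM : IsPModular p M) {b : Set (IrrCharacter G)} (hb : IsPBlock M b)
    (φ : G ≃* G) (hφ : ∀ θ, IsClassFunction G θ → ∀ g, θ (φ (φ g)) = θ g)
    (U : Submodule ℂ (G → ℂ))
    (hU : ∀ θ ∈ b, pRegularPart p ((θ : G → ℂ) + fun g => (θ : G → ℂ) (φ g)) ∈ U) :
    blockRank p b ≤ 2 * finrank ℂ U := by
  classical
  have := Fintype.ofFinite G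
  have hb1 := BlockB.nrm_eSet_le_one hM hb
  obtain ⟨j, ψ, h⟩ := exists_iBr hM hb1
  obtain ⟨L, J, h1, h2, h3⟩ := exists_primReps (k := k M) (R := (k M)[G]) fun _ => True
  choose σ hσ using fun i => h3 _ ((h1 i).1.gmap_equiv φ.symm) trivial
  choose t ht using fun i => h3 _ (h.prim i) trivial
  have hY := linearIndependent_pch (fun i => (h1 i).1) h2
  have h4 : ∀ i, pch M (J (σ i)) = fun g => pch M (J i) (φ g) := fun i => by
    rw [← pch_congr (hσ i) ((h1 i).1.gmap_equiv φ.symm).idem (h1 _).1.idem,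
      pch_gmap _ (h1 i).1.idem]; rfl
  have h5 : Function.Injective t := fun i l hil => h.inj hM hb1
    ((ht i).trans (hil ▸ (ht l).symm) (h.idem i) (h.idem l))
  have h6 := card_le_two_mul_finrank hY (σ := σ) (fun i => hY.injective (by
    funext g; simp only [h4, hφ _ (pch_classFun _)])) (Finset.univ.image t) U fun i hi => ?_
  · rwa [Finset.card_image_of_injective _ h5, Finset.card_univ, Fintype.card_fin] at h6
  obtain ⟨i, -, rfl⟩ := Finset.mem_image.1 hi
  rw [h4, ← pch_congr (ht i) (h.idem i) (h1 _).1.idem]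
  have h7 := h.bset.span i
  have h8 := h.bset.pv i
  generalize pch M (j i) = y at h7 h8
  have h9 : (y + fun g => y (φ g)) = ∑ θ ∈ Finset.univ.filter (· ∈ b), classInner y θ •
      pRegularPart p ((θ : G → ℂ) + fun g => (θ : G → ℂ) (φ g)) := by
    funext g
    simp only [Finset.sum_apply, Pi.smul_apply, Pi.add_apply, BlockB.reg_apply, smul_eq_mul]
    split_ifs with hg
    · rw [h8 g hg, h8 _ (by rwa [φ.orderOf_eq])]; simp
    · rw [h7.apply_eq_sum g, h7.apply_eq_sum (φ g), ← Finset.sum_add_distrib]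
      simp only [mul_add]
  rw [h9]
  exact U.sum_mem fun θ hθ => U.smul_mem _ (hU θ (Finset.mem_filter.1 hθ).2)

theorem res_index_two [Fintype G] {N : Type*} [Group N] [Fintype N] (E : NormalEmb N G)
    (hE : E.index = 2) {t : G} (ht : t ∉ E.ι.range) {χ : G → ℂ} (hχ : IsIrrCharacter G χ)
    {θ : N → ℂ} (hθ : IsIrrCharacter N θ) (h : classInner (fun n => χ (E.ι n)) θ ≠ 0) :
    ((fun n => χ (E.ι n)) = θ ∧ E.cj θ t = θ) ∨
      ((fun n => χ (E.ι n)) = θ + E.cj θ t ∧ ∀ g, g ∉ E.ι.range → χ g = 0) := by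
  classical
  have hθc := Char.irr_isClassFunction hθ
  have h1 : ∀ g, E.cj θ g = θ ∨ E.cj θ g = E.cj θ t := fun g => by
    by_cases hg : g ∈ E.ι.range
    · exact Or.inl (E.range_le_inertia hθc hg)
    · exact Or.inr (E.cj_eq_cj_iff.2 (E.range_le_inertia hθc
        ((mul_mem_iff_of_index_two hE).2 (by simp [hg, ht]))))
  by_cases h2 : E.cj θ t = θ
  · obtain ⟨e, he, h3⟩ := E.exists_nat_res_eq_of_invariant hχ hθ
      (fun g => congrFun ((h1 g).elim id fun h => h.trans h2)) h
    have h4 := E.sq_le_index hχ hθ h3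
    obtain rfl : e = 1 := by nlinarith
    exact Or.inl ⟨by simpa using h3, h2⟩
  · have h3 := E.clifford hχ hθ h
    have h4 : Finset.univ.image (E.cj θ) = {θ, E.cj θ t} := by
      ext φ
      simp only [Finset.mem_image, Finset.mem_univ, true_and, Finset.mem_insert,
        Finset.mem_singleton]
      exact ⟨fun ⟨g, hg⟩ => hg ▸ h1 g, fun h => h.elim (fun h => ⟨1, by rw [h]; ext; simp [E.cj_apply]⟩)
        fun h => ⟨t, h.symm⟩⟩
    have h5 := E.inner_res_self hχ hθ h
    rw [← E.card_image_cj, h4, Finset.card_pair (Ne.symm h2)] at h5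
    rw [h4, Finset.sum_pair (Ne.symm h2)] at h3
    obtain ⟨e, he⟩ := Char.inner_char_eq_nat (Char.char_comp (Char.irr_isCharacter hχ) E.ι)
      (Char.irr_isCharacter hθ)
    have h6 := Clifford.inner_comp_self_le E.ι E.inj χ
    rw [h5, he, Char.inner_irr_self hχ, show E.ι.range.index = 2 from hE] at h6
    have h7 : e ^ 2 * 2 ≤ 2 := by
      have : ((e ^ 2 * 2 : ℕ) : ℝ) ≤ 2 := by simpa [pow_two] using h6
      exact_mod_cast this
    have h8 : e ≠ 0 := fun h0 => h (by rw [he, h0, Nat.cast_zero])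
    obtain rfl : e = 1 := by
      rcases e with _ | _ | e
      · exact absurd rfl h8
      · rfl
      · nlinarith
    rw [he] at h3 h5
    exact Or.inr ⟨by simpa using h3, (E.vanish_iff hχ).2 (by rw [h5, hE]; simp)⟩

omit [Finite G] in
theorem card_le_of_sectional {s : ℕ} (hs : SectionalPRankLE p s G) {A : Type*} [CommGroup A]
    (hA : ∀ a : A, a ^ p = 1) (f : A →* G) (hf : Function.Injective f) : Nat.card A ≤ p ^ s := by
  let g : A →* (⊤ : Subgroup G) ⧸ (⊥ : Subgroup (⊤ : Subgroup G)) :=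
    (QuotientGroup.mk' _).comp (f.codRestrict ⊤ fun _ => mem_top _)
  have hg : Function.Injective g := (injective_iff_map_eq_one g).2 fun a ha =>
    hf (by simpa [g, Subtype.ext_iff] using ha)
  rw [Nat.card_congr (MonoidHom.ofInjective hg).toEquiv]
  refine hs ⊤ ⊥ g.range ⟨⟨?_⟩⟩ ?_
  · rintro ⟨_, a, rfl⟩ ⟨_, b, rfl⟩
    exact Subtype.ext (by simp [← map_mul, mul_comm])
  · rintro _ ⟨a, rfl⟩
    rw [← map_pow, hA, map_one]

theorem exists_irr_degree_prime (hp : p.Prime) (hG : IsPGroup p G) {K : Subgroup G}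
    (hK : K.index ≤ p ^ 2) (h : ¬ _root_.commutator G ≤ K) :
    ∃ φ : IrrCharacter G, charDegree (φ : G → ℂ) = p := by
  classical
  have := Fintype.ofFinite G
  have := Fact.mk hp
  have h1 : IsCharacter G (indFun K fun _ => 1) := Char.char_indFun K Char.char_const_one
  obtain ⟨φ, hφ, h2, h3⟩ : ∃ φ, IsIrrCharacter G φ ∧ classInner (indFun K fun _ => 1) φ ≠ 0 ∧
      φ 1 ≠ 1 := by
    by_contra! h0
    refine h fun g hg => ?_
    have h2 := (Char.mem_charKer_iff h1).1 (Char.mem_charKer_of_constituents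
      (Char.char_isClassFunction h1) fun ψ hψ h => (Char.irr_one_eq_one_iff hψ).1 (h0 ψ hψ h) hg)
    rw [Clifford.indFun_one_apply, Clifford.indFun_one_apply,
      mul_right_inj' (inv_ne_zero Char.card_ne_zero_complex), Nat.cast_inj] at h2
    have h3 := Finset.eq_of_subset_of_card_le (Finset.filter_subset
      (fun x : G => x⁻¹ * g * x ∈ K) Finset.univ) (by rw [h2]; simp [one_mem])
    simpa using (Finset.mem_filter.1 (h3.ge (Finset.mem_univ (1 : G)))).2
  obtain ⟨d, hd0, hd⟩ := Char.irr_one_eq_nat hφ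
  obtain ⟨a, ha⟩ := IsPGroup.iff_card.1 hG
  obtain ⟨j, -, rfl⟩ := (Nat.dvd_prime_pow hp).1 (ha ▸ Char.irr_one_dvd_card hφ hd)
  have h4 := Clifford.char_sub_add_of_ne h1 hφ Char.irr_one (fun h => h3 (by rw [h])) h2 (by
    rw [Char.inner_indFun_left K _ (Char.classFun_const 1), Char.inner_one_one]; exact one_ne_zero)
  have h5 := Clifford.one_le_of_sub_char h4 (a := K.index) (b := p ^ j + 1)
    (by rw [Clifford.indFun_one_eq, mul_one]) (by simp [hd])
  have h6 : j < 2 := (Nat.pow_lt_pow_iff_right hp.one_lt).1 (by omega)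
  refine ⟨⟨φ, hφ⟩, ?_⟩
  obtain rfl : j = 1 := by
    rcases j with _ | j
    · exact absurd (by simpa using hd) h3
    · omega
  simp [charDegree, hd]

end CF.Block
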