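import Cfsg.Agent.Block.Dade
import Cfsg.Agent.BlockB.Gal
import Cfsg.Agent.Clifford.GlaubCyc

/-!
# Extending `p`-rational characters of the principal block
-/

namespace CF.Block

open Cfsg MonoidAlgebra Subgroup Module Polynomial
open CF.BlockB (v O k resC nrm omega eSet ev incl pPart pReg Cen sec regProj cm InSpan PV Γ BSet)
open CF.Clifford

section Field

theorem exists_aut_of_root' (K : IntermediateField ℚ ℂ) {a b : ℂ} (ha : IsAlgebraic K a)
    (hb : aeval b (minpoly K a) = 0) : ∃ σ : ℂ ≃+* ℂ, σ a = b ∧ ∀ x ∈ K, σ x = x := by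
  let L := algebraicClosure K ℂ
  have hb' : IsAlgebraic K b := ⟨_, minpoly.ne_zero ha.isIntegral, hb⟩
  let a' : L := ⟨a, (mem_algebraicClosure_iff).mpr ha⟩
  let b' : L := ⟨b, (mem_algebraicClosure_iff).mpr hb'⟩
  have hm : minpoly K a' = minpoly K a :=
    (minpoly.algHom_eq L.val L.val.toRingHom.injective a').symm
  have hb2 : aeval b' (minpoly K a') = 0 := by
    apply L.val.toRingHom.injective
    rw [map_zero, hm]
    exact (aeval_algHom_apply L.val b' _).symm.trans hb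
  have hK : IsAlgClosure K L := algebraicClosure.isAlgClosure K ℂ
  have hN : Normal K L := IsAlgClosure.normal K L
  obtain ⟨τ, hτ⟩ := minpoly.exists_algEquiv_of_root' (hK.isAlgebraic.isAlgebraic a') hb2
  obtain ⟨σ, hσ⟩ := Char.exists_ringEquiv_extend (L := ℂ) τ.toRingEquiv
  exact ⟨σ, (hσ a').trans (congrArg (algebraMap L ℂ) hτ), fun x hx =>
    (hσ (algebraMap K L ⟨x, hx⟩)).trans (congrArg (algebraMap L ℂ) (τ.commutes ⟨x, hx⟩))⟩

/-- An algebraic number fixed by all automorphisms fixing `K` lies in `K`. -/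
theorem mem_of_fixed (K : IntermediateField ℚ ℂ) {a : ℂ} (ha : IsAlgebraic K a)
    (h : ∀ σ : ℂ ≃+* ℂ, (∀ x ∈ K, σ x = x) → σ a = a) : a ∈ K := by
  have hi := ha.isIntegral
  have hsep : (minpoly K a).Separable := (minpoly.irreducible hi).separable
  have hcard : ((minpoly K a).aroots ℂ).card = (minpoly K a).natDegree := by
    rw [aroots_def, ← (IsAlgClosed.splits _).natDegree_eq_card_roots, natDegree_map]
  have hnd : ((minpoly K a).aroots ℂ).Nodup := nodup_roots hsep.map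
  have hall : ∀ b ∈ (minpoly K a).aroots ℂ, b = a := fun b hb => by
    obtain ⟨σ, hσ, h1⟩ := exists_aut_of_root' K ha (mem_aroots.mp hb).2
    rw [← hσ, h σ h1]
  have hle : ((minpoly K a).aroots ℂ).card ≤ 1 := by
    have : (minpoly K a).aroots ℂ ≤ {a} :=
      (Multiset.le_iff_subset hnd).mpr fun b hb => by simp [hall b hb]
    simpa using Multiset.card_le_card this
  have h1 : (minpoly K a).natDegree = 1 := le_antisymm (hcard ▸ hle) (minpoly.natDegree_pos hi)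
  obtain ⟨q, hq⟩ := minpoly.natDegree_eq_one_iff.mp h1
  exact hq ▸ q.2

theorem fix_adjoin {σ : ℂ ≃+* ℂ} {a : ℂ} (h : σ a = a) {x : ℂ}
    (hx : x ∈ IntermediateField.adjoin ℚ ({a} : Set ℂ)) : σ x = x := by
  induction hx using IntermediateField.adjoin_induction with
  | mem x hx => rwa [hx]
  | algebraMap x => simp
  | add x y _ _ h1 h2 => rw [map_add, h1, h2]
  | inv x _ h1 => rw [map_inv₀, h1]
  | mul x y _ _ h1 h2 => rw [map_mul, h1, h2]

theorem not_dvd_orderOf_of_fixed {p m : ℕ} (hp : p.Prime) (hp2 : p ≠ 2) (hm : ¬ p ∣ m) {z : ℂ}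
    (hz : IsOfFinOrder z)
    (h : ∀ σ : ℂ ≃+* ℂ, (∀ w : ℂ, w ^ m = 1 → σ w = w) → σ z = z) : ¬ p ∣ orderOf z := by
  intro hd
  have hm0 : m ≠ 0 := by rintro rfl; exact hm (dvd_zero p)
  have hc : m.Coprime p := ((Nat.Prime.coprime_iff_not_dvd hp).2 hm).symm
  obtain ⟨j, h1, h2⟩ := Nat.chineseRemainder hc 1 2
  obtain ⟨σ, hσ⟩ := Char.exists_aut_pow (n := m * p) (m := j) (mul_ne_zero hm0 hp.ne_zero)
    (Nat.Coprime.mul_right (by rw [Nat.Coprime, h1.gcd_eq, Nat.gcd_one_left])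
      (by rw [Nat.Coprime, h2.gcd_eq]; exact (Nat.coprime_primes Nat.prime_two hp).2 hp2.symm))
  have h3 := h σ fun w hw => by
    rw [hσ w (by rw [pow_mul, hw, one_pow]), pow_eq_pow_of_modEq h1 hw, pow_one]
  have h4 := orderOf_pow_orderOf_div hz.orderOf_pos.ne' hd
  set w := z ^ (orderOf z / p)
  have h5 : w ^ p = 1 := h4 ▸ pow_orderOf_eq_one w
  have h6 : σ w = w := by rw [map_pow, h3]
  rw [hσ w (by rw [mul_comm, pow_mul, h5, one_pow]), pow_eq_pow_of_modEq h2 h5, pow_two] at h6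
  have h7 : w ≠ 0 := by rintro h0; simp [h0, hp.ne_zero] at h5
  rw [mul_left_cancel₀ h7 (h6.trans (mul_one w).symm), orderOf_one] at h4
  exact hp.one_lt.ne h4

end Field

variable {p : ℕ} {M : Ideal AlgInt} {G : Type*} [Group G] [Finite G]

theorem not_dvd_detOrder_of_fixed (hp : p.Prime) (hp2 : p ≠ 2) {m : ℕ} (hm : ¬ p ∣ m)
    {χ : G → ℂ} (hχ : IsCharacter G χ)
    (h : ∀ σ : ℂ ≃+* ℂ, (∀ w : ℂ, w ^ m = 1 → σ w = w) → ∀ g, σ (χ g) = χ g) :
    ¬ p ∣ detOrder χ := fun hd => by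
  refine Nat.not_dvd_ordCompl hp (Nat.card_pos (α := G)).ne' (hd.trans ?_)
  refine (detOrder_dvd_iff _ _).2 fun g => orderOf_dvd_iff_pow_eq_one.1 ?_
  have h1 := detChar_pow_card hχ g
  have h2 := not_dvd_orderOf_of_fixed hp hp2 hm (isOfFinOrder_iff_pow_eq_one.2
    ⟨_, Nat.card_pos, h1⟩) fun σ hσ => by
      have := detChar_map hχ σ.toRingHom g
      rw [show (fun g => σ.toRingHom (χ g)) = χ from funext (h σ hσ)] at this
      exact this.symm
  refine (Nat.Coprime.pow_right ((Nat.card G).factorization p)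
    ((Nat.Prime.coprime_iff_not_dvd hp).2 h2).symm).dvd_of_dvd_mul_left ?_
  rw [Nat.ordProj_mul_ordCompl_eq_self]
  exact orderOf_dvd_of_pow_eq_one h1

theorem mul_mem_of_pow (hM : IsPModular p M) {B : Set (IrrCharacter G)} (hB : IsPBlock M B)
    {χ ψ : IrrCharacter G} (hχ : χ ∈ B) {lam : G →* ℂˣ} {n : ℕ} (hl : lam ^ p ^ n = 1)
    (h : ∀ g, (ψ : G → ℂ) g = lam g * (χ : G → ℂ) g) : ψ ∈ B := by
  refine BlockB.mem_block_of_sameBlock hM hB hχ ((BlockB.sameBlock_iff hM χ.2 ψ.2).2 fun g => ?_)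
  have h1 : centralChar (χ : G → ℂ) g - centralChar (ψ : G → ℂ) g =
      -(centralChar (χ : G → ℂ) g * (lam g - 1)) := by
    simp only [centralChar, h, map_one, Units.val_one]
    ring
  rw [h1, Valuation.map_neg, map_mul]
  refine (mul_le_of_le_one_left' (BlockB.v_centralChar_le_one χ.2 g)).trans_lt
    (BlockB.v_sub_one_lt_one_of_pow_eq_one hM (k := n) ?_)
  rw [← Units.val_pow_eq_pow_val, ← MonoidHom.pow_apply, hl, MonoidHom.one_apply, Units.val_one]

theorem exists_pow_mul_eq_pReg (hp : p.Prime) {A : Type*} [Group A] {δ : A}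
    (hδ : IsOfFinOrder δ) {d : ℕ} (hd : ¬ p ∣ d) :
    ∃ (j : ℤ) (a : ℕ), (pPart p δ ^ j) ^ p ^ a = 1 ∧ (pPart p δ ^ j) ^ d * δ = pReg p δ := by
  obtain ⟨a, ha⟩ := BlockB.orderOf_pPart hp hδ
  obtain ⟨j, hj⟩ := exists_pow_eq_self_of_coprime (x := pPart p δ) (n := d) (by
      rw [ha]; exact Nat.Coprime.pow_right a ((Nat.Prime.coprime_iff_not_dvd hp).2 hd).symm)
  refine ⟨-j, a, ?_, ?_⟩ <;> rw [zpow_neg, zpow_natCast, inv_pow, ← pow_mul, pow_mul']
  · rw [← ha, pow_orderOf_eq_one, one_pow, inv_one]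
  · rw [hj, inv_mul_eq_iff_eq_mul, BlockB.pPart_mul_pReg]

theorem exists_twist_det (hp : p.Prime) {η : G → ℂ} (hη : IsCharacter G η) {d : ℕ} (h1 : η 1 = d)
    (hd : ¬ p ∣ d) : ∃ (ν : G →* ℂˣ) (a : ℕ), ν ^ p ^ a = 1 ∧
      (∀ g, ¬ p ∣ orderOf (detChar η g) → ν g = 1) ∧ ¬ p ∣ detOrder fun g => ν g * η g := by
  have hδ : IsOfFinOrder (detHom hη) := by
    rw [← orderOf_pos_iff, ← NormalEmb.detOrder_eq_orderOf]
    exact detOrder_pos hη
  have h0 : ∀ g, (detHom hη g : ℂ) = detChar η g := fun _ => rfl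
  generalize detHom hη = δ at hδ h0
  obtain ⟨j, a, ha, h9⟩ := exists_pow_mul_eq_pReg hp hδ hd
  refine ⟨pPart p δ ^ j, a, ha, fun g hg => ?_, fun h8 => ?_⟩
  · have h2 : pPart p δ g = 1 := (BlockB.map_pPart' hp (MonoidHom.eval g) hδ).trans
      (BlockB.pPart_of_pRegular hp (by rwa [← h0, orderOf_units] at hg))
    exact (map_zpow (MonoidHom.eval (N := ℂˣ) g) _ j).trans ((congrArg (· ^ j) h2).trans (one_zpow j))
  refine BlockB.not_dvd_orderOf_pReg hp hδ (h8.trans ((detOrder_dvd_iff _ _).2 fun g => ?_))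
  have h10 : (pPart p δ ^ j) g ^ d * δ g = pReg p δ g := DFunLike.congr_fun h9 g
  have h11 : pReg p δ g ^ orderOf (pReg p δ) = 1 :=
    DFunLike.congr_fun (pow_orderOf_eq_one (pReg p δ)) g
  rw [detChar_linear_mul _ hη h1, ← h0, ← Units.val_pow_eq_pow_val, ← Units.val_mul, h10,
    ← Units.val_pow_eq_pow_val, h11, Units.val_one]

variable {N : Type*} [Group N] [Finite N] {E : NormalEmb N G} {P T : Subgroup G}

omit [Finite G] [Finite N] in
theorem range_restrict (hT : ∀ n, E.ι n ∈ T) :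
    (E.restrict T hT).ι.range = E.ι.range.subgroupOf T := by
  ext x
  exact ⟨fun ⟨n, hn⟩ => ⟨n, congrArg Subtype.val hn⟩, fun ⟨n, hn⟩ => ⟨n, Subtype.ext hn⟩⟩

variable (p E P) in
/-- `P` contains a Sylow `p`-subgroup of the normal subgroup. -/
structure DSet : Prop where
  le : P ≤ E.ι.range
  nd : ¬ p ∣ P.relIndex E.ι.range

omit [Finite G] [Finite N] in
theorem DSet.restrict (h : DSet p E P) (hT : ∀ n, E.ι n ∈ T) :
    DSet p (E.restrict T hT) (P.subgroupOf T) := by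
  refine ⟨range_restrict hT ▸ subgroupOf_mono T h.le, ?_⟩
  rw [range_restrict, relIndex_subgroupOf (by rintro _ ⟨n, rfl⟩; exact hT n)]
  exact h.nd

omit [Finite G] [Finite N] in
theorem sup_restrict (hT : ∀ n, E.ι n ∈ T) (h : T ≤ E.ι.range ⊔ centralizer (P : Set G)) :
    (E.restrict T hT).ι.range ⊔ centralizer (P.subgroupOf T : Set T) = ⊤ := by
  refine eq_top_iff.2 fun x _ => ?_
  obtain ⟨_, ⟨n, rfl⟩, c, hc, h1⟩ := mem_sup_of_normal_left.1 (h x.2)
  have h2 : c ∈ T := by simpa [← h1] using T.mul_mem (T.inv_mem (hT n)) x.2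
  rw [show x = (E.restrict T hT).ι n * ⟨c, h2⟩ from Subtype.ext h1.symm]
  exact mul_mem_sup ⟨n, rfl⟩ fun y hy => Subtype.ext (hc y hy)

/-- The theorem of Alperin and Dade. -/
theorem DSet.existsUnique (hM : IsPModular p M) (h : DSet p E P) (h2 : ¬ p ∣ E.index)
    (hsup : E.ι.range ⊔ centralizer (P : Set G) = ⊤) {θ : IrrCharacter N}
    (hθ : θ ∈ principalBlock M N) :
    ∃! χ : IrrCharacter G, χ ∈ principalBlock M G ∧ ∀ n, (χ : G → ℂ) (E.ι n) = (θ : N → ℂ) n := by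
  have := Fintype.ofFinite N
  have h1 := exists_mul_eSet_pb_eq hM h.le h.nd h2 hsup
  obtain ⟨χ, hχ, h3⟩ := BlockB.exists_over_pb_emb E hM hθ
  have h4 := funext_iff.1 (Char.irr_eq_of_inner_ne_zero (Char.irr_comp_equiv
    (irr_restrict_of_mul_eSet h1 hχ) (MonoidHom.ofInjective E.inj)) θ.2 h3)
  refine ⟨χ, ⟨hχ, h4⟩, fun ψ hψ => eq_of_restrict_of_mul_eSet h1 hψ.1 hχ ?_⟩
  rintro _ ⟨n, rfl⟩
  exact (hψ.2 n).trans (h4 n).symm

variable (p M E) in
/-- The restrictions to the `p'`-extensions of the normal subgroup lie in principal blocks. -/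
def GoodExt (χ : G → ℂ) : Prop :=
  ∀ T : Subgroup G, (∀ n, E.ι n ∈ T) → ¬ p ∣ E.ι.range.relIndex T → ∀ ξ : IrrCharacter T,
    (∀ t : T, (ξ : T → ℂ) t = χ t) → ξ ∈ principalBlock M T

omit [Finite N] in
theorem GoodExt.map (hM : IsPModular p M) {χ : G → ℂ} (h : GoodExt p M E χ) (σ : ℂ ≃+* ℂ) :
    GoodExt p M E fun g => σ (χ g) := fun T hT h1 ξ h2 => by
  have h3 := map_mem_pb hM (h T hT h1 ⟨_, Char.irr_map ξ.2 σ.symm.toRingHom⟩ fun t => by
    simp [h2]) σ.toRingHom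
  convert h3
  simp

omit [Finite N] in
theorem GoodExt.comp (hM : IsPModular p M) {χ : G → ℂ} (h : GoodExt p M E χ) (α : G ≃* G)
    (hα : E.ι.range.map α.toMonoidHom = E.ι.range) : GoodExt p M E fun g => χ (α g) :=
  fun T hT h1 ξ h2 => by
    refine (BlockB.comp_equiv_mem_pb_iff hM (α.subgroupMap T).symm
      (ψ := ⟨_, Char.irr_comp_equiv ξ.2 _⟩) fun _ => rfl).1 (h _ (fun n => ?_) ?_ _ fun t => ?_)
    · obtain ⟨_, ⟨m, rfl⟩, h3⟩ := hα.ge ⟨n, rfl⟩
      exact ⟨_, hT m, h3⟩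
    · rwa [← hα, MulEquiv.toMonoidHom_eq_coe, relIndex_map_map_of_injective _ _ α.injective]
    · simp [h2]

theorem DSet.eq_of_good (hM : IsPModular p M) (h : DSet p E P)
    (hsup : E.ι.range ⊔ centralizer (P : Set G) = ⊤) {θ : IrrCharacter N}
    (hθ : θ ∈ principalBlock M N) (hd : ¬ p ∣ charDegree (θ : N → ℂ)) {χ ψ : G → ℂ}
    (hχ : IsCharacter G χ) (hψ : IsCharacter G ψ) (h1 : ∀ n, χ (E.ι n) = (θ : N → ℂ) n)
    (h2 : ∀ n, ψ (E.ι n) = (θ : N → ℂ) n) (h3 : GoodExt p M E χ) (h4 : GoodExt p M E ψ)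
    (h5 : ¬ p ∣ detOrder χ) (h6 : ¬ p ∣ detOrder ψ) : ψ = χ := by
  have hp := hM.1
  obtain ⟨μ, hμ, rfl⟩ := E.exists_linear_of_ext θ.2 hχ hψ h1 h2
  have h7 : ∀ c, ¬ p ∣ orderOf c → μ c = 1 := fun c hc => by
    have hT : ∀ n, E.ι n ∈ E.ι.range ⊔ zpowers c := fun n => mem_sup_left ⟨n, rfl⟩
    have h7 : ¬ p ∣ E.ι.range.relIndex (E.ι.range ⊔ zpowers c) := fun h7 => hc (by
      rw [relIndex_sup_left] at h7
      exact Nat.card_zpowers c ▸ h7.trans (relIndex_dvd_card _ _))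
    set T := E.ι.range ⊔ zpowers c
    have h8 : ∀ {η : G → ℂ}, IsCharacter G η → (∀ n, η (E.ι n) = (θ : N → ℂ) n) →
        IsIrrCharacter T fun t => η t := fun hη h8 =>
      Char.irr_of_irr_comp' (Char.char_comp hη T.subtype) (E.restrict T hT).ι (funext h8 ▸ θ.2)
    have h9 := ((h.restrict hT).existsUnique hM (by rwa [E.index_restrict])
      (sup_restrict hT (hsup ▸ le_top)) hθ).unique (y₁ := ⟨_, h8 hψ h2⟩) (y₂ := ⟨_, h8 hχ h1⟩)
      ⟨h4 T hT h7 _ fun _ => rfl, h2⟩ ⟨h3 T hT h7 _ fun _ => rfl, h1⟩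
    have h10 := (E.restrict T hT).eq_of_mul_ext θ.2 (Char.char_comp hχ T.subtype) h1
      (Char.irr_linear (μ.comp T.subtype)) Char.irr_one
      (fun n => by simp [hμ, NormalEmb.restrict_ι]) (fun _ => rfl)
      ((congrArg Subtype.val h9).trans (one_mul _).symm)
    exact Units.ext (congrFun h10 ⟨c, mem_sup_right (mem_zpowers c)⟩)
  have h8 : ∀ g, μ g = 1 := fun g => by
    obtain ⟨n, hn⟩ := exists_pPart_pow hp g
    have h8 : μ g ^ p ^ n = 1 := by
      rw [← BlockB.pPart_mul_pReg (p := p) g, map_mul, h7 _ (BlockB.pReg_pRegular hp g), mul_one,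
        ← map_pow, hn, map_one]
    have h9 := detChar_linear_mul μ hχ (d := charDegree (θ : N → ℂ))
      (by rw [BlockB.irr_charDegree_eq, ← h1, map_one]) g
    have h10 : μ g ^ (charDegree (θ : N → ℂ) * (detOrder χ * detOrder fun g => μ g * χ g)) = 1 := by
      have := congrArg (· ^ (detOrder χ * detOrder fun g => μ g * χ g)) h9
      simp only [mul_pow] at this
      rw [pow_mul', detChar_pow_detOrder, one_pow, pow_mul (detChar χ g), detChar_pow_detOrder,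
        one_pow, mul_one, ← pow_mul] at this
      exact Units.ext (by simpa using this.symm)
    rw [← orderOf_eq_one_iff]
    exact Nat.eq_one_of_dvd_coprimes (Nat.Coprime.pow_left n ((Nat.Prime.coprime_iff_not_dvd hp).2
      (hp.prime.not_dvd_mul hd (hp.prime.not_dvd_mul h5 h6)))) (orderOf_dvd_of_pow_eq_one h8)
      (orderOf_dvd_of_pow_eq_one h10)
  simp [h8]

theorem DSet.exists_good (hM : IsPModular p M) (h : DSet p E P)
    (hsup : E.ι.range ⊔ centralizer (P : Set G) = ⊤) {θ : IrrCharacter N}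
    (hθ : θ ∈ principalBlock M N) (hi : E.Invariant (θ : N → ℂ))
    (hd : ¬ p ∣ charDegree (θ : N → ℂ)) (ho : ¬ p ∣ detOrder (θ : N → ℂ)) :
    ∃ χ ∈ principalBlock M G, (∀ n, (χ : G → ℂ) (E.ι n) = (θ : N → ℂ) n) ∧
      GoodExt p M E (χ : G → ℂ) ∧ ¬ p ∣ detOrder (χ : G → ℂ) := by
  have hp := hM.1
  obtain ⟨ψ, hψ, h1⟩ := E.exists_ext_of_forall_prime θ.2 hi (BlockB.irr_charDegree_eq θ).symm
    fun q hq _ h1 => by
      have := Fact.mk hq
      obtain ⟨S⟩ : Nonempty (Sylow q G) := inferInstance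
      have hT : ∀ n, E.ι n ∈ E.ι.range ⊔ S := fun n => mem_sup_left ⟨n, rfl⟩
      obtain ⟨χ, ⟨-, h2⟩, -⟩ := (h.restrict hT).existsUnique hM (fun h2 => by
        obtain ⟨j, hj⟩ := S.isPGroup'.exists_card_eq
        rw [E.index_restrict, relIndex_sup_left] at h2
        have h3 := h2.trans (relIndex_dvd_card _ _)
        rw [hj] at h3
        rw [← (Nat.prime_dvd_prime_iff_eq hp hq).1 (hp.dvd_of_dvd_pow h3)] at h1
        exact hp.prime.not_dvd_mul hd ho h1) (sup_restrict hT (hsup ▸ le_top)) hθ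
      exact ⟨_, hT, χ, fun h3 => S.not_dvd_index (h3.trans (index_dvd_of_le le_sup_right)),
        Char.irr_isCharacter χ.2, h2⟩
  let e := (MonoidHom.ofInjective E.inj).symm
  obtain ⟨lam, h2, h3⟩ := exists_twist_aug hM h.nd hsup (θ := ⟨_, Char.irr_comp_equiv θ.2 e⟩)
    ((BlockB.comp_equiv_mem_pb_iff hM e fun _ => rfl).2 hθ) (ψ := ⟨ψ, hψ⟩) (by
      rintro ⟨_, n, rfl⟩
      exact (h1 n).trans (congrArg _ (e.eq_symm_apply.1 rfl).symm))
  have hη := irr_linear_mul lam hψ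
  set η := fun g => (lam g : ℂ) * ψ g
  have h4 : ∀ n, η (E.ι n) = (θ : N → ℂ) n := fun n => by simp [η, h2 _ ⟨n, rfl⟩, h1]
  have h5 : ∀ {T : Type _} [Group T] [Finite T] (f : T →* G), E.ι.range ≤ f.range →
      ∀ ξ : IrrCharacter T, (∀ t, (ξ : T → ℂ) t = η (f t)) → ξ ∈ principalBlock M T :=
    fun f hf ξ h5 => by
      refine (BlockB.sameBlock_iff_omega hM Char.irr_one ξ.2).2 fun z hz h6 => ?_
      have h7 := h3 (gmap f z) (fix_anti (hf.trans f.range_eq_map.le)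
        (gmap_mem_fix f (mem_Zc_top_iff_Z.2 hz).2)) ((nrm_gmap_le _ _).trans h6)
      rwa [omega_gmap, aug_gmap, aug_eq_omega, ← funext h5, Valuation.map_sub_swap] at h7
  obtain ⟨ν, a, h6, h7, h9⟩ := exists_twist_det hp (Char.irr_isCharacter hη)
    (d := charDegree (θ : N → ℂ)) (by rw [BlockB.irr_charDegree_eq, ← h4, map_one]) hd
  have h8 : ∀ n, ν (E.ι n) = 1 := fun n => h7 _ fun h8 => ho (h8.trans (by
    refine orderOf_dvd_of_pow_eq_one ?_
    rw [← congrFun (detChar_comp (Char.irr_isCharacter hη) E.ι) n, funext h4,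
      detChar_pow_detOrder]))
  have hχ := irr_linear_mul ν hη
  refine ⟨⟨_, hχ⟩, mul_mem_of_pow hM BlockB.isPBlock_principalBlock
    (h5 (MonoidHom.id G) (fun x _ => ⟨x, rfl⟩) ⟨η, hη⟩ fun _ => rfl) h6 fun _ => rfl,
    fun n => (congrArg₂ (· * ·) (congrArg Units.val (h8 n)) (h4 n)).trans (one_mul _),
    fun T hT _ ξ h8 => ?_, h9⟩
  have h10 : IsIrrCharacter T fun t => η t :=
    Char.irr_of_irr_comp' (Char.char_comp (Char.irr_isCharacter hη) T.subtype)
      (E.restrict T hT).ι (funext h4 ▸ θ.2)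
  refine mul_mem_of_pow hM BlockB.isPBlock_principalBlock (h5 T.subtype ?_ ⟨_, h10⟩ fun _ => rfl)
    (lam := ν.comp T.subtype) (n := a) (MonoidHom.ext fun t => DFunLike.congr_fun h6 (t : G)) h8
  rintro _ ⟨n, rfl⟩
  exact ⟨⟨_, hT n⟩, rfl⟩

/-- Extensions of `p`-rational characters of `p'`-degree in the principal block. -/
theorem exists_ext_fixed (hM : IsPModular p M) {N : Subgroup G} [N.Normal] (hPN : P ≤ N)
    (h1 : ¬ p ∣ P.relIndex N) (hP : ∀ g : G, ∃ n ∈ N, cjs g P = cjs n P) {a : ℕ}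
    (ha : (N ⊔ centralizer (P : Set G)).index = p ^ a) {θ : IrrCharacter N}
    (hθ : θ ∈ principalBlock M N) (hi : (NormalEmb.sub N).Invariant (θ : N → ℂ))
    (hd : ¬ p ∣ charDegree (θ : N → ℂ)) (ho : ¬ p ∣ detOrder (θ : N → ℂ)) :
    ∃ χ ∈ principalBlock M G, (∀ n : N, (χ : G → ℂ) n = (θ : N → ℂ) n) ∧
      ∀ σ : ℂ ≃+* ℂ, (∀ n, σ ((θ : N → ℂ) n) = (θ : N → ℂ) n) →
        ∀ g, σ ((χ : G → ℂ) g) = (χ : G → ℂ) g := by
  have hp := hM.1
  have := Fact.mk hp
  set H := N ⊔ centralizer (P : Set G)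
  have : H.Normal := ⟨fun x hx g => by
    obtain ⟨n, hn, c, hc, rfl⟩ := mem_sup_of_normal_left.1 hx
    obtain ⟨m, hm, h2⟩ := hP g
    have h3 : m⁻¹ * (g * c * g⁻¹) * m ∈ centralizer (P : Set G) := by
      rwa [← conj_mem_cjs (g := m), ← centralizer_cjs, ← h2, centralizer_cjs,
        show m * (m⁻¹ * (g * c * g⁻¹) * m) * m⁻¹ = g * c * g⁻¹ by group, conj_mem_cjs]
    rw [show g * (n * c) * g⁻¹ = g * n * g⁻¹ * m * (m⁻¹ * (g * c * g⁻¹) * m) * m⁻¹ by group]
    exact mul_mem (mul_mem_sup (mul_mem (‹N.Normal›.conj_mem n hn g) hm) h3)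
      (mem_sup_left (inv_mem hm))⟩
  have := Fintype.ofFinite H
  have hT : ∀ n, (NormalEmb.sub N).ι n ∈ H := fun n => mem_sup_left n.2
  have h : DSet p ((NormalEmb.sub N).restrict H hT) (P.subgroupOf H) :=
    DSet.restrict ⟨by simpa using hPN, by simpa using h1⟩ hT
  have hsup := sup_restrict (P := P) hT (by simp [H])
  obtain ⟨η, h2, h3, h4, h5⟩ := h.exists_good hM hsup hθ (fun g => hi g) hd ho
  have hη := Char.irr_isCharacter η.2
  have hc : ∀ {n}, ¬ p ∣ n → (NormalEmb.sub H).index.Coprime n := fun hn => by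
    rw [NormalEmb.index_sub, ha]
    exact Nat.Coprime.pow_left a ((Nat.Prime.coprime_iff_not_dvd hp).2 hn)
  obtain ⟨χ, ⟨hχ, h6, h7⟩, h8⟩ := (NormalEmb.sub H).exists_canonical_ext η.2 (fun g => by
    refine funext_iff.1 (h.eq_of_good hM hsup hθ hd hη (Char.char_comp hη
      ((NormalEmb.sub H).c g).toMonoidHom) h3 (fun n => (h3 ((NormalEmb.sub N).c g n)).trans
        (hi g n)) h4 (h4.comp hM _ ?_) h5 fun h6 => h5 (h6.trans ?_))
    · refine eq_of_le_of_card_ge ?_ (card_map_of_injective (MulEquiv.injective _)).ge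
      rintro _ ⟨_, ⟨n, rfl⟩, rfl⟩
      exact ⟨(NormalEmb.sub N).c g n, rfl⟩
    · refine (detOrder_dvd_iff _ _).2 fun x => ?_
      exact (congrArg (· ^ _) (congrFun (detChar_comp hη ((NormalEmb.sub H).c g).toMonoidHom)
        x)).trans (detChar_pow_detOrder _ _))
    (d := charDegree (θ : N → ℂ)) (by rw [BlockB.irr_charDegree_eq, ← h3, map_one])
    (hc (hp.prime.not_dvd_mul h5 hd))
  refine ⟨⟨χ, hχ⟩, mem_pb_of_over hM (fun x => mem_of_index_eq_pow ⟨a, ha⟩ x (mem_top x)) h2 ?_,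
    fun n => (h6 ⟨n, hT n⟩).trans (h3 n), fun σ hσ => ?_⟩
  · rw [show (fun n : H => ((⟨χ, hχ⟩ : IrrCharacter G) : G → ℂ) n) = η from funext h6,
      Char.inner_irr_self η.2]
    exact one_ne_zero
  have h9 := h.eq_of_good hM hsup hθ hd hη (Char.char_map hη σ.toRingHom) h3
    (fun n => (congrArg σ (h3 n)).trans (hσ n)) h4 (h4.map hM σ) h5
    fun h6 => h5 (h6.trans (detOrder_map_dvd hη _))
  have h10 := detOrder_map_dvd (Char.irr_isCharacter hχ) σ.toRingHom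
  rw [h7] at h10
  exact funext_iff.1 (h8 _ (Char.irr_map hχ σ.toRingHom)
    (fun x => (congrArg σ (h6 x)).trans (congrFun h9 x)) (hc fun h9 => h5 (h9.trans h10)))

end CF.Block
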