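import Cfsg.Agent.Char.More

/-!
# Characters of symmetric groups, I: cycle polynomials and the Frobenius formula
-/

namespace CF.Block.Sn

open Cfsg Equiv Finset
open scoped ComplexConjugate TensorProduct

section Cyc

variable {R S : Type*} [CommRing R] [CommRing S] {J J' α β : Type*} [Fintype J] [Fintype J']
  [Fintype α] [DecidableEq α] [Fintype β] [DecidableEq β]

open Classical in
/-- The sum over `σ`-invariant colourings; the product of power sums over the cycles of `σ`. -/
noncomputable def cyc (z : J → R) (σ : Perm α) : R :=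
  ∑ f : α → J, if f ∘ σ = f then ∏ a, z (f a) else 0

/-- Power sums. -/
def ps (z : J → R) (k : ℕ) : R := ∑ j, z j ^ k

theorem cyc_permCongr (z : J → R) (e : α ≃ β) (σ : Perm α) :
    cyc z (e.permCongr σ) = cyc z σ := by
  classical
  unfold cyc
  refine Fintype.sum_equiv (e.symm.arrowCongr (Equiv.refl J)) _ _ fun f => ?_
  have h1 : (e.symm.arrowCongr (Equiv.refl J)) f = f ∘ e := by ext a; simp
  rw [h1]
  refine if_congr ⟨fun h => ?_, fun h => ?_⟩ (Fintype.prod_equiv e _ _ fun a => rfl).symm rfl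
  · ext a; simpa using congrFun h (e a)
  · ext b; simpa using congrFun h (e.symm b)

theorem cyc_conj (z : J → R) (σ τ : Perm α) : cyc z (τ * σ * τ⁻¹) = cyc z σ := by
  rw [← cyc_permCongr z τ σ]; rfl

theorem cyc_sumCongr (z : J → R) (σ : Perm α) (τ : Perm β) :
    cyc z (Perm.sumCongr σ τ) = cyc z σ * cyc z τ := by
  classical
  unfold cyc
  rw [Finset.sum_mul_sum, ← Fintype.sum_prod_type']
  refine Fintype.sum_equiv (sumArrowEquivProdArrow α β J) _ _ fun f => ?_
  have h1 : f ∘ Perm.sumCongr σ τ = f ↔ (f ∘ Sum.inl) ∘ σ = f ∘ Sum.inl ∧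
      (f ∘ Sum.inr) ∘ τ = f ∘ Sum.inr := by
    refine ⟨fun h => ⟨?_, ?_⟩, fun h => ?_⟩
    · ext a; simpa using congrFun h (Sum.inl a)
    · ext a; simpa using congrFun h (Sum.inr a)
    · ext (a | a)
      · simpa using congrFun h.1 a
      · simpa using congrFun h.2 a
  change _ = (if (f ∘ Sum.inl) ∘ σ = f ∘ Sum.inl then ∏ a, z (f (Sum.inl a)) else 0) *
    (if (f ∘ Sum.inr) ∘ τ = f ∘ Sum.inr then ∏ a, z (f (Sum.inr a)) else 0)
  rw [ite_zero_mul_ite_zero, Fintype.prod_sum_type]
  exact if_congr h1 rfl rfl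

theorem cyc_subtypeCongr (z : J → R) {q : α → Prop} [DecidablePred q] (σ : Perm {a // q a})
    (τ : Perm {a // ¬ q a}) : cyc z (σ.subtypeCongr τ) = cyc z σ * cyc z τ := by
  rw [← cyc_sumCongr, Perm.subtypeCongr, cyc_permCongr]

theorem cyc_prod (x : J → R) (y : J' → R) (σ : Perm α) :
    cyc (fun j : J × J' => x j.1 * y j.2) σ = cyc x σ * cyc y σ := by
  classical
  unfold cyc
  rw [Finset.sum_mul_sum, ← Fintype.sum_prod_type']
  refine Fintype.sum_equiv (arrowProdEquivProdArrow α (fun _ => J) (fun _ => J')) _ _ fun f => ?_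
  have h1 : f ∘ σ = f ↔ (Prod.fst ∘ f) ∘ σ = Prod.fst ∘ f ∧ (Prod.snd ∘ f) ∘ σ = Prod.snd ∘ f := by
    refine ⟨fun h => ⟨?_, ?_⟩, fun h => ?_⟩
    · ext a; exact congrArg Prod.fst (congrFun h a)
    · ext a; exact congrArg Prod.snd (congrFun h a)
    · ext a
      · exact congrFun h.1 a
      · exact congrFun h.2 a
  change _ = (if (Prod.fst ∘ f) ∘ σ = Prod.fst ∘ f then ∏ a, x (f a).1 else 0) *
    (if (Prod.snd ∘ f) ∘ σ = Prod.snd ∘ f then ∏ a, y (f a).2 else 0)
  rw [ite_zero_mul_ite_zero, Finset.prod_mul_distrib]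
  by_cases h : f ∘ σ = f
  · rw [if_pos h, if_pos (h1.1 h)]
  · rw [if_neg h, if_neg (mt h1.2 h)]

theorem map_cyc {F : Type*} [FunLike F R S] [RingHomClass F R S] (φ : F) (z : J → R)
    (σ : Perm α) : φ (cyc z σ) = cyc (fun j => φ (z j)) σ := by
  classical
  unfold cyc
  rw [map_sum]
  refine Finset.sum_congr rfl fun f _ => ?_
  split_ifs
  · rw [map_prod]
  · rw [map_zero]

theorem map_ps {F : Type*} [FunLike F R S] [RingHomClass F R S] (φ : F) (z : J → R)
    (k : ℕ) : φ (ps z k) = ps (fun j => φ (z j)) k := by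
  simp only [ps, map_sum, map_pow]

theorem ps_prod (x : J → R) (y : J' → R) (k : ℕ) :
    ps (fun j : J × J' => x j.1 * y j.2) k = ps x k * ps y k := by
  simp only [ps, Finset.sum_mul_sum, ← Fintype.sum_prod_type', mul_pow]

theorem cyc_one (z : J → R) : cyc z (1 : Perm α) = ps z 1 ^ Fintype.card α := by
  classical
  unfold cyc ps
  simp only [Perm.coe_one, Function.comp_id, if_true, pow_one]
  rw [← Finset.card_univ, ← Finset.prod_const, Finset.prod_univ_sum]
  simp

theorem cyc_of_isEmpty [IsEmpty α] (z : J → R) (σ : Perm α) : cyc z σ = 1 := by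
  rw [Subsingleton.elim σ 1, cyc_one, Fintype.card_eq_zero, pow_zero]

theorem comp_zpow_eq {f : α → J} {σ : Perm α} (h : f ∘ σ = f) (n : ℤ) (a : α) :
    f ((σ ^ n) a) = f a := by
  have h1 : ∀ a, f (σ a) = f a := congrFun h
  induction n using Int.induction_on generalizing a with
  | zero => simp
  | succ n ih => rw [zpow_add_one, Perm.mul_apply, ih, h1]
  | pred n ih =>
    rw [zpow_sub_one, Perm.mul_apply, ih, ← h1 (σ⁻¹ a)]; simp

theorem cyc_of_trans [Nonempty α] (z : J → R) {σ : Perm α} (h : ∀ a b, σ.SameCycle a b) :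
    cyc z σ = ps z (Fintype.card α) := by
  classical
  unfold cyc ps
  obtain ⟨a₀⟩ := ‹Nonempty α›
  rw [← Finset.sum_filter]
  symm
  refine Finset.sum_bij' (fun j _ => fun _ => j) (fun f _ => f a₀) ?_ ?_ ?_ ?_ ?_
  · intro j _; simp only [mem_filter, mem_univ, true_and]; rfl
  · intro f _; exact mem_univ _
  · intro j _; rfl
  · intro f hf
    ext b
    obtain ⟨n, rfl⟩ := h a₀ b
    exact (comp_zpow_eq (mem_filter.1 hf).2 n a₀).symm
  · intro j _; simp

theorem sum_cyc_congr (z : J → R) (e : α ≃ β) {M : Type*} [AddCommMonoid M] (F : R → M) :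
    ∑ σ : Perm α, F (cyc z σ) = ∑ σ : Perm β, F (cyc z σ) :=
  Fintype.sum_equiv e.permCongr _ _ fun σ => by rw [cyc_permCongr]

end Cyc

section Poly

/-- Polynomials in variables indexed by `I`. -/
abbrev Poly (I : Type*) := AddMonoidAlgebra ℂ (I → ℕ)

variable {I α β : Type*} [Fintype I] [DecidableEq I] [Fintype α] [DecidableEq α]
  [Fintype β] [DecidableEq β]

/-- Monomials. -/
noncomputable def mon (γ : I → ℕ) : Poly I := AddMonoidAlgebra.single γ 1

/-- Variables. -/
noncomputable def X (i : I) : Poly I := mon (Pi.single i 1)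

/-- Coefficients. -/
noncomputable def co (γ : I → ℕ) : Poly I →ₗ[ℂ] ℂ where
  toFun F := F.coeff γ
  map_add' _ _ := rfl
  map_smul' _ _ := rfl

omit [Fintype I] [DecidableEq I] in
theorem poly_ext {F G : Poly I} (h : ∀ γ, co γ F = co γ G) : F = G := by
  ext γ; exact h γ

omit [DecidableEq I] in
theorem co_mon (γ δ : I → ℕ) : co γ (mon δ) = if δ = γ then 1 else 0 :=
  Finsupp.single_apply

omit [Fintype I] [DecidableEq I] in
theorem mon_add (γ δ : I → ℕ) : mon (γ + δ) = mon γ * mon δ := by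
  simp [mon, AddMonoidAlgebra.single_mul_single]

omit [Fintype I] [DecidableEq I] in
theorem mon_zero : mon (0 : I → ℕ) = 1 := rfl

omit [Fintype I] [DecidableEq I] in
theorem mon_sum {ι : Type*} (s : Finset ι) (γ : ι → I → ℕ) :
    mon (∑ i ∈ s, γ i) = ∏ i ∈ s, mon (γ i) := by
  simp [mon, AddMonoidAlgebra.prod_single]

omit [Fintype I] in
theorem X_pow (i : I) (k : ℕ) : X i ^ k = mon (Pi.single i k) := by
  simp only [X, mon, AddMonoidAlgebra.single_pow, one_pow]
  congr 1
  rw [← Pi.single_smul]; simp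

omit [Fintype I] [DecidableEq I] in
theorem co_mon_mul (γ δ : I → ℕ) (F : Poly I) [Decidable (δ ≤ γ)] :
    co γ (mon δ * F) = if δ ≤ γ then co (γ - δ) F else 0 := by
  split_ifs with h
  · refine (AddMonoidAlgebra.coeff_single_mul_eq_mul_coeff (γ - δ) fun m _ => ?_).trans (one_mul _)
    constructor
    · rintro rfl; simp
    · rintro rfl; exact add_tsub_cancel_of_le h
  · refine AddMonoidAlgebra.coeff_single_mul_of_forall_add_ne _ _ fun d hd => h ?_
    rw [← hd]; exact le_self_add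

/-- Moving the bead at position `i` down by `k`. -/
def dn (γ : I → ℕ) (i : I) (k : ℕ) : I → ℕ := Function.update γ i (γ i - k)

/-- Moving the bead at position `i` up by `k`. -/
def up (γ : I → ℕ) (i : I) (k : ℕ) : I → ℕ := Function.update γ i (γ i + k)

omit [Fintype I] in
@[simp] theorem dn_self (γ : I → ℕ) (i : I) (k : ℕ) : dn γ i k i = γ i - k := by simp [dn]

omit [Fintype I] in
theorem dn_of_ne (γ : I → ℕ) {i j : I} (h : j ≠ i) (k : ℕ) : dn γ i k j = γ j := by simp [dn, h]

omit [Fintype I] in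
@[simp] theorem up_self (γ : I → ℕ) (i : I) (k : ℕ) : up γ i k i = γ i + k := by simp [up]

omit [Fintype I] in
theorem up_of_ne (γ : I → ℕ) {i j : I} (h : j ≠ i) (k : ℕ) : up γ i k j = γ j := by simp [up, h]

omit [Fintype I] in
theorem dn_up (γ : I → ℕ) (i : I) (k : ℕ) : dn (up γ i k) i k = γ := by
  ext j; by_cases h : j = i
  · subst h; simp
  · rw [dn_of_ne _ h, up_of_ne _ h]

omit [Fintype I] in
theorem up_dn {γ : I → ℕ} {i : I} {k : ℕ} (h : k ≤ γ i) : up (dn γ i k) i k = γ := by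
  ext j; by_cases h' : j = i
  · subst h'; simp; omega
  · rw [up_of_ne _ h', dn_of_ne _ h']

theorem sum_up (γ : I → ℕ) (i : I) (k : ℕ) : ∑ j, up γ i k j = ∑ j, γ j + k := by
  rw [up, Finset.sum_update_of_mem (mem_univ i), ← Finset.add_sum_erase _ γ (mem_univ i),
    sdiff_singleton_eq_erase]
  ring

theorem sum_dn {γ : I → ℕ} {i : I} {k : ℕ} (h : k ≤ γ i) : ∑ j, dn γ i k j + k = ∑ j, γ j := by
  rw [← sum_up _ i, up_dn h]

omit [Fintype I] in
theorem co_X_pow_mul (γ : I → ℕ) (i : I) (k : ℕ) (F : Poly I) :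
    co γ (X i ^ k * F) = if k ≤ γ i then co (dn γ i k) F else 0 := by
  classical
  rw [X_pow, co_mon_mul]
  have h1 : Pi.single i k ≤ γ ↔ k ≤ γ i := by
    refine ⟨fun h => by simpa using h i, fun h j => ?_⟩
    by_cases hj : j = i
    · subst hj; simpa using h
    · simp [hj]
  have h2 : γ - Pi.single i k = dn γ i k := by
    ext j; by_cases hj : j = i
    · subst hj; simp
    · simp [hj, dn_of_ne]
  rw [h2]; exact if_congr h1 rfl rfl

/-- The Murnaghan–Nakayama step. -/
theorem co_ps_mul (γ : I → ℕ) (k : ℕ) (F : Poly I) :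
    co γ (ps X k * F) = ∑ i, if k ≤ γ i then co (dn γ i k) F else 0 := by
  simp only [ps, Finset.sum_mul, map_sum, co_X_pow_mul]

/-- The content of a colouring. -/
def cont (f : α → I) (i : I) : ℕ := #{a | f a = i}

omit [DecidableEq α] in
theorem sum_cont (f : α → I) : ∑ i, cont f i = Fintype.card α := by
  rw [← Finset.card_univ, Finset.card_eq_sum_card_fiberwise (f := f) (t := univ) (by simp)]
  rfl

omit [DecidableEq α] [Fintype I] in
theorem prod_X (f : α → I) : ∏ a, X (f a) = mon (cont f) := by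
  simp only [X, ← mon_sum]
  congr 1
  ext i
  simp [cont, Finset.sum_apply, Pi.single_apply, eq_comm]

theorem co_cyc (γ : I → ℕ) (σ : Perm α) :
    co γ (cyc X σ) = #{f : α → I | f ∘ σ = f ∧ cont f = γ} := by
  classical
  unfold cyc
  rw [map_sum, Finset.card_filter]
  push_cast
  refine Finset.sum_congr rfl fun f _ => ?_
  by_cases h : f ∘ σ = f
  · rw [if_pos h, prod_X, co_mon]; simp [h]
  · simp [h]

omit [Fintype I] [DecidableEq α] [DecidableEq β] in
theorem cont_comp (f : α → I) (e : β ≃ α) : cont (f ∘ e) = cont f := by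
  ext i
  exact Finset.card_equiv e fun a => by simp

/-- Colourings with a given content. -/
def Tab (α : Type*) [Fintype α] (γ : I → ℕ) := {f : α → I // cont f = γ}

instance instFiniteTab (γ : I → ℕ) : Finite (Tab α γ) := Subtype.finite

instance instMulActionTab (γ : I → ℕ) : MulAction (Perm α) (Tab α γ) where
  smul σ f := ⟨f.1 ∘ (σ⁻¹ : Perm α), (cont_comp f.1 (σ⁻¹ : Perm α)).trans f.2⟩
  one_smul _ := rfl
  mul_smul _ _ _ := rfl

omit [Fintype I] [DecidableEq α] in
theorem Tab.smul_val {γ : I → ℕ} (σ : Perm α) (f : Tab α γ) : (σ • f).1 = f.1 ∘ (σ⁻¹ : Perm α) :=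
  rfl

theorem co_cyc_eq_fixedBy (γ : I → ℕ) (σ : Perm α) :
    co γ (cyc X σ) = Nat.card (MulAction.fixedBy (Tab α γ) σ) := by
  classical
  rw [co_cyc, ← Fintype.card_coe, ← Nat.card_eq_fintype_card]
  congr 1
  refine Nat.card_congr ⟨fun f => ⟨⟨f.1, (mem_filter.1 f.2).2.2⟩, ?_⟩,
    fun f => ⟨f.1.1, mem_filter.2 ⟨mem_univ _, ?_, f.1.2⟩⟩, fun _ => rfl, fun _ => rfl⟩
  · refine Subtype.ext ?_
    have h := (mem_filter.1 f.2).2.1
    ext a
    change f.1 (σ⁻¹ a) = f.1 a
    simpa using (congrFun h (σ⁻¹ a)).symm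
  · have h := congrArg Subtype.val f.2
    ext a
    simpa [Tab.smul_val] using (congrFun h (σ a)).symm

theorem char_co_cyc (γ : I → ℕ) : IsCharacter (Perm α) fun σ => co γ (cyc X σ) := by
  simp only [co_cyc_eq_fixedBy]
  exact Char.char_fixedBy _

omit [Fintype I] [DecidableEq α] in
theorem Tab.pretrans (γ : I → ℕ) : MulAction.IsPretransitive (Perm α) (Tab α γ) := by
  classical
  refine ⟨fun f g => ?_⟩
  have h : ∀ i, Fintype.card {a // g.1 a = i} = Fintype.card {a // f.1 a = i} := fun i => by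
    rw [Fintype.card_subtype, Fintype.card_subtype]
    exact (congrFun g.2 i).trans (congrFun f.2 i).symm
  let e : Perm α := Equiv.ofFiberEquiv fun i => Fintype.equivOfCardEq (h i)
  refine ⟨e⁻¹, Subtype.ext ?_⟩
  ext a
  exact Equiv.ofFiberEquiv_map (fun i => Fintype.equivOfCardEq (h i)) a

omit [DecidableEq α] in
theorem Tab.nonempty {γ : I → ℕ} (h : ∑ i, γ i = Fintype.card α) : Nonempty (Tab α γ) := by
  have h1 : Fintype.card α = Fintype.card (Σ i, Fin (γ i)) := by simp [h]
  let e := Fintype.equivOfCardEq h1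
  refine ⟨⟨Sigma.fst ∘ e, ?_⟩⟩
  rw [cont_comp]
  ext i
  rw [cont, ← Fintype.card_subtype, Fintype.card_congr (Equiv.sigmaSubtype i)]
  simp

theorem sum_co_cyc (γ : I → ℕ) : ∑ σ : Perm α, co γ (cyc X σ) =
    if ∑ i, γ i = Fintype.card α then ((Fintype.card α).factorial : ℂ) else 0 := by
  split_ifs with h
  · have := Tab.nonempty h
    have := Tab.pretrans (α := α) γ
    have h1 := Char.inner_fixedBy_one_of_pretransitive (G := Perm α) (Tab α γ)
    simp only [classInner, map_one, mul_one, ← co_cyc_eq_fixedBy, Nat.card_eq_fintype_card,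
      Fintype.card_perm] at h1
    have h2 : ((Fintype.card α).factorial : ℂ) ≠ 0 := by exact_mod_cast Nat.factorial_ne_zero _
    field_simp at h1
    exact h1
  · refine Finset.sum_eq_zero fun σ _ => ?_
    rw [co_cyc, Nat.cast_eq_zero, card_eq_zero, filter_eq_empty_iff]
    rintro f - ⟨-, rfl⟩
    exact h (sum_cont f)

theorem co_cyc_eq_zero {γ : I → ℕ} (h : ∑ i, γ i ≠ Fintype.card α) (σ : Perm α) :
    co γ (cyc X σ) = 0 := by
  rw [co_cyc, Nat.cast_eq_zero, card_eq_zero, filter_eq_empty_iff]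
  rintro f - ⟨-, rfl⟩
  exact h (sum_cont f)

/-- The complete homogeneous symmetric function, as an average of cycle polynomials. -/
noncomputable def hh {R J : Type*} [CommRing R] [Algebra ℂ R] [Fintype J] (z : J → R) (n : ℕ) :
    R := (n.factorial : ℂ)⁻¹ • ∑ σ : Perm (Fin n), cyc z σ

theorem co_hh (γ : I → ℕ) (n : ℕ) : co γ (hh X n) = if ∑ i, γ i = n then 1 else 0 := by
  rw [hh, map_smul, map_sum, sum_co_cyc, Fintype.card_fin, smul_eq_mul]
  have h2 : (n.factorial : ℂ) ≠ 0 := by exact_mod_cast Nat.factorial_ne_zero _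
  split_ifs
  · exact inv_mul_cancel₀ h2
  · exact mul_zero _

theorem hh_rec_X (n : ℕ) : (n : ℂ) • hh (X : I → Poly I) n =
    ∑ k ∈ Finset.Icc 1 n, ps X k * hh X (n - k) := by
  refine poly_ext fun γ => ?_
  rw [map_smul, map_sum, co_hh]
  simp only [co_ps_mul, co_hh]
  rw [Finset.sum_comm]
  split_ifs with h
  · rw [smul_eq_mul, mul_one, ← h, Nat.cast_sum]
    refine Finset.sum_congr rfl fun i _ => ?_
    have hi : γ i ≤ ∑ j, γ j := Finset.single_le_sum (fun _ _ => Nat.zero_le _) (mem_univ i)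
    rw [← Finset.sum_filter, Finset.sum_congr (s₂ := Finset.Icc 1 (γ i)) (g := fun _ => 1)]
    · simp
    · ext k; simp only [mem_filter, mem_Icc]; omega
    · intro k hk
      have := sum_dn (mem_Icc.1 hk).2
      rw [if_pos (by omega)]
  · rw [smul_zero]
    refine (Finset.sum_eq_zero fun i _ => Finset.sum_eq_zero fun k hk => ?_).symm
    split_ifs with h1 h2
    · have := sum_dn h1
      have := mem_Icc.1 hk
      omega
    · rfl
    · rfl

theorem hh_rec {R : Type*} [CommRing R] [Algebra ℂ R] (z : I → R) (n : ℕ) :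
    (n : ℂ) • hh z n = ∑ k ∈ Finset.Icc 1 n, ps z k * hh z (n - k) := by
  let φ : Poly I →ₐ[ℂ] R := AddMonoidAlgebra.lift ℂ R (I → ℕ)
    { toFun := fun γ => ∏ i, z i ^ γ.toAdd i
      map_one' := by simp
      map_mul' := fun a b => by simp [pow_add, Finset.prod_mul_distrib] }
  have h1 : ∀ i, φ (X i) = z i := fun i => by
    simp only [φ, X, mon, AddMonoidAlgebra.lift_single, one_smul, MonoidHom.coe_mk,
      OneHom.coe_mk, toAdd_ofAdd]
    rw [Finset.prod_eq_single i] <;> simp +contextual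
  have h2 : ∀ m, φ (hh X m) = hh z m := fun m => by
    simp only [hh, map_smul, map_sum, map_cyc, h1]
  have := congrArg φ (hh_rec_X (I := I) n)
  simpa only [map_smul, map_sum, map_mul, h2, map_ps, h1] using this

/-- The averaged bilinear recursion. -/
theorem bil_rec {M : Type*} [AddCommGroup M] [Module ℂ M] (b : Poly I →ₗ[ℂ] Poly I →ₗ[ℂ] M)
    (n : ℕ) : (n : ℂ) • (n.factorial : ℂ)⁻¹ • ∑ σ : Perm (Fin n), b (cyc X σ) (cyc X σ) =
      ∑ k ∈ Finset.Icc 1 n, ((n - k).factorial : ℂ)⁻¹ •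
        ∑ τ : Perm (Fin (n - k)), b (ps X k * cyc X τ) (ps X k * cyc X τ) := by
  let x : I → Poly I ⊗[ℂ] Poly I := fun i => Algebra.TensorProduct.includeLeft (S := ℂ) (X i)
  let y : I → Poly I ⊗[ℂ] Poly I := fun i => Algebra.TensorProduct.includeRight (X i)
  have h1 : ∀ {m : ℕ} (σ : Perm (Fin m)), cyc (fun j : I × I => x j.1 * y j.2) σ =
      cyc X σ ⊗ₜ cyc X σ := fun σ => by
    rw [cyc_prod, ← map_cyc, ← map_cyc]; simp
  have h2 : ∀ k, ps (fun j : I × I => x j.1 * y j.2) k = ps X k ⊗ₜ ps X k := fun k => by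
    rw [ps_prod, ← map_ps, ← map_ps]; simp
  have := congrArg (TensorProduct.lift b) (hh_rec (fun j : I × I => x j.1 * y j.2) n)
  simpa only [hh, h1, h2, map_smul, map_sum, mul_smul_comm, Finset.mul_sum,
    Algebra.TensorProduct.tmul_mul_tmul, TensorProduct.lift.tmul] using this

end Poly

end CF.Block.Sn
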