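import Cfsg.Agent.Block.Sn9

/-!
# Characters of symmetric groups, X: heights
-/

namespace CF.Block.Sn

open Cfsg Equiv Finset MonoidAlgebra Module

variable {I α : Type*} [Fintype I] [DecidableEq I] [Fintype α] [DecidableEq α] {p : ℕ}
  {κ : I → ℕ}

omit [DecidableEq I] in
theorem dprod_dvd (hp : 0 < p) {b : I → ℕ} (hb : Function.Injective b) :
    dprod p b ∣ ∏ i, (b i / p).factorial := by
  classical
  refine Finset.prod_dvd_prod_of_dvd _ _ fun i _ => ?_
  rw [← Finset.prod_Ico_id_eq_factorial, ← Finset.prod_image (g := fun j => b i / p - b j / p)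
    (f := fun x => x) fun j hj l hl h => ?_]
  · refine Finset.prod_dvd_prod_of_subset _ _ _ fun x hx => ?_
    obtain ⟨j, hj, rfl⟩ := mem_image.1 hx
    have := div_lt_div_of_mod (mem_filter.1 hj).2.1 (mem_filter.1 hj).2.2 hp
    exact mem_Ico.2 ⟨Nat.sub_pos_of_lt this, Nat.lt_succ_of_le (Nat.sub_le _ _)⟩
  · have h1 := div_lt_div_of_mod (mem_filter.1 hj).2.1 (mem_filter.1 hj).2.2 hp
    have h2 := div_lt_div_of_mod (mem_filter.1 hl).2.1 (mem_filter.1 hl).2.2 hp
    exact hb (eq_of_mod_div ((mem_filter.1 hj).2.1.trans (mem_filter.1 hl).2.1.symm)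
      (by simp only at h; omega))

theorem np_dvd (hp : 0 < p) {b : I → ℕ} (hb : Function.Injective b) :
    np p b ∣ (wt p b).factorial := by
  obtain ⟨c, hc⟩ := dprod_dvd hp hb
  have h := (np_spec hp hb).2
  rw [hc, mul_left_comm, mul_comm _ (dprod p b)] at h
  exact ⟨c, (Nat.eq_of_mul_eq_mul_left (Nat.pos_of_ne_zero (dprod_ne_zero hp b)) h).symm⟩

variable (p κ) in
/-- Moving the beads of `κ` up along their runners. -/
def lf (a : I → ℕ) (i : I) : ℕ := κ i + p * a i

variable (p κ) in
/-- Top beads. -/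
def Top (i : I) : Prop := ∀ j, κ j % p = κ i % p → κ j ≤ κ i

omit [Fintype I] [DecidableEq I] in
theorem lf_mod (a : I → ℕ) (i : I) : lf p κ a i % p = κ i % p := by simp [lf]

omit [DecidableEq I] in
theorem sum_lf (a : I → ℕ) : ∑ i, lf p κ a i = ∑ i, κ i + p * ∑ i, a i := by
  simp [lf, sum_add_distrib, mul_sum]

theorem co_lf_step (hp : 0 < p) (hκ : IsCore p κ) {F : Poly I} (hF : AntiP F) {a : I → ℕ} {k : ℕ}
    (H : ∀ i j, a i < k → κ j % p = κ i % p → κ j + p * k = κ i + p * a i → a j = 0) :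
    co (lf p κ a) (ps X (p * k) * F) =
      ∑ i, if k ≤ a i then co (lf p κ (dn a i k)) F else 0 := by
  rw [co_ps_mul]
  refine Finset.sum_congr rfl fun i _ => ?_
  by_cases h1 : k ≤ a i
  · have h2 := Nat.mul_le_mul_left p h1
    rw [if_pos h1, if_pos (by rw [lf]; omega)]
    congr 2
    funext j
    by_cases h : j = i
    · subst h; simp only [dn_self, lf, Nat.mul_sub]; omega
    · simp only [dn_of_ne _ h, lf]
  rw [if_neg h1]
  split_ifs with h2
  · have h3 := Nat.mul_lt_mul_of_pos_left (not_le.1 h1) hp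
    have h4 := dn_mod (dvd_mul_right p k) h2 i
    rw [dn_self, lf_mod] at h4
    obtain ⟨j, hj⟩ := hκ.exists_eq_of_le h4 (by rw [lf]; omega)
    rw [lf] at h2 hj h4
    have h5 : j ≠ i := by rintro rfl; omega
    refine hF.eq_zero fun h => h5 (h ?_)
    rw [dn_of_ne _ h5, dn_self, lf, lf, H i j (not_le.1 h1) (hj ▸ h4) (by omega), hj]; rfl
  · rfl

theorem co_lf_step_top (hp : 0 < p) (hκ : IsCore p κ) {F : Poly I} (hF : AntiP F) {a : I → ℕ}
    (ha : ∀ i, a i ≠ 0 → Top p κ i) (k : ℕ) : co (lf p κ a) (ps X (p * k) * F) =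
      ∑ i, if k ≤ a i then co (lf p κ (dn a i k)) F else 0 :=
  co_lf_step hp hκ hF fun i j h1 h2 h3 => by_contra fun h => by
    have h4 := ha j h i h2.symm
    have h5 := Nat.mul_lt_mul_of_pos_left h1 hp
    omega

omit [Fintype I] in
theorem top_dn {a : I → ℕ} (ha : ∀ i, a i ≠ 0 → Top p κ i) (i : I) (k : ℕ) (j : I)
    (h : dn a i k j ≠ 0) : Top p κ j := ha j fun h0 => h (by
  by_cases hj : j = i
  · subst hj; simp [h0]
  · rw [dn_of_ne _ hj, h0])

theorem AntiP.ps_pow_mul {F : Poly I} (h : AntiP F) (k w : ℕ) : AntiP (ps X k ^ w * F) := by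
  induction w with
  | zero => simpa using h
  | succ w ih => rw [pow_succ', mul_assoc]; exact ih.ps_mul k

theorem prod_factorial_dn {a : I → ℕ} {i : I} (h : 1 ≤ a i) :
    ∏ j, (a j).factorial = a i * ∏ j, (dn a i 1 j).factorial := by
  rw [← Finset.mul_prod_erase _ _ (mem_univ i), ← Finset.mul_prod_erase _ _ (mem_univ i), dn_self,
    ← mul_assoc, Nat.mul_factorial_pred (by omega)]
  exact congrArg _ (Finset.prod_congr rfl fun j hj => by rw [dn_of_ne _ (ne_of_mem_erase hj)])

theorem co_lf_top (hp : 0 < p) (hκ : IsCore p κ) (w : ℕ) : ∀ {a : I → ℕ},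
    (∀ i, a i ≠ 0 → Top p κ i) → ∑ i, a i = w →
      co (lf p κ a) (ps X p ^ w * alt κ) * (∏ i, (a i).factorial : ℕ) = w.factorial := by
  induction w with
  | zero =>
    intro a _ h
    obtain rfl : a = 0 := funext fun i => Finset.sum_eq_zero_iff.1 h i (mem_univ i)
    rw [show lf p κ 0 = κ from funext fun i => by simp [lf]]
    simpa [eps] using eps_self hκ.inj
  | succ w ih =>
    intro a ha h
    have h1 := co_lf_step_top hp hκ ((antiP_alt κ).ps_pow_mul p w) ha 1
    rw [mul_one] at h1
    rw [pow_succ', mul_assoc, h1, Finset.sum_mul, Nat.factorial_succ, ← h, Nat.cast_mul,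
      Nat.cast_sum, Finset.sum_mul]
    refine Finset.sum_congr rfl fun i _ => ?_
    split_ifs with h2
    · rw [prod_factorial_dn h2, Nat.cast_mul, mul_left_comm,
        ih (top_dn ha i 1) (by have := sum_dn h2; omega)]
    · simp [show a i = 0 by omega]

theorem co_lf_top' (hp : 0 < p) (hκ : IsCore p κ) {a : I → ℕ} (ha : ∀ i, a i ≠ 0 → Top p κ i)
    {w : ℕ} (h : ∑ i, a i = w) :
    co (lf p κ a) (ps X p ^ w * alt κ) = Nat.multinomial univ a := by
  have h1 := co_lf_top hp hκ w ha h
  rw [← h, ← Nat.multinomial_spec, Nat.cast_mul, mul_comm] at h1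
  rw [← h]
  exact mul_left_cancel₀ (Nat.cast_ne_zero.2 (prod_ne_zero_iff.2 fun _ _ =>
    Nat.factorial_ne_zero _)) h1

theorem co_lf_hook (hp : 0 < p) (hκ : IsCore p κ) {i j : I} (hi : Top p κ i) (hj : κ j + p = κ i)
    (n : ℕ) : co (lf p κ (Pi.single i n + Pi.single j 1)) (ps X p ^ (n + 1) * alt κ) = n := by
  have hij : j ≠ i := by rintro rfl; omega
  induction n with
  | zero =>
    exact (((antiP_alt κ).ps_pow_mul p 1).eq_zero fun h => hij (h (by simp [lf, hij.symm, hj]))).trans
      (by simp)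
  | succ n ih =>
    have h1 := co_lf_step hp hκ ((antiP_alt κ).ps_pow_mul p (n + 1)) (k := 1)
      (a := Pi.single i (n + 1) + Pi.single j 1) fun l l' h1 h2 h3 => by
        have h4 : l ≠ i := by rintro rfl; simp at h1
        have h5 : l ≠ j := by rintro rfl; simp at h1
        simp only [Pi.add_apply, Pi.single_eq_of_ne h4, Pi.single_eq_of_ne h5] at h3
        have h6 : l' ≠ i := by rintro rfl; have := hi l h2.symm; omega
        have h7 : l' ≠ j := by rintro rfl; exact h4 (hκ.inj (by omega))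
        simp [h6, h7]
    rw [mul_one] at h1
    rw [pow_succ', mul_assoc, h1, Fintype.sum_eq_add i j hij.symm fun l hl => by simp [hl.1, hl.2],
      if_pos (by simp [hij.symm]), if_pos (by simp)]
    have h2 : dn (Pi.single i (n + 1) + Pi.single j 1) i 1 = Pi.single i n + Pi.single j 1 := by
      funext l
      by_cases h : l = i
      · subst h; simp [hij.symm]
      · simp [dn_of_ne _ h, h]
    have h3 : dn (Pi.single i (n + 1) + Pi.single j 1) j 1 = Pi.single i (n + 1) := by
      funext l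
      by_cases h : l = j
      · subst h; simp [hij]
      · simp [dn_of_ne _ h, h]
    have h4 := co_lf_top hp hκ (n + 1) (a := Pi.single i (n + 1))
      (fun l hl => by_contra fun h => hl (Pi.single_eq_of_ne (by rintro rfl; exact h hi) _))
      (by simp)
    rw [Finset.prod_eq_single i (fun l _ hl => by simp [hl]) (by simp), Pi.single_eq_same,
      mul_eq_right₀ (Nat.cast_ne_zero.2 (Nat.factorial_ne_zero _))] at h4
    rw [h2, h3, ih, h4]; simp

theorem np_eq_of_co (hp : 0 < p) (hκ : IsCore p κ) {b : I → ℕ} (hr : ∀ i, b i % p = κ i % p)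
    {w n : ℕ} (hs : ∑ i, b i = ∑ i, κ i + p * w) (hn : n ≠ 0)
    (h : co b (ps X p ^ w * alt κ) = n) : Function.Injective b ∧ np p b = n := by
  have hb : Function.Injective b := by_contra fun hb =>
    hn (Nat.cast_eq_zero.1 (h.symm.trans (((antiP_alt κ).ps_pow_mul p w).eq_zero hb)))
  refine ⟨hb, ?_⟩
  obtain ⟨t, ht⟩ := hκ.exists_perm (isCore_core hp hb) fun i => by rw [core_mod, hr]
  rw [← hκ.wt_eq hp hb hr hs, mn_core hp hb (antiP_alt κ), ← ht] at h
  change _ * eps _ _ = _ at h
  rw [eps_comp_left, eps_self hκ.inj] at h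
  rcases sg_eq t with h1 | h1 <;> rw [h1] at h
  · exact_mod_cast (by simpa using h : (np p b : ℂ) = n)
  · have : np p b + n = 0 := by exact_mod_cast (by rw [← h]; ring : (np p b : ℂ) + n = 0)
    omega

omit [DecidableEq I] in
theorem exists_top {x : ℕ} (h : ∃ j, κ j = x) : ∃ i, κ i % p = x % p ∧ Top p κ i := by
  classical
  obtain ⟨j, rfl⟩ := h
  obtain ⟨i, h1, h2⟩ := Finset.exists_max_image (univ.filter fun i => κ i % p = κ j % p) κ
    ⟨j, by simp⟩
  exact ⟨i, (mem_filter.1 h1).2, fun l hl =>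
    h2 l (mem_filter.2 ⟨mem_univ _, hl.trans (mem_filter.1 h1).2⟩)⟩

omit [DecidableEq I] in
theorem exists_top_fun (h : ∀ x < p, ∃ j, κ j = x) {r : ℕ} (hr : r ≤ p) (x : Fin r → ℕ) :
    ∃ a : I → ℕ, (∀ i, a i ≠ 0 → Top p κ i) ∧ ∑ i, a i = ∑ j, x j ∧
      ∏ i, (a i).factorial = ∏ j, (x j).factorial ∧ ∀ j, ∃ i, a i = x j := by
  choose τ h1 h2 using fun j : Fin r => exists_top (p := p) (h j (j.2.trans_le hr))
  have h3 : Function.Injective τ := fun j l hjl => Fin.ext (by
    have := (h1 j).symm.trans (hjl ▸ h1 l)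
    rwa [Nat.mod_eq_of_lt (j.2.trans_le hr), Nat.mod_eq_of_lt (l.2.trans_le hr)] at this)
  refine ⟨Function.extend τ x 0, fun i hi => ?_, (Fintype.sum_of_injective τ h3 _ _
    (fun i hi => by rw [Function.extend_apply' _ _ _ hi]; rfl) fun j => (h3.extend_apply _ _ j).symm).symm,
    (Fintype.prod_of_injective τ h3 _ _ (fun i hi => by rw [Function.extend_apply' _ _ _ hi]; rfl)
      fun j => by rw [h3.extend_apply]).symm, fun j => ⟨τ j, h3.extend_apply _ _ j⟩⟩
  obtain ⟨j, rfl⟩ : ∃ j, τ j = i := by_contra fun h => hi (Function.extend_apply' _ _ _ h)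
  exact h2 j

theorem exists_three (hp : p.Prime) (w : ℕ) (h : p ≤ w) : ∃ a b c, a + b + c = w ∧
    w.factorial.factorization p = a.factorial.factorization p + b.factorial.factorization p +
      c.factorial.factorization p + 1 := by
  induction w using Nat.strong_induction_on with
  | _ w ih =>
    have h1 := Nat.div_add_mod w p
    have h2 := Nat.mod_lt w hp.pos
    rcases le_or_gt p (w / p) with h3 | h3
    · obtain ⟨a, b, c, h4, h5⟩ := ih _ (Nat.div_lt_self (hp.pos.trans_le h) hp.one_lt) h3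
      refine ⟨p * a, p * b, p * c + w % p, by rw [← h1, ← h4]; simp [mul_add, add_assoc], ?_⟩
      rw [factorization_factorial_eq hp, factorization_factorial_eq hp (p * a),
        factorization_factorial_eq hp (p * b), factorization_factorial_eq hp (p * c + _),
        Nat.mul_div_cancel_left _ hp.pos, Nat.mul_div_cancel_left _ hp.pos,
        Nat.mul_add_div hp.pos, Nat.div_eq_of_lt h2, add_zero]
      omega
    · have h4 : ∀ x < p, x.factorial.factorization p = 0 := fun x hx =>
        Nat.factorization_eq_zero_of_not_dvd (by rw [hp.dvd_factorial]; omega)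
      have h5 : w / p = (w - p) / p + 1 := (Nat.div_eq_sub_div hp.pos h)
      have := hp.pos
      refine ⟨p - 1, 1, w - p, by omega, ?_⟩
      rw [factorization_factorial_eq hp, factorization_factorial_eq hp (w - p), h4 _ h3,
        h4 (p - 1) (by omega), h4 1 hp.one_lt, h4 ((w - p) / p) (by omega)]
      omega

theorem factorization_two_eq_one {n : ℕ} (h : n % 4 = 2) : n.factorization 2 = 1 := by
  obtain ⟨c, rfl⟩ : ∃ c, n = 2 * (2 * c + 1) := ⟨n / 4, by omega⟩
  rw [Nat.factorization_mul two_ne_zero (by omega), Finsupp.add_apply,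
    Nat.prime_two.factorization_self, Nat.factorization_eq_zero_of_not_dvd (by omega)]

theorem exists_two (w : ℕ) (h : 2 ≤ w) (h4 : w % 4 ≠ 3) : ∃ a b, a + b = w ∧
    w.factorial.factorization 2 = a.factorial.factorization 2 + b.factorial.factorization 2 + 1 := by
  induction w using Nat.strong_induction_on with
  | _ w ih =>
    by_cases h2 : w % 4 = 2
    · obtain ⟨w, rfl⟩ : ∃ v, w = v + 1 := ⟨w - 1, by omega⟩
      refine ⟨1, w, add_comm _ _, ?_⟩
      rw [Nat.factorial_succ, Nat.factorization_mul (by omega) (Nat.factorial_ne_zero _),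
        Finsupp.add_apply, factorization_two_eq_one h2]
      simp [add_comm]
    · obtain ⟨a, b, h5, h6⟩ := ih (w / 2) (by omega) (by omega) (by omega)
      refine ⟨2 * a, 2 * b + w % 2, by omega, ?_⟩
      rw [factorization_factorial_eq Nat.prime_two, factorization_factorial_eq Nat.prime_two (2 * a),
        factorization_factorial_eq Nat.prime_two (2 * b + _), show 2 * a / 2 = a by omega,
        show (2 * b + w % 2) / 2 = b by omega]
      omega

end CF.Block.Sn
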