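import Cfsg.Agent.Block.Sn10

/-!
# Characters of symmetric groups, XI: minimal heights in blocks of alternating groups
-/

namespace CF.Block.Sn

open Cfsg Equiv Finset MonoidAlgebra Module

variable {I α : Type*} [Fintype I] [DecidableEq I] [Fintype α] [DecidableEq α] {p w m : ℕ}
  {M : Ideal AlgInt} {B : Set (IrrCharacter (Perm α))} {δ κ : I → ℕ}
  {e : (Fin w × ZMod p) ⊕ Fin m ≃ α} {b : Set (IrrCharacter (alternatingGroup α))}

theorem sign_emb {A B : Type*} [Fintype A] [DecidableEq A] [Fintype B] [DecidableEq B]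
    (e : A ⊕ B ≃ α) (a : Perm A) (b : Perm B) :
    Perm.sign (emb e (a, b)) = Perm.sign a * Perm.sign b := by
  rw [emb_apply, Perm.sign_permCongr, Perm.sign_sumCongr]

theorem cyc_uu [NeZero p] {R J : Type*} [CommRing R] [Fintype J] (z : J → R)
    (e : (Fin w × ZMod p) ⊕ Fin m ≃ α) :
    cyc z (uu e) = ps z p ^ w * cyc z (1 : Perm (Fin m)) := by
  rw [← cyc_u0, ← cyc_emb z e]; rfl

theorem exists_odd_four {v : ℕ} (hv : Even v) (h : Fintype.card α = m + 2 * (v + 2)) :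
    ∃ t : Perm α, t ∉ alternatingGroup α ∧ cyc (X : I → Poly I) t =
      ps X (2 * 2) * (ps X 2 ^ v * cyc X (1 : Perm (Fin m))) := by
  obtain ⟨e⟩ : Nonempty (ZMod 4 ⊕ ((Fin v × ZMod 2) ⊕ Fin m) ≃ α) :=
    ⟨Fintype.equivOfCardEq (by simp [h]; ring)⟩
  refine ⟨emb e (rot 4, uu (Equiv.refl _)), ?_, by rw [cyc_emb, cyc_rot, cyc_uu]⟩
  rw [Perm.mem_alternatingGroup, sign_emb, sign_uu, hv.neg_one_pow,
    show Perm.sign (rot 4) = -1 by decide]
  decide

namespace Dat

variable (h : Dat M B δ κ e)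
include h

theorem exists_eq {x : ℕ} (hx : Fintype.card α + x < Fintype.card I) : ∃ j, κ j = x := by
  by_contra! h0
  have := le_sum_of_missing h.core.inj h0
  have := h.sum
  have := h.card_eq
  omega

theorem exists_lab {c : I → ℕ} (hr : ∀ i, c i % p = κ i % p)
    (hs : ∑ i, c i = ∑ i, κ i + p * w) {n : ℕ} (hn : n ≠ 0)
    (hc : co c (ps X p ^ w * alt κ) = n) : ∃ χ ∈ B, Lab δ c (χ : Perm α → ℂ) ∧ np p c = n := by
  obtain ⟨h1, h2⟩ := np_eq_of_co h.mod.1.pos h.core hr hs hn hc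
  obtain ⟨χ, hχ⟩ := Adm.exists_lab (α := α) h.del ⟨h1, hs.trans h.sum'⟩
  exact ⟨χ, h.mem_of ⟨c, hχ, hr⟩, hχ, h2⟩

theorem exists_lab_top (hI : Fintype.card α + p ≤ Fintype.card I) {r : ℕ} (hr : r ≤ p)
    (x : Fin r → ℕ) (hx : ∑ j, x j = w)
    (h1 : w.factorial.factorization p = ∑ j, (x j).factorial.factorization p + 1) :
    ∃ a : I → ℕ, (∀ i, a i ≠ 0 → Top p κ i) ∧ ∑ i, a i = w ∧ (∀ j, ∃ i, a i = x j) ∧
      ∃ χ ∈ B, Lab δ (lf p κ a) (χ : Perm α → ℂ) ∧ (np p (lf p κ a)).factorization p = 1 := by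
  obtain ⟨a, h2, h3, h4, h5⟩ := exists_top_fun (fun y hy => h.exists_eq (by omega)) hr x
  rw [hx] at h3
  obtain ⟨χ, hχ, h6, h7⟩ := h.exists_lab (lf_mod a) (by rw [sum_lf, h3])
    (Nat.multinomial_pos _ _).ne' (co_lf_top' h.mod.1.pos h.core h2 h3)
  refine ⟨a, h2, h3, h5, χ, hχ, h6, ?_⟩
  have h8 := Nat.multinomial_spec univ a
  rw [h3, h4, ← h7] at h8
  rw [← h8, Nat.factorization_mul (prod_ne_zero_iff.2 fun _ _ => Nat.factorial_ne_zero _)
    (h7 ▸ (Nat.multinomial_pos _ _).ne'), Finsupp.add_apply,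
    Nat.factorization_prod_apply fun _ _ => Nat.factorial_ne_zero _] at h1
  omega

theorem exists_height_one (hI : Fintype.card α + 2 * p ≤ Fintype.card I) (hw : p ≤ w)
    (h3 : 3 ≤ w) : ∃ χ ∈ B, ∃ c, Lab δ c (χ : Perm α → ℂ) ∧ (∀ i, c i % p = κ i % p) ∧
      (np p c).factorization p = 1 ∧
        (p ≠ 2 ∨ ∃ t, t ∉ alternatingGroup α ∧ (χ : Perm α → ℂ) t ≠ 0) := by
  by_cases hp : p = 2
  swap
  · have := h.mod.1.two_le
    obtain ⟨x, y, z, h1, h2⟩ := exists_three h.mod.1 w hw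
    obtain ⟨a, -, -, -, χ, hχ, h4, h5⟩ := h.exists_lab_top (by omega) (r := 3) (by omega)
      ![x, y, z] (by simpa [Fin.sum_univ_three] using h1) (by simpa [Fin.sum_univ_three] using h2)
    exact ⟨χ, hχ, _, h4, lf_mod a, h5, Or.inl hp⟩
  subst hp
  have hodd : Odd w → ∀ χ ∈ B, ∃ t, t ∉ alternatingGroup α ∧ (χ : Perm α → ℂ) t ≠ 0 :=
    fun hw χ hχ => ⟨uu e, by simp [sign_uu, hw.neg_one_pow], h.apply_uu_ne_zero hχ⟩
  by_cases h4 : w % 4 = 3
  · obtain ⟨l, hl⟩ := h.exists_eq (x := 2) (by omega)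
    obtain ⟨i, h5, hi⟩ := exists_top (p := 2) ⟨l, hl⟩
    have h6 := hi l (by omega)
    obtain ⟨j, hj⟩ := h.core.exists_eq_of_le (x := κ i - 2) (i := i) (by omega) (by omega)
    obtain ⟨n, rfl⟩ : ∃ n, w = n + 1 := ⟨w - 1, by omega⟩
    obtain ⟨χ, hχ, h7, h8⟩ := h.exists_lab (lf_mod _) (by rw [sum_lf]; simp [sum_add_distrib])
      (by omega) (co_lf_hook two_pos h.core hi (j := j) (by omega) n)
    exact ⟨χ, hχ, _, h7, lf_mod _, by rw [h8, factorization_two_eq_one (by omega)],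
      Or.inr (hodd (Nat.odd_iff.2 (by omega)) χ hχ)⟩
  obtain ⟨x, y, h1, h2⟩ := exists_two w hw h4
  obtain ⟨a, h5, h6, h7, χ, hχ, h8, h9⟩ := h.exists_lab_top (by omega) (r := 2) le_rfl
    ![x, y] (by simpa using h1) (by simpa using h2)
  refine ⟨χ, hχ, _, h8, lf_mod a, h9, Or.inr ((Nat.even_or_odd w).elim (fun hw' => ?_)
    fun hw' => hodd hw' χ hχ)⟩
  obtain ⟨v, rfl⟩ : ∃ v, w = v + 2 := ⟨w - 2, by omega⟩
  obtain ⟨t, ht, h10⟩ := exists_odd_four (I := I) (by simpa [Nat.even_add] using hw') h.card_eq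
  refine ⟨t, ht, ?_⟩
  have h11 : chi δ (lf 2 κ a) t = (∑ i, if 2 ≤ a i then Nat.multinomial univ (dn a i 2) else 0 : ℕ) *
      chi δ κ (1 : Perm (Fin m)) := by
    rw [chi, h10, mul_left_comm, mul_left_comm (alt δ), co_lf_step_top two_pos h.core
      ((antiP_chi δ _).ps_pow_mul 2 v) h5, Nat.cast_sum, Finset.sum_mul]
    refine Finset.sum_congr rfl fun i _ => ?_
    split_ifs with hi
    · have h11 : ∑ j, dn a i 2 j = v := by have := sum_dn hi; omega
      rw [h.core.mn two_pos (antiP_chi δ _) v _ (lf_mod _) (by rw [sum_lf, h11]),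
        co_lf_top' two_pos h.core (top_dn h5 i 2) h11]
      rfl
    · simp
  obtain ⟨i, hi⟩ : ∃ i, 2 ≤ a i := by
    obtain ⟨i, hi⟩ := h7 0
    obtain ⟨j, hj⟩ := h7 1
    simp only [Matrix.cons_val_zero, Matrix.cons_val_one] at hi hj
    rcases le_or_gt 2 x with h' | h'
    exacts [⟨i, by omega⟩, ⟨j, by omega⟩]
  have h12 : (∑ i, if 2 ≤ a i then Nat.multinomial univ (dn a i 2) else 0) ≠ 0 := fun h0 => by
    have := Finset.sum_eq_zero_iff.1 h0 i (mem_univ i)
    rw [if_pos hi] at this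
    exact (Nat.multinomial_pos _ _).ne' this
  have h13 := mul_ne_zero (Nat.cast_ne_zero.2 h12) (h.adm_core.chi_one_ne_zero h.del)
  rw [← h11] at h13
  rcases h8 with h8 | h8 <;> simpa [h8] using h13

theorem height_alt [Fact p.Prime] (hw : 0 < w) (hb : IsPBlock M b)
    (hc : eb M B * ebs M _ b ≠ 0) {χ : Perm α → ℂ} (hχ : IsIrrCharacter (Perm α) χ) {c : I → ℕ}
    (h1 : Lab δ c χ) (hr : ∀ i, c i % p = κ i % p) {θ : IrrCharacter (alternatingGroup α)}
    (hθ : θ ∈ b) (h2 : classInner (fun n : alternatingGroup α => χ n) θ ≠ 0) :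
    blockHeight p b (θ : _ → ℂ) = (np p c).factorization p ∨
      blockHeight p b (θ : _ → ℂ) + (2 : ℕ).factorization p = (np p c).factorization p ∧
        ∀ g, g ∉ alternatingGroup α → χ g = 0 := by
  have hp := h.mod.1.two_le
  have h3 := Nat.mul_le_mul hp hw
  have : Nontrivial α := Fintype.one_lt_card_iff_nontrivial.1 (by have := h.card_eq; omega)
  have : Nontrivial (Fin w × ZMod p) :=
    Fintype.one_lt_card_iff_nontrivial.1 (by simp [mul_comm]; omega)
  have h4 := h.factorization hχ h1 hr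
  have h5 := factorization_card_alt (p := p) α
  have h6 := factorization_card_alt (p := p) (Fin w × ZMod p)
  rw [← h.defect_alt hb hc, Nat.card_perm, Nat.card_prod, Nat.card_fin, Nat.card_zmod, mul_comm,
    ← h.defect_eq] at h6
  have h7 := BlockB.blockDefect_add_minExp (p := p) ⟨θ, hθ⟩
  have h8 := BlockB.minExp_le (p := p) hθ
  rw [BlockB.blockHeight_eq]
  obtain ⟨t, ht⟩ := exists_not_mem_alt (α := α)
  obtain ⟨d, hd0, hd⟩ := Char.irr_one_eq_nat θ.2
  have h9 : charDegree (θ : alternatingGroup α → ℂ) = d := by simp [charDegree, hd]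
  rcases res_alt ht hχ θ.2 h2 with ⟨h10, -⟩ | ⟨h10, h11⟩
  · have h12 : charDegree χ = d := by
      simpa [charDegree, hd] using congrArg (fun z : ℂ => ⌊z.re⌋₊) (congrFun h10 1)
    rw [h12, ← h9] at h4
    omega
  · have h12 : χ 1 = (2 * d : ℕ) := by
      simpa [Clifford.NormalEmb.cj_apply, hd, two_mul] using congrFun h10 1
    rw [show charDegree χ = 2 * d by rw [charDegree, h12]; simp only [Complex.natCast_re,
      Nat.floor_natCast], Nat.factorization_mul two_ne_zero hd0.ne', Finsupp.add_apply, ← h9] at h4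
    exact Or.inr ⟨by omega, h11⟩

end Dat

theorem isMulCommutative_of_card {G : Type*} [Group G] [Fact p.Prime] {d : ℕ} (hd : d ≤ 2)
    (h : Nat.card G = p ^ d) : IsMulCommutative G := by
  interval_cases d
  · have := (Nat.card_eq_one_iff_unique.1 (h.trans (pow_zero p))).1
    exact ⟨⟨fun _ _ => Subsingleton.elim _ _⟩⟩
  · have := isCyclic_of_prime_card (h.trans (pow_one p))
    infer_instance
  · exact IsPGroup.isMulCommutative_of_card_eq_prime_sq h

theorem min_height_alt [Fact p.Prime] (hM : IsPModular p M) (hb : IsPBlock M b)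
    {D : Subgroup (alternatingGroup α)} (hD : IsDefectGroup p M b D) :
    ((∃ θ ∈ b, blockHeight p b (θ : alternatingGroup α → ℂ) = 1) ∧ HasDeg p D) ∨
      ((∀ θ ∈ b, blockHeight p b (θ : alternatingGroup α → ℂ) = 0) ∧ IsMulCommutative D) := by
  obtain ⟨B, hB, hc⟩ := exists_covers hM hb
  obtain ⟨δ, κ, w, m, e, h⟩ := exists_dat (I := Fin (Fintype.card α + 2 * p)) hM hB (by simp)
  rcases le_or_gt w 2 with hw | hw
  · have h1 : blockDefect p b ≤ 2 := by
      have := h.defect_alt_le hb hc hw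
      split_ifs at this <;> omega
    exact Or.inr ⟨fun θ hθ => by_contra fun h0 => by
      have := BlockB.height_add_two_le hM hb hθ h0; omega,
      isMulCommutative_of_card h1 (BlockB.card_defectGroup hM hb hD)⟩
  obtain ⟨φ⟩ := h.nonempty_equiv_alt hb hc hD default
  have h1 := CF.Perm.sylow_alt_comm_iff (p := p) (Ω := Fin w × ZMod p) (by
    by_cases hp : p = 2
    · subst hp; right; simp; omega
    · exact Or.inl hp) default
  rw [Nat.card_prod, Nat.card_fin, Nat.card_zmod, pow_two,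
    Nat.mul_lt_mul_right hM.1.pos] at h1
  rcases lt_or_ge w p with hp | hp
  · refine Or.inr ⟨fun θ hθ => ?_, CF.Perm.isMulCommutative_of_injective (f := φ.toMonoidHom)
      φ.injective (h1.2 hp)⟩
    obtain ⟨χ, hχ, h2⟩ := exists_over_of_covers hM hB hb hc hθ
    obtain ⟨c, h3, hr⟩ := h.ovr χ hχ
    have h4 := h3.adm h.del χ.2
    have h5 : (np p c).factorization p = 0 := Nat.factorization_eq_zero_of_not_dvd fun h5 => by
      have := h5.trans (np_dvd hM.1.pos h4.inj)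
      rw [h.wt_eq h4 hr, hM.1.dvd_factorial] at this
      omega
    have := h.height_alt (by omega) hb hc χ.2 h3 hr hθ h2
    omega
  · refine Or.inl ⟨?_, (hasDeg_alt _ (mt h1.1 (not_lt.2 hp))).of_surjective φ.toMonoidHom
      φ.surjective⟩
    obtain ⟨χ, hχ, c, h2, hr, h3, h4⟩ := h.exists_height_one (by simp) hp hw
    obtain ⟨θ, hθ, h5⟩ := exists_under_of_covers hM hB hb hc hχ
    refine ⟨θ, hθ, ?_⟩
    rcases h.height_alt (by omega) hb hc χ.2 h2 hr hθ h5 with h6 | ⟨h6, h7⟩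
    · rw [h6, h3]
    · rcases h4 with h4 | ⟨t, ht, h4⟩
      · rw [Nat.factorization_eq_zero_of_not_dvd (n := 2) fun h =>
          h4 ((Nat.prime_dvd_prime_iff_eq hM.1 Nat.prime_two).1 h)] at h6
        omega
      · exact absurd (h7 t ht) h4

end CF.Block.Sn
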