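import Cfsg.Agent.Block.Sn1

/-!
# Characters of symmetric groups, II: alternants and orthonormality
-/

namespace CF.Block.Sn

open Cfsg Equiv Finset
open scoped ComplexConjugate

variable {I α β : Type*} [Fintype I] [DecidableEq I] [Fintype α] [DecidableEq α]
  [Fintype β] [DecidableEq β]

/-- The sign as a complex number. -/
noncomputable def sg (w : Perm I) : ℂ := ((Perm.sign w : ℤ) : ℂ)

theorem sg_mul (v w : Perm I) : sg (v * w) = sg v * sg w := by simp [sg]

theorem sg_one : sg (1 : Perm I) = 1 := by simp [sg]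

theorem sg_inv (w : Perm I) : sg w⁻¹ = sg w := by simp [sg]

theorem sg_mul_self (w : Perm I) : sg w * sg w = 1 := by
  rcases Int.units_eq_one_or (Perm.sign w) with h | h <;> simp [sg, h]

theorem sg_swap {i j : I} (h : i ≠ j) : sg (swap i j) = -1 := by simp [sg, Perm.sign_swap h]

theorem sg_eq (w : Perm I) : sg w = 1 ∨ sg w = -1 := by
  rcases Int.units_eq_one_or (Perm.sign w) with h | h <;> simp [sg, h]

theorem conj_sg (w : Perm I) : conj (sg w) = sg w := by simp [sg]

/-- The alternant of an exponent vector. -/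
noncomputable def alt (γ : I → ℕ) : Poly I := ∑ w : Perm I, sg w • mon (γ ∘ w)

/-- The signed Kronecker symbol of two exponent vectors. -/
noncomputable def eps (b c : I → ℕ) : ℂ := co b (alt c)

theorem eps_def (b c : I → ℕ) : eps b c = ∑ w : Perm I, if c ∘ w = b then sg w else 0 := by
  simp [eps, alt, co_mon]

/-- Antisymmetric functions of exponent vectors. -/
def Anti (G : (I → ℕ) → ℂ) : Prop := ∀ (w : Perm I) (b : I → ℕ), G (b ∘ w) = sg w * G b

theorem Anti.eq_zero {G : (I → ℕ) → ℂ} (h : Anti G) {b : I → ℕ} (hb : ¬ Function.Injective b) :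
    G b = 0 := by
  obtain ⟨i, j, h1, h2⟩ := Function.not_injective_iff.1 hb
  have h3 : b ∘ swap i j = b := by
    ext l; simp only [Function.comp_apply, swap_apply_def]; split_ifs <;> simp_all
  have := h (swap i j) b
  rw [h3, sg_swap h2] at this
  linear_combination this / 2

omit [Fintype I] [DecidableEq I] in
theorem comp_eq_comp_iff {b c : I → ℕ} (w : Perm I) : b ∘ w = c ∘ w ↔ b = c :=
  w.surjective.right_cancellable

theorem anti_eps (c : I → ℕ) : Anti fun b => eps b c := fun w b => by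
  simp only [eps_def, Finset.mul_sum]
  refine (Fintype.sum_equiv (Equiv.mulRight w) _ _ fun v => ?_).symm
  have : c ∘ (Equiv.mulRight w v) = b ∘ w ↔ c ∘ v = b := comp_eq_comp_iff (b := c ∘ v) w
  by_cases h : c ∘ v = b
  · rw [if_pos h, if_pos (this.2 h), Equiv.coe_mulRight, sg_mul, mul_comm]
  · rw [if_neg h, if_neg (mt this.1 h), mul_zero]

theorem eps_comp_left (b c : I → ℕ) (w : Perm I) : eps (b ∘ w) c = sg w * eps b c :=
  anti_eps c w b

theorem eps_eq_zero_of_not_inj {b : I → ℕ} (hb : ¬ Function.Injective b) (c : I → ℕ) :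
    eps b c = 0 := (anti_eps c).eq_zero hb

theorem eps_comm (b c : I → ℕ) : eps b c = eps c b := by
  simp only [eps_def]
  refine Fintype.sum_equiv (Equiv.inv _) _ _ fun v => ?_
  have : c ∘ v = b ↔ b ∘ (Equiv.inv (Perm I) v) = c := by
    rw [← comp_eq_comp_iff (b := b ∘ (Equiv.inv (Perm I) v)) v]
    have : (b ∘ (Equiv.inv (Perm I) v)) ∘ v = b := by ext i; simp
    rw [this, eq_comm]
  rw [Equiv.inv_apply, sg_inv]
  exact if_congr this rfl rfl

theorem eps_self {b : I → ℕ} (hb : Function.Injective b) : eps b b = 1 := by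
  rw [eps_def, Finset.sum_eq_single 1, if_pos (by simp), sg_one]
  · intro w _ hw
    refine if_neg fun h => hw ?_
    ext i; exact hb (congrFun h i)
  · simp

theorem eps_eq_zero {b c : I → ℕ} (h : ∀ w : Perm I, c ∘ w ≠ b) : eps b c = 0 := by
  rw [eps_def]; exact Finset.sum_eq_zero fun w _ => if_neg (h w)

theorem exists_of_eps_ne_zero {b c : I → ℕ} (h : eps b c ≠ 0) : ∃ w : Perm I, c ∘ w = b := by
  by_contra h'
  exact h (eps_eq_zero fun w hw => h' ⟨w, hw⟩)

omit [DecidableEq I] in
theorem sum_comp_perm (c : I → ℕ) (w : Perm I) : ∑ i, (c ∘ w) i = ∑ i, c i :=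
  Equiv.sum_comp w c

theorem eps_eq_zero_of_sum {b c : I → ℕ} (h : ∑ i, b i ≠ ∑ i, c i) : eps b c = 0 :=
  eps_eq_zero fun w hw => h (by rw [← hw, sum_comp_perm])

omit [Fintype I] in
theorem dn_comp (c : I → ℕ) (w : Perm I) (j : I) (k : ℕ) :
    dn c (w j) k ∘ w = dn (c ∘ w) j k := by
  ext l
  by_cases h : l = j
  · subst h; simp
  · rw [Function.comp_apply, dn_of_ne _ (w.injective.ne h), dn_of_ne _ h]; rfl

omit [Fintype I] in
theorem up_comp (c : I → ℕ) (w : Perm I) (j : I) (k : ℕ) :
    up c (w j) k ∘ w = up (c ∘ w) j k := by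
  ext l
  by_cases h : l = j
  · subst h; simp
  · rw [Function.comp_apply, up_of_ne _ (w.injective.ne h), up_of_ne _ h]; rfl

/-- Raising and lowering are adjoint. -/
theorem sum_eps_dn (b c : I → ℕ) (k : ℕ) :
    ∑ j, (if k ≤ c j then eps b (dn c j k) else 0) = ∑ j, eps (up b j k) c := by
  have h1 : ∀ j, (if k ≤ c j then eps b (dn c j k) else 0) =
      ∑ w : Perm I, if k ≤ c j ∧ dn c j k ∘ w = b then sg w else 0 := fun j => by
    rw [eps_def]
    split_ifs with h <;> simp [h]
  simp only [h1]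
  simp only [eps_def]
  rw [Finset.sum_comm, Finset.sum_comm (s := (univ : Finset I))]
  refine Finset.sum_congr rfl fun w _ => (Fintype.sum_equiv w _ _ fun j => ?_).symm
  rw [dn_comp]
  refine if_congr ⟨fun h => ?_, ?_⟩ rfl rfl
  · have : c (w j) = b j + k := by simpa using congrFun h j
    exact ⟨by omega, by rw [h, dn_up]⟩
  · rintro ⟨h, rfl⟩
    exact (up_dn (γ := c ∘ w) h).symm

omit [Fintype I] in
theorem pair_sum {G : (I → ℕ) → ℂ} (b : I → ℕ) {i j : I} (hij : i ≠ j)
    (h : ∀ c, G (c ∘ swap i j) = - G c) :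
    ∑ k ∈ Icc 1 (b i), G (up (dn b i k) j k) + ∑ k ∈ Icc 1 (b j), G (up (dn b j k) i k) = - G b := by
  let g : ℕ → ℂ := fun s => G (Function.update (Function.update b i s) j (b i + b j - s))
  have h1 : ∀ s ≤ b i + b j, g (b i + b j - s) = - g s := fun s hs => by
    have := h (Function.update (Function.update b i s) j (b i + b j - s))
    simp only [g]
    rw [← this]
    congr 1
    ext l
    simp only [Function.comp_apply, swap_apply_def, Function.update_apply]
    split_ifs <;> first | rfl | omega | simp_all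
  have h2 : ∑ s ∈ range (b i + b j + 1), g s = 0 := by
    have := Finset.sum_range_reflect g (b i + b j + 1)
    rw [Finset.sum_congr rfl (g := fun s => - g s), Finset.sum_neg_distrib] at this
    · linear_combination -this / 2
    · intro s hs
      rw [← h1 s (by simpa [Nat.lt_succ_iff] using hs)]; rfl
  have h3 : g (b i) = G b := by
    simp only [g]; congr 1; ext l
    simp only [Function.update_apply]
    split_ifs <;> simp_all
  have h4 : ∑ k ∈ Icc 1 (b i), G (up (dn b i k) j k) = ∑ s ∈ range (b i), g s := by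
    refine Finset.sum_nbij' (fun k => b i - k) (fun s => b i - s) ?_ ?_ ?_ ?_ ?_
    · intro k hk; simp only [mem_Icc, mem_range] at *; omega
    · intro k hk; simp only [mem_Icc, mem_range] at *; omega
    · intro k hk; simp only [mem_Icc] at *; omega
    · intro k hk; simp only [mem_range] at *; omega
    · intro k hk
      simp only [g, mem_Icc] at *; congr 1; ext l
      simp only [up, dn, Function.update_apply]
      split_ifs <;> first | rfl | omega | simp_all
  have h5 : ∑ k ∈ Icc 1 (b j), G (up (dn b j k) i k) = ∑ s ∈ range (b j), g (b i + 1 + s) := by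
    refine Finset.sum_nbij' (fun k => k - 1) (fun s => s + 1) ?_ ?_ ?_ ?_ ?_
    · intro k hk; simp only [mem_Icc, mem_range] at *; omega
    · intro k hk; simp only [mem_Icc, mem_range] at *; omega
    · intro k hk; simp only [mem_Icc] at *; omega
    · intro k hk; simp
    · intro k hk
      simp only [g, mem_Icc] at *; congr 1; ext l
      simp only [up, dn, Function.update_apply]
      split_ifs <;> first | rfl | omega | simp_all
  rw [show b i + b j + 1 = b i + 1 + b j by ring, Finset.sum_range_add, Finset.sum_range_succ,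
    h3] at h2
  rw [h4, h5]
  linear_combination h2

omit [Fintype I] in
/-- The energy identity. -/
theorem energy {G : (I → ℕ) → ℂ} (s : Finset I)
    (h : ∀ i ∈ s, ∀ j ∈ s, i ≠ j → ∀ c, G (c ∘ swap i j) = - G c) (b : I → ℕ) :
    ∑ i ∈ s, ∑ k ∈ Icc 1 (b i), ∑ j ∈ s, G (up (dn b i k) j k) =
      (((∑ i ∈ s, b i : ℕ) : ℂ) - (s.card.choose 2 : ℕ)) * G b := by
  let T : I → I → ℂ := fun i j => ∑ k ∈ Icc 1 (b i), G (up (dn b i k) j k)
  have h1 : ∀ i, T i i = b i * G b := fun i => by
    simp only [T]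
    rw [Finset.sum_congr rfl (g := fun _ => G b)]
    · simp
    · intro k hk; rw [up_dn (mem_Icc.1 hk).2]
  have h2 : ∀ i ∈ s, ∀ j ∈ s, T i j + T j i =
      (if i = j then (2 * b i + 1) * G b else 0) - G b := by
    intro i hi j hj
    split_ifs with hij
    · subst hij; rw [h1]; ring
    · rw [zero_sub]; exact pair_sum b hij (h i hi j hj hij)
  have h3 : ∑ i ∈ s, ∑ j ∈ s, (T i j + T j i) = 2 * ∑ i ∈ s, ∑ j ∈ s, T i j := by
    simp only [Finset.sum_add_distrib]
    rw [Finset.sum_comm (f := fun i j => T j i)]; ring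
  have h4 : ∀ i ∈ s, ∑ j ∈ s, (T i j + T j i) = (2 * b i + 1) * G b - s.card * G b := by
    intro i hi
    rw [Finset.sum_congr rfl (h2 i hi), Finset.sum_sub_distrib]
    simp [hi]
  have h5 : ∑ i ∈ s, ∑ k ∈ Icc 1 (b i), ∑ j ∈ s, G (up (dn b i k) j k) =
      ∑ i ∈ s, ∑ j ∈ s, T i j := Finset.sum_congr rfl fun i _ => Finset.sum_comm
  rw [Finset.sum_congr rfl h4] at h3
  simp only [Finset.sum_sub_distrib, ← Finset.sum_mul, Finset.sum_add_distrib,
    ← Finset.mul_sum] at h3
  simp only [Finset.sum_const, nsmul_eq_mul, mul_one] at h3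
  rw [h5, Nat.cast_choose_two, Nat.cast_sum]
  linear_combination -h3 / 2

theorem Anti.swap {G : (I → ℕ) → ℂ} (h : Anti G) {i j : I} (hij : i ≠ j) (c : I → ℕ) :
    G (c ∘ swap i j) = - G c := by rw [h, sg_swap hij, neg_one_mul]

theorem Anti.energy {G : (I → ℕ) → ℂ} (h : Anti G) (b : I → ℕ) :
    ∑ i, ∑ k ∈ Icc 1 (b i), ∑ j, G (up (dn b i k) j k) =
      (((∑ i, b i : ℕ) : ℂ) - ((Fintype.card I).choose 2 : ℕ)) * G b :=
  Sn.energy univ (fun _ _ _ _ hij => h.swap hij) b

theorem choose_le_sum (s : Finset ℕ) : s.card.choose 2 ≤ ∑ x ∈ s, x := by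
  induction s using Finset.induction_on_max with
  | empty => simp
  | insert a s h ih =>
    have h1 : a ∉ s := fun ha => lt_irrefl _ (h a ha)
    have h2 : s.card ≤ a := by
      simpa using Finset.card_le_card (show s ⊆ range a from fun x hx => mem_range.2 (h x hx))
    rw [card_insert_of_notMem h1, sum_insert h1, Nat.choose_succ_succ', Nat.choose_one_right]
    exact add_le_add h2 ih

omit [DecidableEq I] in
theorem choose_le_sum_of_inj {b : I → ℕ} (hb : Function.Injective b) :
    (Fintype.card I).choose 2 ≤ ∑ i, b i := by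
  have := choose_le_sum (univ.image b)
  rwa [card_image_of_injective _ hb, sum_image fun _ _ _ _ h => hb h] at this

omit [DecidableEq I] in
theorem le_sum_of_missing {b : I → ℕ} (hb : Function.Injective b) {x : ℕ} (hx : ∀ i, b i ≠ x) :
    (Fintype.card I).choose 2 + Fintype.card I ≤ ∑ i, b i + x := by
  have h1 : x ∉ univ.image b := by simpa using hx
  have := choose_le_sum (insert x (univ.image b))
  rw [card_insert_of_notMem h1, sum_insert h1, card_image_of_injective _ hb,
    sum_image fun _ _ _ _ h => hb h, Nat.choose_succ_succ', Nat.choose_one_right,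
    card_univ] at this
  change Fintype.card I + (Fintype.card I).choose 2 ≤ _ at this
  omega

omit [DecidableEq I] in
theorem exists_perm_of_range {b c : I → ℕ} (hb : Function.Injective b) (h : ∀ i, ∃ j, c j = b i) :
    ∃ w : Perm I, c ∘ w = b := by
  choose f hf using h
  have : Function.Injective f := fun i j hij => hb (by rw [← hf, ← hf, hij])
  exact ⟨Equiv.ofBijective f (Finite.injective_iff_bijective.1 this), funext hf⟩

/-- `δ` is an enumeration of the index type. -/
structure IsDel (δ : I → ℕ) : Prop where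
  inj : Function.Injective δ
  lt : ∀ i, δ i < Fintype.card I

omit [DecidableEq I] in
theorem isDel_equivFin : IsDel fun i : I => (Fintype.equivFin I i : ℕ) :=
  ⟨Fin.val_injective.comp (Fintype.equivFin I).injective, fun _ => Fin.is_lt _⟩

omit [DecidableEq I] in
theorem IsDel.image {δ : I → ℕ} (h : IsDel δ) : univ.image δ = range (Fintype.card I) := by
  refine Finset.eq_of_subset_of_card_le (fun x hx => ?_) ?_
  · obtain ⟨i, -, rfl⟩ := mem_image.1 hx
    exact mem_range.2 (h.lt i)
  · rw [card_image_of_injective _ h.inj]; simp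

omit [DecidableEq I] in
theorem IsDel.surj {δ : I → ℕ} (h : IsDel δ) {x : ℕ} (hx : x < Fintype.card I) : ∃ i, δ i = x := by
  have := mem_range.2 hx
  rw [← h.image] at this
  simpa using this

omit [DecidableEq I] in
theorem IsDel.sum {δ : I → ℕ} (h : IsDel δ) : ∑ i, δ i = (Fintype.card I).choose 2 := by
  rw [← sum_image (g := δ) (f := fun x => x) fun _ _ _ _ e => h.inj e, h.image, Finset.sum_range_id,
    Nat.choose_two_right]

omit [DecidableEq I] in
theorem isDel_of_sum {c : I → ℕ} (hc : Function.Injective c)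
    (h : ∑ i, c i = (Fintype.card I).choose 2) : IsDel c := by
  refine ⟨hc, fun i => ?_⟩
  have h1 : range (Fintype.card I) ⊆ univ.image c := fun x hx => by
    by_contra h'
    have := le_sum_of_missing hc (x := x) (by simpa using h')
    have := mem_range.1 hx
    omega
  have h2 := Finset.eq_of_subset_of_card_le h1 (by rw [card_image_of_injective _ hc]; simp)
  rw [← mem_range, h2]
  exact mem_image_of_mem _ (mem_univ i)

/-- The Frobenius character attached to the exponent vector `b`. -/
noncomputable def chi (δ b : I → ℕ) (σ : Perm α) : ℂ := co b (alt δ * cyc X σ)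

theorem co_alt_mul (δ b : I → ℕ) (F : Poly I) :
    co b (alt δ * F) = ∑ w : Perm I, if ∀ i, δ (w i) ≤ b i then sg w * co (b - δ ∘ w) F else 0 := by
  classical
  simp only [alt, Finset.sum_mul, map_sum, smul_mul_assoc, map_smul, co_mon_mul, smul_eq_mul,
    mul_ite, mul_zero]
  exact Finset.sum_congr rfl fun w _ => if_congr Iff.rfl rfl rfl

theorem gen_chi (δ b : I → ℕ) : IsGeneralizedCharacter (Perm α) (chi δ b) := by
  have : (chi δ b : Perm α → ℂ) = ∑ w : Perm I, if ∀ i, δ (w i) ≤ b i then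
      ((Perm.sign w : ℤ) : ℂ) • fun σ : Perm α => co (b - δ ∘ w) (cyc X σ) else 0 := by
    ext σ
    rw [chi, co_alt_mul, Finset.sum_apply]
    refine Finset.sum_congr rfl fun w _ => ?_
    split_ifs <;> rfl
  rw [this]
  refine Char.gen_sum _ fun w _ => ?_
  split_ifs
  · exact Char.gen_intCast_smul (Char.gen_of_char (char_co_cyc _)) _
  · exact Char.gen_zero

theorem chi_classFun (δ b : I → ℕ) : IsClassFunction (Perm α) (chi δ b) :=
  Char.gen_isClassFunction (gen_chi δ b)

theorem conj_chi (δ b : I → ℕ) (σ : Perm α) : conj (chi δ b σ) = chi δ b σ := by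
  simp only [chi, co_alt_mul, map_sum, co_cyc]
  refine Finset.sum_congr rfl fun w _ => ?_
  split_ifs <;> simp [conj_sg]

theorem chi_permCongr (δ b : I → ℕ) (e : α ≃ β) (σ : Perm α) :
    chi δ b (e.permCongr σ) = chi δ b σ := by rw [chi, chi, cyc_permCongr]

theorem chi_eq_zero_of_sum {δ b : I → ℕ} (h : ∑ i, b i ≠ Fintype.card α + ∑ i, δ i) (σ : Perm α) :
    chi δ b σ = 0 := by
  rw [chi, co_alt_mul]
  refine Finset.sum_eq_zero fun w _ => ?_
  split_ifs with h1
  · rw [co_cyc_eq_zero, mul_zero]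
    intro h2
    refine h ?_
    rw [← h2, ← sum_comp_perm δ w, ← Finset.sum_add_distrib]
    exact Finset.sum_congr rfl fun i _ => (Nat.sub_add_cancel (h1 i)).symm
  · rfl

theorem co_alt_ps_mul (δ b : I → ℕ) (k : ℕ) (F : Poly I) :
    co b (alt δ * (ps X k * F)) = ∑ i, if k ≤ b i then co (dn b i k) (alt δ * F) else 0 := by
  rw [mul_left_comm, co_ps_mul]

theorem orth_fin {δ : I → ℕ} (hδ : IsDel δ) (n : ℕ) : ∀ b c : I → ℕ,
    ∑ i, b i = n + (Fintype.card I).choose 2 → ∑ i, c i = n + (Fintype.card I).choose 2 →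
    (n.factorial : ℂ)⁻¹ * ∑ σ : Perm (Fin n), chi δ b σ * chi δ c σ = eps b c := by
  induction n using Nat.strong_induction_on with
  | _ n ih =>
  intro b c hb hc
  rcases Nat.eq_zero_or_pos n with rfl | hn
  · simp only [chi, cyc_of_isEmpty, mul_one, Nat.factorial_zero, Nat.cast_one, inv_one, one_mul,
      Finset.sum_const, card_univ, Fintype.card_perm, Fintype.card_fin, one_smul]
    change eps b δ * eps c δ = _
    by_cases h : Function.Injective c
    · obtain ⟨w, rfl⟩ := exists_perm_of_range (c := δ) h fun i =>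
        hδ.surj ((isDel_of_sum h (by simpa using hc)).lt i)
      rw [eps_comp_left, eps_comm b (δ ∘ w), eps_comp_left, eps_self hδ.inj, eps_comm δ b]; ring
    · rw [eps_eq_zero_of_not_inj h, eps_comm b c, eps_eq_zero_of_not_inj h, mul_zero]
  have key := bil_rec (((LinearMap.mul ℂ ℂ).comp ((co b).comp (LinearMap.mulLeft ℂ (alt δ)))).compl₂
    ((co c).comp (LinearMap.mulLeft ℂ (alt δ)))) n
  simp only [LinearMap.compl₂_apply, LinearMap.comp_apply, LinearMap.mul_apply',
    LinearMap.mulLeft_apply, co_alt_ps_mul, smul_eq_mul] at key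
  have hn' : (n : ℂ) ≠ 0 := by exact_mod_cast hn.ne'
  refine mul_left_cancel₀ hn' (key.trans ?_)
  have h1 : ∀ k ∈ Icc 1 n, ((n - k).factorial : ℂ)⁻¹ * ∑ τ : Perm (Fin (n - k)),
      (∑ i, if k ≤ b i then co (dn b i k) (alt δ * cyc X τ) else 0) *
        (∑ j, if k ≤ c j then co (dn c j k) (alt δ * cyc X τ) else 0) =
      ∑ i, if k ≤ b i then ∑ j, eps (up (dn b i k) j k) c else 0 := fun k hk => by
    obtain ⟨hk1, hk2⟩ := mem_Icc.1 hk
    simp only [Finset.sum_mul_sum]
    rw [Finset.sum_comm, Finset.mul_sum]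
    refine Finset.sum_congr rfl fun i _ => ?_
    split_ifs with hi
    · rw [← sum_eps_dn, Finset.sum_comm, Finset.mul_sum]
      refine Finset.sum_congr rfl fun j _ => ?_
      split_ifs with hj
      · have := sum_dn hi
        have := sum_dn hj
        exact ih (n - k) (by omega) _ _ (by omega) (by omega)
      · simp
    · simp
  rw [Finset.sum_congr rfl h1, Finset.sum_comm]
  have h2 := (anti_eps c).energy b
  rw [hb, Nat.cast_add, add_sub_cancel_right] at h2
  rw [← h2]
  refine Finset.sum_congr rfl fun i _ => ?_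
  rw [← Finset.sum_filter]
  refine Finset.sum_subset (fun k hk => ?_) fun k hk hk' => ?_
  · simp only [mem_filter, mem_Icc] at *; omega
  · simp only [mem_filter, mem_Icc] at *
    rw [← sum_eps_dn]
    refine Finset.sum_eq_zero fun j _ => ?_
    split_ifs
    · refine (anti_eps _).eq_zero fun h => ?_
      have := choose_le_sum_of_inj h
      have := sum_dn hk.2
      omega
    · rfl

/-- Orthonormality of the Frobenius characters. -/
theorem orth {δ : I → ℕ} (hδ : IsDel δ) (b : I → ℕ) {c : I → ℕ}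
    (hc : ∑ i, c i = Fintype.card α + (Fintype.card I).choose 2) :
    ((Fintype.card α).factorial : ℂ)⁻¹ * ∑ σ : Perm α, chi δ b σ * chi δ c σ = eps b c := by
  by_cases hb : ∑ i, b i = Fintype.card α + (Fintype.card I).choose 2
  · rw [← orth_fin hδ _ b c hb hc]
    congr 1
    exact sum_cyc_congr X (Fintype.equivFin α) fun F => co b (alt δ * F) * co c (alt δ * F)
  · rw [eps_eq_zero_of_sum (by omega), Finset.sum_eq_zero, mul_zero]
    intro σ _
    rw [chi_eq_zero_of_sum (by rwa [hδ.sum]), zero_mul]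

theorem inner_chi_right (δ c : I → ℕ) (θ : Perm α → ℂ) : classInner θ (chi δ c) =
    ((Fintype.card α).factorial : ℂ)⁻¹ * ∑ σ : Perm α, θ σ * chi δ c σ := by
  simp only [classInner, conj_chi, Nat.card_eq_fintype_card, Fintype.card_perm]

theorem inner_chi {δ : I → ℕ} (hδ : IsDel δ) (b : I → ℕ) {c : I → ℕ}
    (hc : ∑ i, c i = Fintype.card α + (Fintype.card I).choose 2) :
    classInner (chi δ b : Perm α → ℂ) (chi δ c) = eps b c := by
  rw [inner_chi_right, orth hδ b hc]

/-- The Cauchy identity. -/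
theorem cauchy {δ : I → ℕ} (hδ : IsDel δ) {c : I → ℕ}
    (hc : ∑ i, c i = Fintype.card α + (Fintype.card I).choose 2) :
    ((Fintype.card α).factorial : ℂ)⁻¹ • ∑ σ : Perm α, chi δ c σ • (alt δ * cyc X σ) = alt c := by
  refine poly_ext fun b => ?_
  change _ = eps b c
  rw [← orth (α := α) hδ b hc]
  simp only [map_smul, map_sum, smul_eq_mul, mul_comm (chi δ c _)]
  rfl

theorem irr_chi {δ : I → ℕ} (hδ : IsDel δ) {b : I → ℕ} (hb : Function.Injective b)
    (h : ∑ i, b i = Fintype.card α + (Fintype.card I).choose 2) :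
    IsIrrCharacter (Perm α) (chi δ b) ∨ IsIrrCharacter (Perm α) (-chi δ b) :=
  Char.irr_or_neg_irr_of_inner_self (gen_chi δ b) (by rw [inner_chi hδ b h, eps_self hb])

/-- Permuting the variables. -/
noncomputable def ren (w : Perm I) : Poly I ≃ₐ[ℂ] Poly I :=
  AddMonoidAlgebra.domCongr ℂ ℂ
    { toFun := fun b => b ∘ (w⁻¹ : Perm I)
      invFun := fun b => b ∘ w
      left_inv := fun b => by ext; simp
      right_inv := fun b => by ext; simp
      map_add' := fun _ _ => rfl }

omit [Fintype I] [DecidableEq I] in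
theorem co_ren (w : Perm I) (b : I → ℕ) (F : Poly I) : co b (ren w F) = co (b ∘ w) F :=
  AddMonoidAlgebra.coeff_domCongr _ _ _

omit [Fintype I] in
theorem ren_X (w : Perm I) (i : I) : ren w (X i) = X (w i) := by
  refine (AddMonoidAlgebra.domCongr_single _ _ _).trans ?_
  rw [X, mon]
  congr 1
  ext j
  change Pi.single (M := fun _ => ℕ) i 1 (w⁻¹ j) = _
  simp only [Pi.single_apply, Perm.inv_eq_iff_eq]

theorem ren_ps (w : Perm I) (k : ℕ) : ren w (ps X k) = ps X k := by
  rw [map_ps]
  simp only [ren_X, ps]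
  exact Equiv.sum_comp w fun i => X i ^ k

theorem ren_cyc (w : Perm I) (σ : Perm α) : ren w (cyc X σ) = cyc X σ := by
  classical
  rw [map_cyc]
  simp only [ren_X]
  unfold cyc
  refine Fintype.sum_equiv ((Equiv.refl α).arrowCongr w) _ _ fun f => ?_
  have h1 : ((Equiv.refl α).arrowCongr w) f = w ∘ f := by ext a; simp
  rw [h1]
  by_cases h : f ∘ σ = f
  · rw [if_pos h, if_pos (by rw [Function.comp_assoc, h])]; rfl
  · have h' : ¬ (w ∘ f) ∘ σ = w ∘ f := fun h' => h (w.injective.comp_left h')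
    rw [if_neg h, if_neg h']

/-- Antisymmetric polynomials. -/
def AntiP (F : Poly I) : Prop := Anti fun b => co b F

theorem antiP_iff {F : Poly I} : AntiP F ↔ ∀ w, ren w F = sg w • F := by
  refine ⟨fun h w => poly_ext fun b => ?_, fun h w b => ?_⟩
  · rw [co_ren, map_smul]; exact h w b
  · change co _ F = _ * co _ F
    rw [← co_ren, h, map_smul]; rfl

theorem antiP_alt (c : I → ℕ) : AntiP (alt c) := anti_eps c

theorem AntiP.mul {F G : Poly I} (h : AntiP F) (hG : ∀ w, ren w G = G) : AntiP (F * G) :=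
  antiP_iff.2 fun w => by rw [map_mul, antiP_iff.1 h, hG, smul_mul_assoc]

theorem AntiP.ps_mul {F : Poly I} (h : AntiP F) (k : ℕ) : AntiP (ps X k * F) := by
  rw [mul_comm]; exact h.mul fun w => ren_ps w k

theorem antiP_chi (δ : I → ℕ) (σ : Perm α) : AntiP (alt δ * cyc X σ) :=
  (antiP_alt δ).mul fun w => ren_cyc w σ

theorem chi_comp (δ b : I → ℕ) (w : Perm I) (σ : Perm α) :
    chi δ (b ∘ w) σ = sg w * chi δ b σ := antiP_chi δ σ w b

theorem chi_eq_zero_of_not_inj (δ : I → ℕ) {b : I → ℕ} (hb : ¬ Function.Injective b)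
    (σ : Perm α) : chi δ b σ = 0 := (antiP_chi δ σ).eq_zero hb

theorem alt_ne_zero {c : I → ℕ} (hc : Function.Injective c) : alt c ≠ 0 := fun h => by
  have := eps_self hc
  rw [eps, h, map_zero] at this
  exact zero_ne_one this

/-- Admissible exponent vectors for the symmetric group of degree `n`. -/
structure Adm (n : ℕ) (b : I → ℕ) : Prop where
  inj : Function.Injective b
  sum : ∑ i, b i = n + (Fintype.card I).choose 2

theorem chi_eq_zero_of_not_adm {δ : I → ℕ} (hδ : IsDel δ) {b : I → ℕ}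
    (hb : ¬ Adm (Fintype.card α) b) (σ : Perm α) : chi δ b σ = 0 := by
  by_cases h : Function.Injective b
  · exact chi_eq_zero_of_sum (fun h' => hb ⟨h, by rwa [hδ.sum] at h'⟩) σ
  · exact chi_eq_zero_of_not_inj δ h σ

theorem Adm.chi_one_ne_zero {δ : I → ℕ} (hδ : IsDel δ) {b : I → ℕ} (hb : Adm (Fintype.card α) b) :
    chi δ b (1 : Perm α) ≠ 0 := by
  rcases irr_chi (α := α) hδ hb.inj hb.sum with h | h
  · exact Char.irr_one_ne_zero h
  · simpa using Char.irr_one_ne_zero h

/-- `χ` is, up to sign, the Frobenius character of `b`. -/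
def Lab (δ b : I → ℕ) (χ : Perm α → ℂ) : Prop := χ = chi δ b ∨ χ = -chi δ b

theorem Lab.exists_sign {δ b : I → ℕ} {χ : Perm α → ℂ} (h : Lab δ b χ) :
    ∃ s : ℂ, (s = 1 ∨ s = -1) ∧ χ = s • chi δ b := by
  rcases h with h | h
  · exact ⟨1, Or.inl rfl, by rw [h, one_smul]⟩
  · exact ⟨-1, Or.inr rfl, by rw [h, neg_smul, one_smul]⟩

theorem Adm.exists_lab {δ : I → ℕ} (hδ : IsDel δ) {b : I → ℕ} (hb : Adm (Fintype.card α) b) :
    ∃ χ : IrrCharacter (Perm α), Lab δ b (χ : Perm α → ℂ) := by
  rcases irr_chi (α := α) hδ hb.inj hb.sum with h | h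
  · exact ⟨⟨_, h⟩, Or.inl rfl⟩
  · exact ⟨⟨_, h⟩, Or.inr rfl⟩

theorem Lab.adm {δ : I → ℕ} (hδ : IsDel δ) {b : I → ℕ} {χ : Perm α → ℂ}
    (hχ : IsIrrCharacter (Perm α) χ) (h : Lab δ b χ) : Adm (Fintype.card α) b := by
  by_contra hb
  obtain ⟨s, -, rfl⟩ := h.exists_sign
  exact Char.irr_one_ne_zero hχ (by simp [chi_eq_zero_of_not_adm hδ hb])

theorem lab_of_inner {δ : I → ℕ} (hδ : IsDel δ) {b : I → ℕ} {χ : Perm α → ℂ}
    (hχ : IsIrrCharacter (Perm α) χ) (h : classInner χ (chi δ b) ≠ 0) : Lab δ b χ := by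
  have hb : Adm (Fintype.card α) b := by
    by_contra hb
    exact h (by simp [classInner, chi_eq_zero_of_not_adm hδ hb])
  rcases irr_chi (α := α) hδ hb.inj hb.sum with h' | h'
  · left
    by_contra hne
    exact h (Char.inner_irr_ne hχ h' hne)
  · right
    by_contra hne
    have := Char.inner_irr_ne hχ h' hne
    rw [Char.inner_neg_right, neg_eq_zero] at this
    exact h this

theorem co_sum_smul (δ b : I → ℕ) (θ : Perm α → ℂ) :
    co b (((Fintype.card α).factorial : ℂ)⁻¹ • ∑ σ : Perm α, θ σ • (alt δ * cyc X σ)) =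
      classInner θ (chi δ b) := by
  rw [inner_chi_right]
  simp only [map_smul, map_sum, smul_eq_mul]
  rfl

/-- Every irreducible character is a Frobenius character up to sign. -/
theorem exists_lab {δ : I → ℕ} (hδ : IsDel δ) (hI : Fintype.card α ≤ Fintype.card I)
    {χ : Perm α → ℂ} (hχ : IsIrrCharacter (Perm α) χ) : ∃ b, Lab δ b χ := by
  by_contra hne
  have h1 : ∑ σ : Perm α, χ σ • cyc (X : I → Poly I) σ = 0 := by
    have h2 : ((Fintype.card α).factorial : ℂ)⁻¹ • ∑ σ : Perm α, χ σ • (alt δ * cyc X σ) = 0 :=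
      poly_ext fun b => by
        rw [co_sum_smul, map_zero]
        by_contra h
        exact hne ⟨b, lab_of_inner hδ hχ h⟩
    have h3 : ((Fintype.card α).factorial : ℂ) ≠ 0 := by exact_mod_cast Nat.factorial_ne_zero _
    rw [smul_eq_zero, or_iff_right (inv_ne_zero h3)] at h2
    simp only [← mul_smul_comm, ← Finset.mul_sum] at h2
    exact (mul_eq_zero.1 h2).resolve_left (alt_ne_zero hδ.inj)
  obtain ⟨f₀⟩ := Function.Embedding.nonempty_of_card_le hI
  have h2 := congrArg (co (cont f₀)) h1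
  rw [map_sum, map_zero, Finset.sum_eq_single 1] at h2
  · rw [map_smul, co_cyc, smul_eq_mul, mul_eq_zero, Nat.cast_eq_zero, card_eq_zero,
      filter_eq_empty_iff] at h2
    rcases h2 with h2 | h2
    · exact Char.irr_one_ne_zero hχ h2
    · exact h2 (mem_univ (f₀ : α → I)) ⟨rfl, rfl⟩
  · intro σ _ hσ
    rw [map_smul, co_cyc, Finset.card_eq_zero.2, Nat.cast_zero, smul_zero]
    rw [filter_eq_empty_iff]
    rintro f - ⟨h3, h4⟩
    refine hσ ?_
    ext a
    have h5 : cont f (f a) ≤ 1 := by
      rw [h4]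
      exact Finset.card_le_one.2 fun x hx y hy =>
        f₀.injective ((mem_filter.1 hx).2.trans (mem_filter.1 hy).2.symm)
    exact Finset.card_le_one.1 h5 _ (mem_filter.2 ⟨mem_univ _, congrFun h3 a⟩) _
      (mem_filter.2 ⟨mem_univ _, rfl⟩)
  · simp

theorem eq_zero_of_inner_chi {δ : I → ℕ} (hδ : IsDel δ) (hI : Fintype.card α ≤ Fintype.card I)
    {θ : Perm α → ℂ} (hθ : IsClassFunction (Perm α) θ)
    (h : ∀ b, Adm (Fintype.card α) b → classInner θ (chi δ b) = 0) : θ = 0 := by
  by_contra h0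
  obtain ⟨χ, hχ, h1⟩ := Char.exists_irr_inner_ne_zero hθ h0
  obtain ⟨b, hb⟩ := exists_lab hδ hI hχ
  have h2 := h b (hb.adm hδ hχ)
  rcases hb with rfl | rfl
  · exact h1 h2
  · rw [Char.inner_neg_right, h2, neg_zero] at h1; exact h1 rfl

end CF.Block.Sn
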