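import Cfsg.Agent.Block.Sn2

/-!
# Characters of symmetric groups, III: cores, weights and degrees
-/

namespace CF.Block.Sn

open Cfsg Equiv Finset

variable {I α : Type*} [Fintype I] [DecidableEq I] [Fintype α] [DecidableEq α] {p : ℕ}

/-- The number of beads below `b i` on its runner. -/
def rk (p : ℕ) (b : I → ℕ) (i : I) : ℕ := #{j | b j % p = b i % p ∧ b j < b i}

/-- The `p`-core: every bead is pushed down its runner as far as possible. -/
def core (p : ℕ) (b : I → ℕ) (i : I) : ℕ := b i % p + p * rk p b i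

/-- The `p`-weight. -/
def wt (p : ℕ) (b : I → ℕ) : ℕ := ∑ i, (b i / p - rk p b i)

/-- Cores. -/
structure IsCore (p : ℕ) (κ : I → ℕ) : Prop where
  inj : Function.Injective κ
  lt : ∀ i, κ i / p < #{j | κ j % p = κ i % p}

theorem eq_of_mod_div {x y : ℕ} (h1 : x % p = y % p) (h2 : x / p = y / p) : x = y := by
  rw [← Nat.mod_add_div x p, ← Nat.mod_add_div y p, h1, h2]

theorem div_lt_div_of_mod {x y : ℕ} (h1 : x % p = y % p) (h2 : x < y) (hp : 0 < p) :
    x / p < y / p :=
  lt_of_le_of_ne (Nat.div_le_div_right h2.le) fun h => h2.ne (eq_of_mod_div h1 h)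

theorem lt_of_div_lt_div {x y : ℕ} (h : x / p < y / p) : x < y := by
  by_contra h'
  exact absurd (Nat.div_le_div_right (not_lt.1 h')) (not_le.2 h)

omit [DecidableEq I] in
theorem rk_le (hp : 0 < p) {b : I → ℕ} (hb : Function.Injective b) (i : I) : rk p b i ≤ b i / p := by
  rw [← card_range (b i / p)]
  refine Finset.card_le_card_of_injOn (fun j => b j / p) (fun j hj => ?_) fun j hj l hl h => ?_
  · obtain ⟨-, h1, h2⟩ := mem_filter.1 hj
    exact mem_range.2 (div_lt_div_of_mod h1 h2 hp)
  · exact hb (eq_of_mod_div ((mem_filter.1 hj).2.1.trans (mem_filter.1 hl).2.1.symm) h)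

omit [DecidableEq I] in
theorem core_mod (b : I → ℕ) (i : I) : core p b i % p = b i % p := by simp [core]

omit [DecidableEq I] in
theorem core_div (hp : 0 < p) (b : I → ℕ) (i : I) : core p b i / p = rk p b i := by
  rw [core, Nat.add_mul_div_left _ _ hp, Nat.div_eq_of_lt (Nat.mod_lt _ hp), zero_add]

omit [DecidableEq I] in
theorem core_add (hp : 0 < p) {b : I → ℕ} (hb : Function.Injective b) (i : I) :
    core p b i + p * (b i / p - rk p b i) = b i := by
  rw [core, add_assoc, ← mul_add, Nat.add_sub_cancel' (rk_le hp hb i), Nat.mod_add_div]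

omit [DecidableEq I] in
theorem sum_core (hp : 0 < p) {b : I → ℕ} (hb : Function.Injective b) :
    ∑ i, b i = ∑ i, core p b i + p * wt p b := by
  rw [wt, Finset.mul_sum, ← Finset.sum_add_distrib]
  exact Finset.sum_congr rfl fun i _ => (core_add hp hb i).symm

omit [DecidableEq I] in
theorem rk_lt_rk {b : I → ℕ} {i j : I} (h1 : b j % p = b i % p) (h2 : b j < b i) :
    rk p b j < rk p b i := by
  refine Finset.card_lt_card ⟨fun l hl => ?_, fun h => ?_⟩
  · obtain ⟨-, h3, h4⟩ := mem_filter.1 hl
    exact mem_filter.2 ⟨mem_univ _, h3.trans h1, h4.trans h2⟩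
  · exact lt_irrefl _ (mem_filter.1 (h (mem_filter.2 ⟨mem_univ j, h1, h2⟩))).2.2

omit [DecidableEq I] in
theorem rk_lt_rk_iff {b : I → ℕ} (hb : Function.Injective b) {i j : I} (h1 : b j % p = b i % p) :
    rk p b j < rk p b i ↔ b j < b i := by
  refine ⟨fun h => ?_, rk_lt_rk h1⟩
  rcases lt_trichotomy (b j) (b i) with h2 | h2 | h2
  · exact h2
  · rw [hb h2] at h; exact absurd h (lt_irrefl _)
  · exact absurd (rk_lt_rk h1.symm h2) (not_lt.2 h.le)

omit [DecidableEq I] in
theorem isCore_core (hp : 0 < p) {b : I → ℕ} (hb : Function.Injective b) :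
    IsCore p (core p b) := by
  refine ⟨fun i j h => ?_, fun i => ?_⟩
  · have h1 : b i % p = b j % p := by rw [← core_mod, h, core_mod]
    have h2 : rk p b i = rk p b j := by rw [← core_div hp, h, core_div hp]
    rcases lt_trichotomy (b i) (b j) with h3 | h3 | h3
    · exact absurd (rk_lt_rk h1 h3) (by omega)
    · exact hb h3
    · exact absurd (rk_lt_rk h1.symm h3) (by omega)
  · simp only [core_mod, core_div hp]
    refine Finset.card_lt_card ⟨fun l hl => ?_, fun h => ?_⟩
    · exact mem_filter.2 ⟨mem_univ _, (mem_filter.1 hl).2.1⟩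
    · exact lt_irrefl _ (mem_filter.1 (h (mem_filter.2 ⟨mem_univ i, rfl⟩))).2.2

omit [DecidableEq I] in
theorem IsCore.exists_eq {κ : I → ℕ} (h : IsCore p κ) {x : ℕ}
    (hx : x / p < #{j | κ j % p = x % p}) : ∃ j, κ j = x := by
  have h1 : (univ.filter fun j => κ j % p = x % p).image (fun j => κ j / p) =
      range #{j | κ j % p = x % p} := by
    refine Finset.eq_of_subset_of_card_le (fun y hy => ?_) ?_
    · obtain ⟨j, hj, rfl⟩ := mem_image.1 hy
      rw [mem_range, ← (mem_filter.1 hj).2]
      exact h.lt j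
    · rw [card_range, card_image_of_injOn]
      exact fun j hj l hl e => h.inj (eq_of_mod_div
        ((mem_filter.1 hj).2.trans (mem_filter.1 hl).2.symm) e)
  rw [← mem_range, ← h1] at hx
  obtain ⟨j, hj, e⟩ := mem_image.1 hx
  exact ⟨j, eq_of_mod_div (mem_filter.1 hj).2 e⟩

omit [DecidableEq I] in
theorem IsCore.exists_eq_of_le {κ : I → ℕ} (h : IsCore p κ) {x : ℕ} {i : I}
    (h1 : x % p = κ i % p) (h2 : x ≤ κ i) : ∃ j, κ j = x :=
  h.exists_eq (by rw [h1]; exact (Nat.div_le_div_right h2).trans_lt (h.lt i))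

omit [DecidableEq I] in
theorem IsCore.exists_perm {κ κ' : I → ℕ} (h : IsCore p κ) (h' : IsCore p κ')
    (hr : ∀ i, κ' i % p = κ i % p) : ∃ w : Perm I, κ ∘ w = κ' :=
  exists_perm_of_range h'.inj fun i => h.exists_eq (by simpa only [hr] using h'.lt i)

omit [DecidableEq I] in
theorem IsCore.sum_core_eq (hp : 0 < p) {κ b : I → ℕ} (h : IsCore p κ) (hb : Function.Injective b)
    (hr : ∀ i, b i % p = κ i % p) : ∑ i, core p b i = ∑ i, κ i := by
  obtain ⟨w, hw⟩ := h.exists_perm (isCore_core hp hb) fun i => by rw [core_mod, hr]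
  rw [← hw, sum_comp_perm]

omit [DecidableEq I] in
theorem IsCore.wt_eq (hp : 0 < p) {κ b : I → ℕ} (h : IsCore p κ) (hb : Function.Injective b)
    (hr : ∀ i, b i % p = κ i % p) {w : ℕ} (hs : ∑ i, b i = ∑ i, κ i + p * w) : wt p b = w := by
  have := sum_core hp hb
  rw [h.sum_core_eq hp hb hr, hs] at this
  exact (Nat.eq_of_mul_eq_mul_left hp (by omega)).symm

omit [DecidableEq I] in
theorem core_eq_self_of_wt (hp : 0 < p) {b : I → ℕ} (hb : Function.Injective b) (h : wt p b = 0) :
    core p b = b := by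
  ext i
  have := core_add hp hb i
  rwa [(Finset.sum_eq_zero_iff.1 h) i (mem_univ i), mul_zero, add_zero] at this

omit [DecidableEq I] in
theorem IsCore.exists_perm_of_sum (hp : 0 < p) {κ b : I → ℕ} (h : IsCore p κ)
    (hb : Function.Injective b) (hr : ∀ i, b i % p = κ i % p) (hs : ∑ i, b i = ∑ i, κ i) :
    ∃ w : Perm I, κ ∘ w = b := by
  obtain ⟨w, hw⟩ := h.exists_perm (isCore_core hp hb) fun i => by rw [core_mod, hr]
  exact ⟨w, hw.trans (core_eq_self_of_wt hp hb (h.wt_eq hp hb hr (w := 0) (by simpa using hs)))⟩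

omit [Fintype I] in
theorem dn_mod {b : I → ℕ} {i : I} {k : ℕ} (hk : p ∣ k) (h : k ≤ b i) (j : I) :
    dn b i k j % p = b j % p := by
  by_cases hj : j = i
  · subst hj
    obtain ⟨c, rfl⟩ := hk
    rw [dn_self, Nat.sub_mul_mod h]
  · rw [dn_of_ne _ hj]

omit [Fintype I] in
theorem up_mod (b : I → ℕ) (i : I) {k : ℕ} (hk : p ∣ k) (j : I) :
    up b i k j % p = b j % p := by
  by_cases hj : j = i
  · subst hj
    obtain ⟨c, rfl⟩ := hk
    simp
  · rw [up_of_ne _ hj]

/-- The Murnaghan–Nakayama rule down to the core. -/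
theorem IsCore.mn (hp : 0 < p) {κ : I → ℕ} (h : IsCore p κ) {F : Poly I} (hF : AntiP F) (w : ℕ) :
    ∀ b : I → ℕ, (∀ i, b i % p = κ i % p) → ∑ i, b i = ∑ i, κ i + p * w →
      co b (ps X p ^ w * F) = co b (ps X p ^ w * alt κ) * co κ F := by
  induction w with
  | zero =>
    intro b hr hs
    simp only [pow_zero, one_mul]
    by_cases hb : Function.Injective b
    · obtain ⟨v, rfl⟩ := h.exists_perm_of_sum hp hb hr (by simpa using hs)
      have h1 := hF v κ
      have h2 := eps_comp_left κ κ v
      rw [eps_self h.inj, eps] at h2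
      rw [h2, mul_one]; exact h1
    · rw [show co b F = 0 from hF.eq_zero hb,
        show co b (alt κ) = 0 from (antiP_alt κ).eq_zero hb, zero_mul]
  | succ w ih =>
    intro b hr hs
    simp only [pow_succ', mul_assoc, co_ps_mul, Finset.sum_mul]
    refine Finset.sum_congr rfl fun i _ => ?_
    split_ifs with hi
    · have := sum_dn hi
      exact ih _ (fun j => by rw [dn_mod dvd_rfl hi, hr]) (by rw [mul_add] at hs; omega)
    · rw [zero_mul]

/-- The matrix of falling factorials, runner by runner. -/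
noncomputable def mat (p : ℕ) (b κ : I → ℕ) : Matrix I I ℂ :=
  Matrix.of fun j i => if κ j % p = b i % p then ((b i / p).descFactorial (κ j / p) : ℂ) else 0

theorem desc_step (x c : ℕ) :
    (x : ℂ) * ((x - 1).descFactorial c : ℂ) = ((x : ℂ) - c) * (x.descFactorial c : ℂ) := by
  rcases x with _ | x
  · rcases c with _ | c <;> simp
  · have h := Nat.succ_descFactorial_succ x c
    rw [Nat.descFactorial_succ] at h
    rw [Nat.add_sub_cancel]
    by_cases hc : c ≤ x + 1
    · rw [← Nat.cast_sub hc]; exact_mod_cast h.symm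
    · rw [Nat.descFactorial_of_lt (n := x + 1) (by omega), Nat.descFactorial_of_lt (by omega)]
      simp

theorem co_ps_pow_alt (hp : 0 < p) (κ : I → ℕ) (w : ℕ) : ∀ b : I → ℕ,
    ∑ i, b i = ∑ i, κ i + p * w → co b (ps X p ^ w * alt κ) * ∏ i, ((b i / p).factorial : ℂ) =
      w.factorial * (mat p b κ).det := by
  have key : ∀ (b : I → ℕ) (v : Perm I) (w : ℕ), ∑ i, b i = ∑ i, κ i + p * w →
      ∏ i, mat p b κ (v i) i ≠ 0 → (∀ i, κ (v i) % p = b i % p ∧ κ (v i) / p ≤ b i / p) ∧
        ∑ i, b i / p = ∑ i, κ (v i) / p + w := by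
    intro b v w hs h
    have h1 : ∀ i, κ (v i) % p = b i % p ∧ κ (v i) / p ≤ b i / p := fun i => by
      have := Finset.prod_ne_zero_iff.1 h i (mem_univ i)
      simp only [mat, Matrix.of_apply, ne_eq, ite_eq_right_iff, Nat.cast_eq_zero,
        Nat.descFactorial_eq_zero_iff_lt, Classical.not_imp, not_lt] at this
      exact this
    refine ⟨h1, Nat.eq_of_mul_eq_mul_left hp ?_⟩
    have h2 : ∑ i, b i = ∑ i, b i % p + p * ∑ i, b i / p := by
      rw [Finset.mul_sum, ← Finset.sum_add_distrib]; simp only [Nat.mod_add_div]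
    have h3 : ∑ i, κ i = ∑ i, b i % p + p * ∑ i, κ (v i) / p := by
      rw [Finset.mul_sum, ← Finset.sum_add_distrib, ← sum_comp_perm κ v]
      exact Finset.sum_congr rfl fun i _ => by rw [← (h1 i).1, Nat.mod_add_div]; rfl
    rw [mul_add]; omega
  induction w with
  | zero =>
    intro b hs
    rw [pow_zero, one_mul, Matrix.det_apply', Nat.factorial_zero, Nat.cast_one, one_mul]
    change eps b κ * _ = _
    rw [eps_def, Finset.sum_mul]
    refine Finset.sum_congr rfl fun v _ => ?_
    split_ifs with h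
    · subst h
      congr 1
      exact Finset.prod_congr rfl fun i _ => by simp [mat, Nat.descFactorial_self]
    · rw [zero_mul, eq_comm, mul_eq_zero]
      right
      by_contra h'
      obtain ⟨h1, h2⟩ := key b v 0 hs h'
      refine h (funext fun i => eq_of_mod_div (h1 i).1 ?_)
      exact (Finset.sum_eq_sum_iff_of_le fun i _ => (h1 i).2).1 (by simpa using h2.symm) i
        (mem_univ i)
  | succ w ih =>
    intro b hs
    have h1 : ∀ i, (if p ≤ b i then co (dn b i p) (ps X p ^ w * alt κ) else 0) *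
        ∏ i, ((b i / p).factorial : ℂ) = w.factorial * ∑ v : Perm I, sg v *
          ((((b i / p : ℕ) : ℂ) - (κ (v i) / p : ℕ)) * ∏ l, mat p b κ (v l) l) := fun i => by
      have h2 : ∀ v : Perm I, (((b i / p : ℕ) : ℂ) - (κ (v i) / p : ℕ)) * ∏ l, mat p b κ (v l) l =
          (b i / p : ℕ) * ((if κ (v i) % p = b i % p then
            ((b i / p - 1).descFactorial (κ (v i) / p) : ℂ) else 0) *
              ∏ l ∈ univ.erase i, mat p b κ (v l) l) := fun v => by
        rw [← Finset.mul_prod_erase _ _ (mem_univ i), ← mul_assoc, ← mul_assoc]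
        congr 1
        simp only [mat, Matrix.of_apply]
        split_ifs
        · rw [desc_step]
        · simp
      simp only [h2]
      split_ifs with hi
      · have h3 := sum_dn hi
        have h4 : dn b i p i / p = b i / p - 1 := by
          rw [dn_self, ← Nat.sub_mul_div _ _ 1, mul_one]
        have h5 : ∏ l, ((b l / p).factorial : ℂ) =
            (b i / p : ℕ) * ∏ l, ((dn b i p l / p).factorial : ℂ) := by
          rw [← Finset.mul_prod_erase _ _ (mem_univ i),
            ← Finset.mul_prod_erase _ (fun l => ((dn b i p l / p).factorial : ℂ)) (mem_univ i),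
            h4, ← mul_assoc, ← Nat.cast_mul, Nat.mul_factorial_pred
              (Nat.div_pos hi hp).ne']
          congr 1
          exact Finset.prod_congr rfl fun l hl => by rw [dn_of_ne _ (mem_erase.1 hl).1]
        rw [h5, mul_left_comm, ih _ (by rw [mul_add] at hs; omega), Matrix.det_apply',
          mul_left_comm, Finset.mul_sum]
        congr 1
        refine Finset.sum_congr rfl fun v _ => ?_
        rw [mul_left_comm, ← Finset.mul_prod_erase _ _ (mem_univ i)]
        congr 3
        · simp only [mat, Matrix.of_apply, h4, dn_mod dvd_rfl hi]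
        · exact Finset.prod_congr rfl fun l hl => by
            simp only [mat, Matrix.of_apply, dn_of_ne _ (mem_erase.1 hl).1]
      · simp [Nat.div_eq_of_lt (not_le.1 hi)]
    simp only [pow_succ', mul_assoc, co_ps_mul, Finset.sum_mul, h1]
    rw [← Finset.mul_sum, Finset.sum_comm, Matrix.det_apply', Nat.factorial_succ, Nat.cast_mul,
      mul_comm ((w + 1 : ℕ) : ℂ), mul_assoc, Finset.mul_sum (a := ((w + 1 : ℕ) : ℂ))]
    congr 1
    refine Finset.sum_congr rfl fun v _ => ?_
    rw [← Finset.mul_sum, ← Finset.sum_mul, mul_left_comm ((w + 1 : ℕ) : ℂ)]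
    refine congrArg _ ?_
    by_cases h : ∏ l, mat p b κ (v l) l = 0
    · rw [h, mul_zero, mul_zero]
    · rw [Finset.sum_sub_distrib, ← Nat.cast_sum, ← Nat.cast_sum, (key b v _ hs h).2]
      push_cast; ring

theorem det_desc {J : Type*} [Fintype J] [DecidableEq J] {c γ : J → ℕ} (hc : IsDel c)
    (h : ∀ i j, c i < c j ↔ γ i < γ j) :
    (Matrix.of fun j i => ((γ i).descFactorial (c j) : ℂ)).det =
      ((∏ i, ∏ j with γ j < γ i, (γ i - γ j) : ℕ) : ℂ) := by
  let e : J ≃ Fin (Fintype.card J) := Equiv.ofBijective (fun j => ⟨c j, hc.lt j⟩)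
    ((Fintype.bijective_iff_injective_and_card _).2
      ⟨fun i j hij => hc.inj (congrArg Fin.val hij), by simp⟩)
  have he : ∀ x, c (e.symm x) = x := fun x => congrArg Fin.val (e.apply_symm_apply x)
  rw [← Matrix.det_submatrix_equiv_self e.symm, ← Matrix.det_transpose]
  have h1 := Matrix.det_eval_matrixOfPolynomials_eq_det_vandermonde
    (fun x => (γ (e.symm x) : ℂ)) (fun x => descPochhammer ℂ x)
    (fun x => descPochhammer_natDegree ℂ x) fun x => monic_descPochhammer ℂ x
  rw [Matrix.det_vandermonde] at h1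
  refine Eq.trans ?_ (h1.symm.trans ?_)
  · congr 1
    ext x y
    simp [descPochhammer_eval_eq_descFactorial, he]
  · push_cast
    rw [Finset.prod_comm' (t' := univ) (s' := fun y => Iio y) (by simp)]
    refine Fintype.prod_equiv e.symm _ _ fun y => ?_
    refine Finset.prod_equiv e.symm (fun x => ?_) fun x hx => ?_
    · simp only [mem_Iio, mem_filter, mem_univ, true_and, ← h, he, Fin.lt_def]
    · rw [Nat.cast_sub ((h _ _).1 (by rw [he, he]; exact Fin.lt_def.1 (mem_Iio.1 hx))).le]

/-- The product of the differences of bead positions on each runner. -/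
def dprod (p : ℕ) (b : I → ℕ) : ℕ :=
  ∏ i, ∏ j with b j % p = b i % p ∧ b j < b i, (b i / p - b j / p)

omit [DecidableEq I] in
theorem dprod_ne_zero (hp : 0 < p) (b : I → ℕ) : dprod p b ≠ 0 :=
  Finset.prod_ne_zero_iff.2 fun _ _ => Finset.prod_ne_zero_iff.2 fun _ hj =>
    Nat.sub_ne_zero_of_lt (div_lt_div_of_mod (mem_filter.1 hj).2.1 (mem_filter.1 hj).2.2 hp)

theorem det_mat (hp : 0 < p) {b : I → ℕ} (hb : Function.Injective b) :
    (mat p b (core p b)).det = dprod p b := by
  have h1 : (mat p b (core p b)).BlockTriangular fun i => b i % p := fun j i h => by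
    simp only [mat, Matrix.of_apply, core_mod]
    exact if_neg (ne_of_gt h)
  rw [h1.det, dprod, ← Finset.prod_fiberwise_of_maps_to (t := univ.image fun i => b i % p)
    (g := fun i => b i % p) (fun i _ => mem_image_of_mem _ (mem_univ i)), Nat.cast_prod]
  refine Finset.prod_congr rfl fun r _ => ?_
  have h2 := det_desc (J := {i // b i % p = r}) (c := fun i => rk p b i) (γ := fun i => b i / p)
    ⟨fun i j h => ?_, fun i => ?_⟩ fun i j => ?_
  · refine Eq.trans ?_ (h2.trans ?_)
    · congr 1
      ext i j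
      simp only [Matrix.toSquareBlock_def, mat, Matrix.of_apply, core_mod, core_div hp]
      rw [if_pos (i.2.trans j.2.symm)]
    · congr 1
      rw [Finset.prod_subtype (p := fun i => b i % p = r) _ (by simp)]
      refine Finset.prod_congr rfl fun i _ => ?_
      refine Finset.prod_bij (fun j _ => (j : I)) (fun j hj => ?_) (fun _ _ _ _ h => Subtype.ext h)
        (fun j hj => ?_) fun _ _ => rfl
      · exact mem_filter.2 ⟨mem_univ _, j.2.trans i.2.symm, lt_of_div_lt_div (mem_filter.1 hj).2⟩
      · obtain ⟨-, h3, h4⟩ := mem_filter.1 hj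
        exact ⟨⟨j, h3.trans i.2⟩, mem_filter.2 ⟨mem_univ _, div_lt_div_of_mod h3 h4 hp⟩, rfl⟩
  · refine Subtype.ext ((isCore_core hp hb).inj ?_)
    simp only [core] at h ⊢
    rw [i.2, j.2, h]
  · have := (isCore_core hp hb).lt i
    simp only [core_mod, core_div hp, i.2] at this
    rwa [Fintype.card_subtype]
  · rw [rk_lt_rk_iff hb (i.2.trans j.2.symm)]
    exact ⟨fun h => div_lt_div_of_mod (i.2.trans j.2.symm) h hp, lt_of_div_lt_div⟩

theorem exists_int_co (κ : I → ℕ) (k w : ℕ) :
    ∀ b : I → ℕ, ∃ n : ℤ, co b (ps X k ^ w * alt κ) = n := by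
  induction w with
  | zero =>
    intro b
    refine ⟨∑ v : Perm I, if κ ∘ v = b then (Perm.sign v : ℤ) else 0, ?_⟩
    rw [pow_zero, one_mul]
    change eps b κ = _
    rw [eps_def]; push_cast; rfl
  | succ w ih =>
    intro b
    choose n hn using ih
    refine ⟨∑ i, if k ≤ b i then n (dn b i k) else 0, ?_⟩
    simp only [pow_succ', mul_assoc, co_ps_mul, hn]
    push_cast; rfl

/-- The number of ways of moving from `b` down to its core. -/
def np (p : ℕ) (b : I → ℕ) : ℕ := (wt p b).factorial * dprod p b / ∏ i, (b i / p).factorial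

theorem np_spec (hp : 0 < p) {b : I → ℕ} (hb : Function.Injective b) :
    co b (ps X p ^ wt p b * alt (core p b)) = np p b ∧
      np p b * ∏ i, (b i / p).factorial = (wt p b).factorial * dprod p b := by
  obtain ⟨n, hn⟩ := exists_int_co (core p b) p (wt p b) b
  have h1 := co_ps_pow_alt hp (core p b) (wt p b) b (sum_core hp hb)
  rw [hn, det_mat hp hb] at h1
  have h2 : n * (∏ i, (b i / p).factorial : ℕ) = ((wt p b).factorial * dprod p b : ℕ) := by
    exact_mod_cast h1
  have h3 : 0 < ∏ i, (b i / p).factorial := Finset.prod_pos fun _ _ => Nat.factorial_pos _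
  have h4 : 0 ≤ n := by
    by_contra h
    have := mul_neg_of_neg_of_pos (not_le.1 h) (Int.natCast_pos.2 h3)
    omega
  obtain ⟨m, rfl⟩ := Int.eq_ofNat_of_zero_le h4
  have h5 : m * ∏ i, (b i / p).factorial = (wt p b).factorial * dprod p b := by exact_mod_cast h2
  have h6 : np p b = m := by rw [np, ← h5, Nat.mul_div_cancel _ h3]
  rw [h6, hn]
  exact ⟨by simp, h5⟩

theorem np_ne_zero (hp : 0 < p) {b : I → ℕ} (hb : Function.Injective b) : np p b ≠ 0 := fun h => by
  have := (np_spec hp hb).2
  rw [h, zero_mul] at this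
  exact mul_ne_zero (Nat.factorial_ne_zero _) (dprod_ne_zero hp b) this.symm

theorem mn_core (hp : 0 < p) {b : I → ℕ} (hb : Function.Injective b) {F : Poly I} (hF : AntiP F) :
    co b (ps X p ^ wt p b * F) = np p b * co (core p b) F := by
  rw [(isCore_core hp hb).mn hp hF _ b (fun i => (core_mod b i).symm) (sum_core hp hb),
    (np_spec hp hb).1]

omit [DecidableEq I] in
theorem isDel_core_one {b : I → ℕ} (hb : Function.Injective b) : IsDel (core 1 b) :=
  ⟨(isCore_core one_pos hb).inj, fun i => by
    simpa [Nat.mod_one] using (isCore_core one_pos hb).lt i⟩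

omit [DecidableEq I] in
theorem Adm.wt_one {n : ℕ} {b : I → ℕ} (hb : Adm n b) : wt 1 b = n := by
  have := sum_core one_pos hb.inj
  rw [(isDel_core_one hb.inj).sum, hb.sum] at this
  omega

theorem Adm.chi_one {δ b : I → ℕ} (hδ : IsDel δ) (hb : Adm (Fintype.card α) b) :
    chi δ b (1 : Perm α) = np 1 b ∨ chi δ b (1 : Perm α) = -np 1 b := by
  rw [chi, cyc_one, mul_comm, ← hb.wt_one, mn_core one_pos hb.inj (antiP_alt δ)]
  obtain ⟨v, hv⟩ := exists_perm_of_range (c := δ) (isDel_core_one hb.inj).inj fun i =>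
    hδ.surj ((isDel_core_one hb.inj).lt i)
  change _ * eps _ _ = _ ∨ _ * eps _ _ = _
  rw [← hv, eps_comp_left, eps_self hδ.inj]
  rcases sg_eq v with h | h <;> simp [h]

theorem Lab.one_eq {δ b : I → ℕ} (hδ : IsDel δ) {χ : Perm α → ℂ} (hχ : IsIrrCharacter (Perm α) χ)
    (h : Lab δ b χ) : χ 1 = np 1 b := by
  have hb := h.adm hδ hχ
  obtain ⟨n, hn⟩ := Char.char_one_eq_nat (Char.irr_isCharacter hχ)
  have h1 : χ 1 = np 1 b ∨ χ 1 = - np 1 b := by
    rcases h with rfl | rfl <;> rcases hb.chi_one hδ with h | h <;> simp [h]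
  rcases h1 with h1 | h1
  · exact h1
  · rw [hn] at h1
    have : (n : ℤ) = - np 1 b := by exact_mod_cast h1
    have := np_ne_zero one_pos hb.inj
    omega

theorem factorization_factorial_eq (hp : p.Prime) (x : ℕ) :
    x.factorial.factorization p = (x / p).factorial.factorization p + x / p := by
  have := Fact.mk hp
  rw [Nat.factorization_def _ hp, Nat.factorization_def _ hp, ← padicValNat_factorial_mul,
    ← padicValNat_factorial_mul_add (x / p) (Nat.mod_lt x hp.pos), Nat.div_add_mod]

omit [DecidableEq I] in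
theorem factorization_dprod (hp : p.Prime) (b : I → ℕ) :
    (dprod 1 b).factorization p = (dprod p b).factorization p + ∑ i, rk p b i := by
  have h0 : ∀ {q : ℕ}, 0 < q → (dprod q b).factorization p =
      ∑ i, ∑ j with b j % q = b i % q ∧ b j < b i, (b i / q - b j / q).factorization p := by
    intro q hq
    have h1 : ∀ i, ∀ j ∈ univ.filter fun j => b j % q = b i % q ∧ b j < b i,
        b i / q - b j / q ≠ 0 := fun i j hj =>
      Nat.sub_ne_zero_of_lt (div_lt_div_of_mod (mem_filter.1 hj).2.1 (mem_filter.1 hj).2.2 hq)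
    rw [dprod, Nat.factorization_prod fun i _ => Finset.prod_ne_zero_iff.2 (h1 i),
      Finsupp.finsetSum_apply]
    exact Finset.sum_congr rfl fun i _ => by
      rw [Nat.factorization_prod (h1 i), Finsupp.finsetSum_apply]
  rw [h0 one_pos, h0 hp.pos, ← Finset.sum_add_distrib]
  refine Finset.sum_congr rfl fun i _ => ?_
  rw [rk, Finset.card_eq_sum_ones, ← Finset.sum_add_distrib, Finset.sum_filter, Finset.sum_filter]
  refine Finset.sum_congr rfl fun j _ => ?_
  simp only [Nat.mod_one, Nat.div_one, true_and]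
  by_cases h1 : b j < b i
  · by_cases h2 : b j % p = b i % p
    · rw [if_pos h1, if_pos ⟨h2, h1⟩]
      have h3 := div_lt_div_of_mod h2 h1 hp.pos
      have h4 : b i - b j = p * (b i / p - b j / p) := by
        rw [Nat.mul_sub]
        have := Nat.mod_add_div (b i) p
        have := Nat.mod_add_div (b j) p
        omega
      rw [h4, Nat.factorization_mul hp.ne_zero (Nat.sub_ne_zero_of_lt h3), Finsupp.add_apply,
        hp.factorization_self, add_comm]
    · rw [if_pos h1, if_neg fun h => h2 h.1]
      exact Nat.factorization_eq_zero_of_not_dvd fun h => h2 ((Nat.modEq_iff_dvd' h1.le).2 h)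
  · rw [if_neg h1, if_neg fun h => h1 h.2]

/-- The `p`-part of the degree. -/
theorem Adm.factorization_np (hp : p.Prime) {n : ℕ} {b : I → ℕ} (hb : Adm n b) :
    (np 1 b).factorization p + (p * wt p b).factorial.factorization p =
      n.factorial.factorization p + (np p b).factorization p := by
  have h0 : ∀ {q : ℕ}, 0 < q → (np q b).factorization p +
      ∑ i, (b i / q).factorial.factorization p =
        (wt q b).factorial.factorization p + (dprod q b).factorization p := by
    intro q hq
    have := congrArg (fun x => x.factorization p) (np_spec hq hb.inj).2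
    rwa [Nat.factorization_mul (np_ne_zero hq hb.inj)
      (Finset.prod_ne_zero_iff.2 fun _ _ => Nat.factorial_ne_zero _),
      Nat.factorization_mul (Nat.factorial_ne_zero _) (dprod_ne_zero hq b),
      Nat.factorization_prod fun _ _ => Nat.factorial_ne_zero _, Finsupp.add_apply,
      Finsupp.add_apply, Finsupp.finsetSum_apply] at this
  have h1 := h0 one_pos
  have h2 := h0 hp.pos
  rw [hb.wt_one, factorization_dprod hp] at h1
  simp only [Nat.div_one] at h1
  rw [Finset.sum_congr rfl fun i _ => factorization_factorial_eq hp (b i),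
    Finset.sum_add_distrib] at h1
  have h3 : ∑ i, b i / p = wt p b + ∑ i, rk p b i := by
    rw [wt, ← Finset.sum_add_distrib]
    exact Finset.sum_congr rfl fun i _ => (Nat.sub_add_cancel (rk_le hp.pos hb.inj i)).symm
  rw [factorization_factorial_eq hp (p * _), Nat.mul_div_cancel_left _ hp.pos]
  omega

end CF.Block.Sn
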