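import Cfsg.Agent.Block.Sn3
import Cfsg.Agent.BlockB.Rank

/-!
# Characters of symmetric groups, IV: characters of a block have the same core
-/

namespace CF.Block.Sn

open Cfsg Equiv Finset
open scoped ComplexConjugate

variable {I α : Type*} [Fintype I] [DecidableEq I] [Fintype α] [DecidableEq α] {p : ℕ}

section Emb

variable {A B : Type*}

/-- A Young subgroup with two factors. -/
def emb (e : A ⊕ B ≃ α) : Perm A × Perm B →* Perm α :=
  e.permCongrHom.toMonoidHom.comp (Perm.sumCongrHom A B)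

omit [Fintype α] [DecidableEq α] in
theorem emb_apply (e : A ⊕ B ≃ α) (a : Perm A) (b : Perm B) :
    emb e (a, b) = e.permCongr (Perm.sumCongr a b) := rfl

omit [Fintype α] [DecidableEq α] in
@[simp] theorem emb_inl (e : A ⊕ B ≃ α) (g : Perm A × Perm B) (x : A) :
    emb e g (e (Sum.inl x)) = e (Sum.inl (g.1 x)) := by simp [emb]

omit [Fintype α] [DecidableEq α] in
@[simp] theorem emb_inr (e : A ⊕ B ≃ α) (g : Perm A × Perm B) (x : B) :
    emb e g (e (Sum.inr x)) = e (Sum.inr (g.2 x)) := by simp [emb]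

omit [Fintype α] [DecidableEq α] in
theorem emb_injective (e : A ⊕ B ≃ α) : Function.Injective (emb e) :=
  e.permCongrHom.injective.comp Perm.sumCongrHom_injective

theorem cyc_emb [Fintype A] [DecidableEq A] [Fintype B] [DecidableEq B] {R J : Type*} [CommRing R]
    [Fintype J] (z : J → R) (e : A ⊕ B ≃ α) (a : Perm A) (b : Perm B) :
    cyc z (emb e (a, b)) = cyc z a * cyc z b := by
  rw [emb_apply, cyc_permCongr, cyc_sumCongr]

end Emb

/-- The standard `k`-cycle. -/
def rot (k : ℕ) : Perm (ZMod k) := Equiv.addRight 1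

theorem rot_zpow (k : ℕ) (n : ℤ) (a : ZMod k) : (rot k ^ n) a = a + n := by
  induction n using Int.induction_on generalizing a with
  | zero => simp
  | succ n ih => rw [zpow_add_one, Perm.mul_apply, ih]; simp [rot]; ring
  | pred n ih => rw [zpow_sub_one, Perm.mul_apply, ih]; simp [rot]; ring

theorem rot_pow (k n : ℕ) (a : ZMod k) : (rot k ^ n) a = a + n := by
  simpa using rot_zpow k n a

theorem orderOf_rot (k : ℕ) : orderOf (rot k) = k := by
  refine Nat.dvd_antisymm (orderOf_dvd_of_pow_eq_one ?_) ?_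
  · ext a; simp [rot_pow]
  · have := rot_pow k (orderOf (rot k)) 0
    rw [pow_orderOf_eq_one] at this
    exact (ZMod.natCast_eq_zero_iff _ _).1 (by simpa using this.symm)

theorem cyc_rot {R J : Type*} [CommRing R] [Fintype J] (z : J → R) (k : ℕ) [NeZero k] :
    cyc z (rot k) = ps z k := by
  rw [cyc_of_trans z, ZMod.card]
  intro a b
  obtain ⟨n, hn⟩ := ZMod.intCast_surjective (b - a)
  exact ⟨n, by rw [rot_zpow, hn]; ring⟩

theorem exists_sing {k m : ℕ} (hk : 0 < k) (h : k + m = Fintype.card α) (ρ : Perm (Fin m)) :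
    ∃ σ : Perm α, k ∣ orderOf σ ∧ cyc (X : I → Poly I) σ = ps X k * cyc X ρ := by
  have : NeZero k := ⟨hk.ne'⟩
  let e : ZMod k ⊕ Fin m ≃ α := Fintype.equivOfCardEq (by simp [h])
  refine ⟨emb e (rot k, ρ), ?_, by rw [cyc_emb, cyc_rot]⟩
  rw [orderOf_injective _ (emb_injective e), Prod.orderOf_mk, orderOf_rot]
  exact Nat.dvd_lcm_left _ _

theorem cyc_split {R J : Type*} [CommRing R] [Fintype J] (z : J → R) (σ : Perm α) (a : α) :
    ∃ (m : ℕ) (ρ : Perm (Fin m)), 0 < Function.minimalPeriod σ a ∧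
      Function.minimalPeriod σ a + m = Fintype.card α ∧
      cyc z σ = ps z (Function.minimalPeriod σ a) * cyc z ρ := by
  classical
  have h1 : ∀ x, σ.SameCycle a (σ x) ↔ σ.SameCycle a x := fun x => Perm.sameCycle_apply_right
  have h2 : σ = (σ.subtypePerm h1).subtypeCongr (σ.subtypePerm fun x => (h1 x).not) := by
    ext x
    by_cases hx : σ.SameCycle a x
    · rw [Perm.subtypeCongr.left_apply _ _ hx]; rfl
    · rw [Perm.subtypeCongr.right_apply _ _ hx]; rfl
  have h3 : Function.minimalPeriod σ a = Fintype.card {x // σ.SameCycle a x} := by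
    refine (MulAction.minimalPeriod_eq_card σ a).trans (Fintype.card_congr
      (Equiv.subtypeEquivRight fun x => ?_))
    constructor
    · rintro ⟨⟨_, n, rfl⟩, h⟩; exact ⟨n, h⟩
    · rintro ⟨n, h⟩; exact ⟨⟨_, n, rfl⟩, h⟩
  have : Nonempty {x // σ.SameCycle a x} := ⟨⟨a, Perm.SameCycle.rfl⟩⟩
  refine ⟨_, (Fintype.equivFin {x // ¬ σ.SameCycle a x}).permCongr
    (σ.subtypePerm fun x => (h1 x).not), ?_, ?_, ?_⟩
  · rw [h3]; exact Fintype.card_pos
  · rw [h3, Fintype.card_subtype_compl, Nat.add_sub_cancel' (Fintype.card_subtype_le _)]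
  · rw [cyc_permCongr, h3, ← cyc_of_trans z (σ := σ.subtypePerm h1), ← cyc_subtypeCongr, ← h2]
    rintro ⟨x, hx⟩ ⟨y, hy⟩
    obtain ⟨n, hn⟩ := hx.symm.trans hy
    exact ⟨n, by rw [Perm.subtypePerm_zpow]; exact Subtype.ext hn⟩

omit [DecidableEq α] in
theorem exists_dvd_minimalPeriod (hp : p.Prime) {σ : Perm α} (h : p ∣ orderOf σ) :
    ∃ a, p ∣ Function.minimalPeriod σ a := by
  classical
  have h1 : orderOf σ ∣ ∏ a, Function.minimalPeriod σ a := by
    refine orderOf_dvd_of_pow_eq_one ?_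
    ext a
    obtain ⟨c, hc⟩ := Finset.dvd_prod_of_mem (fun a => Function.minimalPeriod σ a) (mem_univ a)
    rw [hc, Perm.coe_pow]
    exact (Function.isPeriodicPt_minimalPeriod σ a).mul_const c
  obtain ⟨a, -, ha⟩ := hp.prime.exists_mem_finset_dvd (h.trans h1)
  exact ⟨a, ha⟩

/-- The span of the antisymmetrized cycle polynomials of degree `m`. -/
noncomputable def WW (δ : I → ℕ) (m : ℕ) : Submodule ℂ (Poly I) :=
  Submodule.span ℂ (Set.range fun ρ : Perm (Fin m) => alt δ * cyc X ρ)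

theorem alt_mem_WW {δ : I → ℕ} (hδ : IsDel δ) {m : ℕ} {c : I → ℕ}
    (hc : ∑ i, c i = m + (Fintype.card I).choose 2) : alt c ∈ WW δ m := by
  rw [← cauchy (α := Fin m) hδ (by simpa using hc)]
  exact Submodule.smul_mem _ _ (Submodule.sum_mem _ fun σ _ => Submodule.smul_mem _ _
    (Submodule.subset_span ⟨σ, rfl⟩))

theorem mem_WW {δ : I → ℕ} (hδ : IsDel δ) {m : ℕ} {F : Poly I} (hF : AntiP F)
    (h : ∀ b, co b F ≠ 0 → ∑ i, b i = m + (Fintype.card I).choose 2) : F ∈ WW δ m := by
  have h1 : ((Fintype.card I).factorial : ℂ) • F = ∑ b ∈ F.coeff.support, co b F • alt b := by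
    refine poly_ext fun c => ?_
    have h2 : ∀ b, co c (co b F • alt b) =
        ∑ w : Perm I, if b = c ∘ (w⁻¹ : Perm I) then co b F * sg w else 0 := fun b => by
      rw [map_smul, smul_eq_mul]
      change _ * eps c b = _
      rw [eps_def, Finset.mul_sum]
      refine Finset.sum_congr rfl fun w _ => ?_
      rw [mul_ite, mul_zero]
      refine if_congr ⟨?_, ?_⟩ rfl rfl
      · rintro rfl; ext; simp
      · rintro rfl; ext; simp
    rw [map_sum]
    simp only [h2]
    rw [Finset.sum_comm, Finset.sum_congr rfl (g := fun _ => co c F)]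
    · simp [Fintype.card_perm]
    · intro w _
      have h3 : co (c ∘ (w⁻¹ : Perm I)) F * sg w = co c F := by
        rw [show co (c ∘ (w⁻¹ : Perm I)) F = _ from hF w⁻¹ c, sg_inv, mul_right_comm, sg_mul_self,
          one_mul]
      rw [Finset.sum_ite_eq']
      split_ifs with h4
      · exact h3
      · rw [← h3, show co (c ∘ (w⁻¹ : Perm I)) F = 0 from Finsupp.notMem_support_iff.1 h4, zero_mul]
  have h3 : ((Fintype.card I).factorial : ℂ) ≠ 0 := by exact_mod_cast Nat.factorial_ne_zero _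
  rw [← Submodule.smul_mem_iff _ h3, h1]
  exact Submodule.sum_mem _ fun b hb => Submodule.smul_mem _ _
    (alt_mem_WW hδ (h b (Finsupp.mem_support_iff.1 hb)))

variable (p α) in
/-- The span of the antisymmetrized cycle polynomials of `p`-singular elements. -/
noncomputable def UU (δ : I → ℕ) : Submodule ℂ (Poly I) :=
  Submodule.span ℂ ((fun σ : Perm α => alt δ * cyc X σ) '' {σ | p ∣ orderOf σ})

theorem ps_mul_mem_UU {δ : I → ℕ} {k m : ℕ} (hk : 0 < k) (hpk : p ∣ k)
    (h : k + m = Fintype.card α) {F : Poly I} (hF : F ∈ WW δ m) : ps X k * F ∈ UU α p δ := by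
  induction hF using Submodule.span_induction with
  | mem F hF =>
    obtain ⟨ρ, rfl⟩ := hF
    obtain ⟨σ, h1, h2⟩ := exists_sing (I := I) hk h ρ
    exact Submodule.subset_span ⟨σ, hpk.trans h1, by simp only [h2]; ring⟩
  | zero => rw [mul_zero]; exact zero_mem _
  | add _ _ _ _ h1 h2 => rw [mul_add]; exact add_mem h1 h2
  | smul c _ _ h1 => rw [mul_smul_comm]; exact Submodule.smul_mem _ _ h1

theorem exists_of_mem_UU {δ : I → ℕ} {F : Poly I} (hF : F ∈ UU α p δ) :
    ∃ θ : Perm α → ℂ, IsClassFunction (Perm α) θ ∧ (∀ σ, ¬ p ∣ orderOf σ → θ σ = 0) ∧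
      ∀ b, classInner θ (chi δ b) = co b F := by
  induction hF using Submodule.span_induction with
  | mem F hF =>
    obtain ⟨σ, hσ, rfl⟩ := hF
    refine ⟨fun g => ∑ h : Perm α, if h * σ * h⁻¹ = g then 1 else 0, fun g t => ?_, fun g hg => ?_,
      fun b => ?_⟩
    · beta_reduce
      symm
      refine Fintype.sum_equiv (Equiv.mulLeft t) _ _ fun h => ?_
      refine if_congr ?_ rfl rfl
      rw [Equiv.coe_mulLeft]
      constructor
      · rintro rfl; group
      · intro h'
        calc h * σ * h⁻¹ = t⁻¹ * (t * h * σ * (t * h)⁻¹) * t := by group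
          _ = g := by rw [h']; group
    · refine Finset.sum_eq_zero fun h _ => if_neg ?_
      rintro rfl
      exact hg (by rwa [BlockB.orderOf_conj'])
    · rw [inner_chi_right]
      simp only [Finset.sum_mul, ite_mul, one_mul, zero_mul]
      rw [Finset.sum_comm]
      simp only [Finset.sum_ite_eq, mem_univ, if_true, chi_classFun δ b σ, Finset.sum_const,
        card_univ, Fintype.card_perm, nsmul_eq_mul]
      have h3 : ((Fintype.card α).factorial : ℂ) ≠ 0 := by exact_mod_cast Nat.factorial_ne_zero _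
      rw [inv_mul_cancel_left₀ h3]; rfl
  | zero => exact ⟨0, fun _ _ => rfl, fun _ _ => rfl, fun b => by
      rw [Char.inner_zero_left, map_zero]⟩
  | add _ _ _ _ h1 h2 =>
    obtain ⟨θ, a1, a2, a3⟩ := h1
    obtain ⟨φ, b1, b2, b3⟩ := h2
    exact ⟨θ + φ, fun g h => by simp [a1 g h, b1 g h], fun g hg => by simp [a2 g hg, b2 g hg],
      fun b => by rw [Char.inner_add_left, a3, b3, map_add]⟩
  | smul c _ _ h1 =>
    obtain ⟨θ, a1, a2, a3⟩ := h1
    exact ⟨c • θ, fun g h => by simp [a1 g h], fun g hg => by simp [a2 g hg],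
      fun b => by rw [Char.inner_smul_left, a3, map_smul, smul_eq_mul]⟩

open Classical in
/-- Projection to a set of monomials. -/
noncomputable def proj (S : Set (I → ℕ)) : Poly I →ₗ[ℂ] Poly I where
  toFun F := .ofCoeff (F.coeff.filter (· ∈ S))
  map_add' F G := by ext; simp [Finsupp.filter_add]
  map_smul' c F := by ext; simp [Finsupp.filter_smul]

omit [Fintype I] [DecidableEq I] in
theorem co_proj (S : Set (I → ℕ)) (b : I → ℕ) [Decidable (b ∈ S)] (F : Poly I) :
    co b (proj S F) = if b ∈ S then co b F else 0 := by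
  have : co b (proj S F) = @ite ℂ (b ∈ S) (Classical.propDecidable _) (co b F) 0 := rfl
  rw [this]
  congr

/-- Two exponent vectors have the same residues up to order. -/
def SameRes (p : ℕ) (b c : I → ℕ) : Prop := ∃ w : Perm I, ∀ i, c (w i) % p = b i % p

omit [Fintype I] [DecidableEq I] in
theorem SameRes.comp {b c : I → ℕ} (v : Perm I) : SameRes p b (c ∘ v) ↔ SameRes p b c :=
  ⟨fun ⟨w, h⟩ => ⟨v * w, h⟩, fun ⟨w, h⟩ => ⟨v⁻¹ * w, fun i => by simpa using h i⟩⟩

omit [Fintype I] [DecidableEq I] in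
theorem SameRes.refl (b : I → ℕ) : SameRes p b b := ⟨1, fun _ => rfl⟩

omit [Fintype I] [DecidableEq I] in
theorem SameRes.congr {b c c' : I → ℕ} (h : ∀ i, c i % p = c' i % p) :
    SameRes p b c ↔ SameRes p b c' := by simp only [SameRes, h]

theorem proj_mem_UU (hp : p.Prime) {δ : I → ℕ} (hδ : IsDel δ) (b : I → ℕ) {F : Poly I}
    (hF : F ∈ UU α p δ) : proj {c | SameRes p b c} F ∈ UU α p δ := by
  classical
  induction hF using Submodule.span_induction with
  | mem F hF =>
    obtain ⟨σ, hσ, rfl⟩ := hF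
    obtain ⟨a, ha⟩ := exists_dvd_minimalPeriod hp hσ
    obtain ⟨m, ρ, h1, h2, h3⟩ := cyc_split (X : I → Poly I) σ a
    have h4 : proj {c | SameRes p b c} (alt δ * cyc X σ) =
        ps X (Function.minimalPeriod σ a) * proj {c | SameRes p b c} (alt δ * cyc X ρ) := by
      refine poly_ext fun c => ?_
      rw [h3, co_proj, co_alt_ps_mul, co_ps_mul]
      simp only [co_proj, Set.mem_ofPred_eq]
      split_ifs with hc
      · refine Finset.sum_congr rfl fun i _ => ?_
        split_ifs with hi h5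
        · rfl
        · exact absurd ((SameRes.congr (dn_mod ha hi)).2 hc) h5
        · rfl
      · refine (Finset.sum_eq_zero fun i _ => ?_).symm
        split_ifs with hi h5
        · exact absurd ((SameRes.congr (dn_mod ha hi)).1 h5) hc
        · rfl
        · rfl
    simp only [h4]
    refine ps_mul_mem_UU h1 ha h2 (mem_WW hδ (fun w c => ?_) fun c hc => ?_)
    · simp only [co_proj, Set.mem_ofPred_eq, SameRes.comp]
      split_ifs
      · exact antiP_chi δ ρ w c
      · rw [mul_zero]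
    · rw [co_proj] at hc
      by_contra h5
      refine hc ?_
      split_ifs
      · exact chi_eq_zero_of_sum (by rwa [hδ.sum, Fintype.card_fin]) ρ
      · rfl
  | zero => rw [map_zero]; exact zero_mem _
  | add _ _ _ _ h1 h2 => rw [map_add]; exact add_mem h1 h2
  | smul c _ _ h1 => rw [map_smul]; exact Submodule.smul_mem _ _ h1

theorem sameRes_of_inner_reg (hp : p.Prime) {δ : I → ℕ} (hδ : IsDel δ)
    (hI : Fintype.card α ≤ Fintype.card I) {b c : I → ℕ}
    (h : classInner (pRegularPart p (chi δ b : Perm α → ℂ)) (chi δ c) ≠ 0) : SameRes p b c := by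
  classical
  by_contra hc
  set θ : Perm α → ℂ := chi δ b - pRegularPart p (chi δ b) with hθ
  have hθ1 : IsClassFunction (Perm α) θ := fun g t => by
    simp only [hθ, Pi.sub_apply, chi_classFun δ b g t,
      BlockB.reg_classFun (chi_classFun δ b) g t]
  have hθ2 : ∀ σ, ¬ p ∣ orderOf σ → θ σ = 0 := fun σ hσ => by
    simp only [hθ, Pi.sub_apply, BlockB.reg_of_not_dvd _ hσ, sub_self]
  have hθ3 : ∀ σ, p ∣ orderOf σ → θ σ = chi δ b σ := fun σ hσ => by
    simp only [hθ, Pi.sub_apply, BlockB.reg_of_dvd _ hσ, sub_zero]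
  have h1 : ((Fintype.card α).factorial : ℂ)⁻¹ • ∑ σ : Perm α, θ σ • (alt δ * cyc X σ) ∈
      UU α p δ := by
    refine Submodule.smul_mem _ _ (Submodule.sum_mem _ fun σ _ => ?_)
    by_cases hσ : p ∣ orderOf σ
    · exact Submodule.smul_mem _ _ (Submodule.subset_span ⟨σ, hσ, rfl⟩)
    · rw [hθ2 σ hσ, zero_smul]; exact zero_mem _
  obtain ⟨φ, h2, h3, h4⟩ := exists_of_mem_UU (proj_mem_UU hp hδ b h1)
  simp only [co_proj, co_sum_smul, Set.mem_ofPred_eq] at h4
  have h5 : IsClassFunction (Perm α) (θ - φ) := fun g t => by simp [hθ1 g t, h2 g t]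
  have h6 : classInner (θ - φ) θ = 0 := by
    have : classInner (θ - φ) θ = classInner (θ - φ) (chi δ b) := by
      simp only [classInner]
      congr 1
      refine Finset.sum_congr rfl fun σ _ => ?_
      by_cases hσ : p ∣ orderOf σ
      · rw [hθ3 σ hσ]
      · simp [hθ2 σ hσ, h3 σ hσ]
    rw [this, Char.inner_sub_left, h4, if_pos (SameRes.refl b), sub_self]
  have h7 : classInner (θ - φ) φ = 0 := by
    rw [Char.inner_eq_sum_irr h5]
    refine Finset.sum_eq_zero fun χ _ => ?_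
    obtain ⟨d, hd⟩ := exists_lab hδ hI χ.2
    obtain ⟨s, -, hs⟩ := hd.exists_sign
    rw [hs, Char.inner_smul_right, Char.inner_smul_right, Char.inner_sub_left, h4]
    split_ifs <;> simp
  have h8 : θ - φ = 0 := by
    rw [← Char.inner_self_eq_zero, Char.inner_sub_right, h6, h7, sub_zero]
  have h9 := h4 c
  rw [if_neg hc, ← sub_eq_zero.1 h8, hθ, Char.inner_sub_left, sub_eq_zero] at h9
  rw [← h9] at h
  by_cases hc' : Adm (Fintype.card α) c
  · rw [inner_chi hδ b hc'.sum] at h
    obtain ⟨w, rfl⟩ := exists_of_eps_ne_zero h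
    exact hc ⟨w, fun _ => rfl⟩
  · exact h (by simp [classInner, chi_eq_zero_of_not_adm hδ hc'])

theorem Lab.comp {δ b : I → ℕ} {χ : Perm α → ℂ} (h : Lab δ b χ) (w : Perm I) :
    Lab δ (b ∘ w) χ := by
  have h1 : (chi δ (b ∘ w) : Perm α → ℂ) = sg w • chi δ b := funext fun σ => chi_comp δ b w σ
  rw [Lab, h1]
  rcases h with rfl | rfl <;> rcases sg_eq w with h | h <;> simp [h]

variable (p) in
/-- `χ` has a label with the same residues as `κ`. -/
def Over (δ κ : I → ℕ) (χ : Perm α → ℂ) : Prop := ∃ b, Lab δ b χ ∧ ∀ i, b i % p = κ i % p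

/-- One half of the Nakayama conjecture. -/
theorem over_of_mem_block {M : Ideal AlgInt} (hM : IsPModular p M) {δ : I → ℕ} (hδ : IsDel δ)
    (hI : Fintype.card α ≤ Fintype.card I) {B : Set (IrrCharacter (Perm α))} (hB : IsPBlock M B)
    {χ ψ : IrrCharacter (Perm α)} (hχ : χ ∈ B) (hψ : ψ ∈ B) {κ : I → ℕ}
    (h : Over p δ κ (χ : Perm α → ℂ)) : Over p δ κ (ψ : Perm α → ℂ) := by
  obtain ⟨χ₀, h0, h1⟩ := BlockB.exists_height_zero (p := p) ⟨χ, hχ⟩
  obtain ⟨b₀, hb₀⟩ := exists_lab hδ hI χ₀.2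
  have key : ∀ ξ ∈ B, ∀ b, Lab δ b (ξ : Perm α → ℂ) → SameRes p b₀ b := fun ξ hξ b hb => by
    refine sameRes_of_inner_reg (α := α) hM.1 hδ hI fun h2 => ?_
    refine BlockB.inner_reg_ne_zero_of_height_zero hM hB h0 hξ h1 ?_
    obtain ⟨s, -, hs⟩ := hb₀.exists_sign
    obtain ⟨t, -, ht⟩ := hb.exists_sign
    rw [hs, ht, ← BlockB.regL_apply, map_smul, BlockB.regL_apply, Char.inner_smul_left,
      Char.inner_smul_right, h2, mul_zero, mul_zero]
  obtain ⟨b, hb, hr⟩ := h
  obtain ⟨c, hc⟩ := exists_lab hδ hI ψ.2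
  obtain ⟨v, hv⟩ := key χ hχ b hb
  obtain ⟨w, hw⟩ := key ψ hψ c hc
  refine ⟨c ∘ (w * v⁻¹ : Perm I), hc.comp _, fun i => ?_⟩
  rw [← hr, Function.comp_apply, Perm.mul_apply, hw, ← hv]; simp

theorem exists_core_of_block {M : Ideal AlgInt} (hM : IsPModular p M) {δ : I → ℕ} (hδ : IsDel δ)
    (hI : Fintype.card α ≤ Fintype.card I) {B : Set (IrrCharacter (Perm α))} (hB : IsPBlock M B) :
    ∃ (κ : I → ℕ) (w : ℕ), IsCore p κ ∧
      ∑ i, κ i + p * w = Fintype.card α + (Fintype.card I).choose 2 ∧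
      ∀ χ ∈ B, Over p δ κ (χ : Perm α → ℂ) := by
  obtain ⟨χ, hχ⟩ := BlockB.block_nonempty hM hB
  obtain ⟨b, hb⟩ := exists_lab hδ hI χ.2
  have h1 := hb.adm hδ χ.2
  exact ⟨core p b, wt p b, isCore_core hM.1.pos h1.inj, by rw [← sum_core hM.1.pos h1.inj, h1.sum],
    fun ψ hψ => over_of_mem_block hM hδ hI hB hχ hψ ⟨b, hb, fun i => (core_mod b i).symm⟩⟩

end CF.Block.Sn
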