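import Cfsg.Agent.Block.Sn4

/-!
# Characters of symmetric groups, V: bounding the number of Brauer characters of a block
-/

namespace CF.Block.Sn

open Cfsg Equiv Finset

variable {I α : Type*} [Fintype I] [DecidableEq I] [Fintype α] [DecidableEq α] {p : ℕ}

/-- Multipartitions of `w` with `p - 1` colours. -/
def MP (p w : ℕ) : Set (Multiset (ℕ × ℕ)) :=
  {m | (∀ x ∈ m, 0 < x.1 ∧ 0 < x.2 ∧ x.2 < p) ∧ (m.map Prod.fst).sum = w}

theorem MP_zero : MP p 0 = {0} := by
  ext m
  refine ⟨fun ⟨h1, h2⟩ => ?_, ?_⟩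
  · by_contra h
    obtain ⟨x, hx⟩ := Multiset.exists_mem_of_ne_zero h
    have := Multiset.sum_eq_zero_iff.1 h2 x.1 (Multiset.mem_map_of_mem _ hx)
    have := (h1 x hx).1
    omega
  · rintro rfl; exact ⟨by simp, by simp⟩

theorem cons_mem_MP {w : ℕ} {m : Multiset (ℕ × ℕ)} (hm : m ∈ MP p w) {k r : ℕ} (hk : 0 < k)
    (hr : r ∈ Ico 1 p) : (k, r) ::ₘ m ∈ MP p (k + w) := by
  refine ⟨fun x hx => ?_, by simp [hm.2]⟩
  rcases Multiset.mem_cons.1 hx with rfl | hx
  · exact ⟨hk, (mem_Ico.1 hr).1, (mem_Ico.1 hr).2⟩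
  · exact hm.1 x hx

theorem erase_mem_MP {w : ℕ} {m : Multiset (ℕ × ℕ)} (hm : m ∈ MP p w) {x : ℕ × ℕ} (hx : x ∈ m) :
    x.1 ≤ w ∧ m.erase x ∈ MP p (w - x.1) := by
  have h := hm.2
  rw [← Multiset.cons_erase hx, Multiset.map_cons, Multiset.sum_cons] at h
  exact ⟨by omega, fun y hy => hm.1 y (Multiset.mem_of_mem_erase hy), by omega⟩

/-- Multipartitions without parts of size one. -/
def MP2 (p w : ℕ) : Set (Multiset (ℕ × ℕ)) := {m | m ∈ MP p w ∧ ∀ x ∈ m, 2 ≤ x.1}

theorem MP_succ_subset (w : ℕ) : MP p (w + 1) ⊆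
    (fun y : ℕ × Multiset (ℕ × ℕ) => (1, y.1) ::ₘ y.2) '' ((Ico 1 p : Finset ℕ) ×ˢ MP p w) ∪
      MP2 p (w + 1) := by
  intro m hm
  by_cases h : ∀ x ∈ m, 2 ≤ x.1
  · exact Or.inr ⟨hm, h⟩
  · push Not at h
    obtain ⟨x, hx, h⟩ := h
    have h1 := hm.1 x hx
    have h2 : x.1 = 1 := by omega
    refine Or.inl ⟨(x.2, m.erase x), ⟨mem_coe.2 (mem_Ico.2 ⟨h1.2.1, h1.2.2⟩), ?_⟩, ?_⟩
    · simpa [h2] using (erase_mem_MP hm hx).2
    · simp only [← h2]; exact Multiset.cons_erase hx

theorem exists_MP2_subset (w : ℕ) : ∃ g : Multiset (ℕ × ℕ) → Multiset (ℕ × ℕ),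
    MP2 p (w + 1) ⊆ g '' MP p w := by
  classical
  have h0 : ∀ m : Multiset (ℕ × ℕ), ∃ y : ℕ × ℕ, m ≠ 0 → y ∈ m ∧ ∀ z ∈ m, y.1 ≤ z.1 := fun m => by
    by_cases h : m = 0
    · exact ⟨0, fun h' => absurd h h'⟩
    · obtain ⟨y, hy⟩ := Multiset.exists_min_image Prod.fst h
      exact ⟨y, fun _ => hy⟩
  choose f hf using h0
  refine ⟨fun m => ((f m).1 + 1, (f m).2) ::ₘ m.erase (f m), fun m hm => ?_⟩
  have h1 : m ≠ 0 := by rintro rfl; simpa using hm.1.2
  obtain ⟨h2, h3⟩ := hf m h1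
  have h4 := hm.2 _ h2
  have h5 := erase_mem_MP hm.1 h2
  have h6 := hm.1.1 _ h2
  have h7 : f (((f m).1 - 1, (f m).2) ::ₘ m.erase (f m)) = ((f m).1 - 1, (f m).2) := by
    obtain ⟨h8, h9⟩ := hf _ (Multiset.cons_ne_zero (a := ((f m).1 - 1, (f m).2))
      (m := m.erase (f m)))
    rcases Multiset.mem_cons.1 h8 with h | h
    · exact h
    · have := h9 _ (Multiset.mem_cons_self _ _)
      have := h3 _ (Multiset.mem_of_mem_erase h)
      simp only at *
      omega
  refine ⟨((f m).1 - 1, (f m).2) ::ₘ m.erase (f m), ?_, ?_⟩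
  · have := cons_mem_MP h5.2 (k := (f m).1 - 1) (by omega) (mem_Ico.2 ⟨h6.2.1, h6.2.2⟩)
    rwa [show (f m).1 - 1 + (w + 1 - (f m).1) = w by omega] at this
  · simp only [h7, Multiset.erase_cons_head]
    rw [Nat.sub_add_cancel (by omega), Multiset.cons_erase h2]

theorem finite_MP (w : ℕ) : (MP p w).Finite := by
  induction w with
  | zero => rw [MP_zero]; exact Set.finite_singleton _
  | succ w ih =>
    obtain ⟨g, hg⟩ := exists_MP2_subset (p := p) w
    exact (((Finset.finite_toSet _).prod ih).image _).union ((ih.image g).subset hg) |>.subset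
      (MP_succ_subset w)

theorem finite_MP2 (w : ℕ) : (MP2 p w).Finite := (finite_MP w).subset fun _ h => h.1

theorem ncard_MP_succ (w : ℕ) :
    (MP p (w + 1)).ncard ≤ (p - 1) * (MP p w).ncard + (MP2 p (w + 1)).ncard := by
  refine (Set.ncard_le_ncard (MP_succ_subset w) ((((Finset.finite_toSet _).prod
    (finite_MP w)).image _).union (finite_MP2 _))).trans ((Set.ncard_union_le _ _).trans ?_)
  gcongr
  refine (Set.ncard_image_le ((Finset.finite_toSet _).prod (finite_MP w))).trans ?_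
  rw [Set.ncard_prod, Set.ncard_coe_finset, Nat.card_Ico]

theorem ncard_MP2_succ (w : ℕ) : (MP2 p (w + 1)).ncard ≤ (MP p w).ncard := by
  obtain ⟨g, hg⟩ := exists_MP2_subset (p := p) w
  exact (Set.ncard_le_ncard hg ((finite_MP w).image g)).trans (Set.ncard_image_le (finite_MP w))

theorem ncard_MP_succ_le (hp : 0 < p) (w : ℕ) : (MP p (w + 1)).ncard ≤ p * (MP p w).ncard := by
  have h1 := ncard_MP_succ (p := p) w
  have h2 := ncard_MP2_succ (p := p) w
  obtain ⟨s, rfl⟩ : ∃ s, p = s + 1 := ⟨p - 1, by omega⟩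
  rw [Nat.add_sub_cancel] at h1
  rw [add_mul]; omega

theorem ncard_MP2_le {w : ℕ} (h : w ≤ 3) (h0 : 0 < w) : (MP2 p w).ncard ≤ p - 1 := by
  have : MP2 p w ⊆ (fun r => ({(w, r)} : Multiset (ℕ × ℕ))) '' (Ico 1 p : Finset ℕ) := by
    rintro m ⟨⟨h1, h2⟩, h3⟩
    have h4 : Multiset.card (m.map Prod.fst) • 2 ≤ (m.map Prod.fst).sum :=
      Multiset.card_nsmul_le_sum fun x hx => by
        obtain ⟨y, hy, rfl⟩ := Multiset.mem_map.1 hx
        exact h3 y hy
    have h5 : m ≠ 0 := by rintro rfl; simp at h2; omega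
    have h6 := Multiset.card_pos.2 h5
    rw [Multiset.card_map, h2, smul_eq_mul] at h4
    obtain ⟨x, rfl⟩ := Multiset.card_eq_one.1 (by omega : Multiset.card m = 1)
    have h7 := h1 x (Multiset.mem_singleton_self x)
    refine ⟨x.2, mem_coe.2 (mem_Ico.2 ⟨h7.2.1, h7.2.2⟩), ?_⟩
    simp only [Multiset.map_singleton, Multiset.sum_singleton] at h2
    simp only [← h2]
  refine (Set.ncard_le_ncard this ((Finset.finite_toSet _).image _)).trans
    ((Set.ncard_image_le (Finset.finite_toSet _)).trans ?_)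
  rw [Set.ncard_coe_finset, Nat.card_Ico]

theorem MP2_one : MP2 p 1 = ∅ := by
  refine Set.eq_empty_of_forall_notMem fun m ⟨hm, h⟩ => ?_
  have h5 : m ≠ 0 := by rintro rfl; simpa using hm.2
  obtain ⟨x, hx⟩ := Multiset.exists_mem_of_ne_zero h5
  have := (erase_mem_MP hm hx).1
  have := h x hx
  omega

theorem ncard_MP_one : (MP p 1).ncard ≤ p - 1 := by
  have := ncard_MP_succ (p := p) 0
  simpa [MP_zero, MP2_one] using this

theorem ncard_MP_lt (hp : 0 < p) (w : ℕ) : (MP p (w + 1)).ncard < p ^ (w + 1) := by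
  induction w with
  | zero => have := ncard_MP_one (p := p); simp; omega
  | succ w ih =>
    refine (ncard_MP_succ_le hp _).trans_lt ?_
    rw [pow_succ' p (w + 1)]
    exact Nat.mul_lt_mul_of_pos_left ih hp

theorem ncard_MP_two : (MP p 2).ncard ≤ p.choose 2 + (p - 1) := by
  have : MP p 2 ⊆ (fun z : Sym2 ℕ => z.toMultiset.map fun r => ((1 : ℕ), r)) ''
      ((Ico 1 p).sym2 : Finset (Sym2 ℕ)) ∪ MP2 p 2 := by
    intro m hm
    rcases MP_succ_subset 1 hm with ⟨⟨r, m'⟩, ⟨h1, h2⟩, rfl⟩ | h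
    · rcases MP_succ_subset 0 h2 with ⟨⟨r', m''⟩, ⟨h3, h4⟩, h5⟩ | h
      · rw [MP_zero] at h4
        simp only [Set.mem_singleton_iff] at h4 h5
        subst h4 h5
        exact Or.inl ⟨s(r, r'), mem_coe.2 (Finset.mk_mem_sym2_iff.2 ⟨h1, h3⟩), rfl⟩
      · rw [MP2_one] at h; exact h.elim
    · exact Or.inr h
  refine (Set.ncard_le_ncard this (((Finset.finite_toSet _).image _).union
    (finite_MP2 _))).trans ((Set.ncard_union_le _ _).trans (add_le_add ?_ ?_))
  · refine (Set.ncard_image_le (Finset.finite_toSet _)).trans ?_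
    rw [Set.ncard_coe_finset, Finset.card_sym2, Nat.card_Ico]
    rcases p with _ | p <;> simp
  · exact ncard_MP2_le (by omega) (by omega)

theorem two_mul_ncard_MP_lt (hp : 0 < p) (w : ℕ) : 2 * (MP p (w + 3)).ncard < p ^ (w + 3) := by
  induction w with
  | zero =>
    have h1 := ncard_MP_succ (p := p) 2
    have h2 := ncard_MP_two (p := p)
    have h3 := ncard_MP2_le (p := p) (w := 3) le_rfl (by omega)
    obtain ⟨s, rfl⟩ : ∃ s, p = s + 1 := ⟨p - 1, by omega⟩
    rw [Nat.add_sub_cancel] at h1 h2 h3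
    have h4 : 2 * (s + 1).choose 2 = (s + 1) * s := by
      rw [Nat.choose_two_right, Nat.add_sub_cancel, Nat.mul_div_cancel']
      exact (Nat.even_mul_pred_self (s + 1)).two_dvd
    have h5 : s * (2 * (MP (s + 1) 2).ncard) ≤ s * ((s + 1) * s + 2 * s) :=
      Nat.mul_le_mul_left _ (by omega)
    simp only [zero_add] at *
    nlinarith
  | succ w ih =>
    have := ncard_MP_succ_le hp (w + 3)
    rw [show w + 1 + 3 = w + 3 + 1 by ring, pow_succ' p (w + 3)]
    nlinarith

variable (α p) in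
/-- The `p`-regular class function attached to a polynomial. -/
noncomputable def Phi (δ : I → ℕ) : Poly I →ₗ[ℂ] (Perm α → ℂ) :=
  (Finsupp.linearCombination ℂ fun b => pRegularPart p (chi δ b : Perm α → ℂ)).comp
    (AddMonoidAlgebra.coeffLinearEquiv ℂ).toLinearMap

theorem Phi_mon (δ b : I → ℕ) : Phi α p δ (mon b) = pRegularPart p (chi δ b : Perm α → ℂ) := by
  simp [Phi, mon]

omit [Fintype I] [DecidableEq I] in
theorem poly_induction {C : Poly I → Prop} (F : Poly I) (h0 : C 0)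
    (h1 : ∀ F G, C F → C G → C (F + G)) (h2 : ∀ (c : ℂ) b, C (c • mon b)) : C F :=
  AddMonoidAlgebra.induction_linear F h0 h1 fun b c => by simpa [mon] using h2 c b

omit [Fintype I] in
theorem X_pow_mul_mon (b : I → ℕ) (i : I) (k : ℕ) : X i ^ k * mon b = mon (up b i k) := by
  rw [X_pow, ← mon_add]
  congr 1
  ext j
  by_cases h : j = i
  · subst h; simp [add_comm]
  · simp [h, up_of_ne]

omit [Fintype I] [DecidableEq I] in
theorem ren_mon (w : Perm I) (b : I → ℕ) : ren w (mon b) = mon (b ∘ (w⁻¹ : Perm I)) :=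
  AddMonoidAlgebra.domCongr_single _ _ _

theorem Phi_ren (δ : I → ℕ) (w : Perm I) (F : Poly I) :
    Phi α p δ (ren w F) = sg w • Phi α p δ F := by
  induction F using poly_induction with
  | h0 => simp
  | h1 F G h1 h2 => rw [map_add, map_add, h1, h2, map_add, smul_add]
  | h2 c b =>
    rw [map_smul, map_smul, map_smul, ren_mon, Phi_mon, Phi_mon, smul_comm,
      show (chi δ (b ∘ (w⁻¹ : Perm I)) : Perm α → ℂ) = sg w • chi δ b from
        funext fun σ => by rw [chi_comp, sg_inv]; rfl, ← BlockB.regL_apply, map_smul]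
    rfl

theorem Phi_ps_mul {δ : I → ℕ} (hδ : IsDel δ) (hI : Fintype.card α ≤ Fintype.card I) {k : ℕ}
    (hk : 0 < k) (hpk : p ∣ k) (F : Poly I) : Phi α p δ (ps X k * F) = 0 := by
  induction F using poly_induction with
  | h0 => simp
  | h1 F G h1 h2 => rw [mul_add, map_add, h1, h2, add_zero]
  | h2 c b =>
    rw [mul_smul_comm, map_smul, ps, Finset.sum_mul, map_sum]
    simp only [X_pow_mul_mon, Phi_mon, ← BlockB.regL_apply, ← map_sum]
    refine smul_eq_zero_of_right _ ?_
    by_cases hs : ∑ i, b i + k = Fintype.card α + (Fintype.card I).choose 2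
    swap
    · rw [Finset.sum_eq_zero, map_zero]
      exact fun i _ => funext fun σ => chi_eq_zero_of_sum (by rwa [sum_up, hδ.sum]) σ
    have h1 : ps X k * alt b ∈ UU α p δ := by
      by_cases hb : Function.Injective b
      · have := choose_le_sum_of_inj hb
        exact ps_mul_mem_UU (m := Fintype.card α - k) hk hpk (by omega)
          (alt_mem_WW hδ (by omega))
      · rw [show alt b = 0 from poly_ext fun c => by
          change eps c b = _
          rw [eps_comm, eps_eq_zero_of_not_inj hb, map_zero], mul_zero]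
        exact zero_mem _
    obtain ⟨θ, h2, h3, h4⟩ := exists_of_mem_UU h1
    have h5 : ∑ i, (chi δ (up b i k) : Perm α → ℂ) - θ = 0 := by
      refine eq_zero_of_inner_chi hδ hI (fun g t => ?_) fun c hc => ?_
      · simp only [Pi.sub_apply, Finset.sum_apply, chi_classFun δ _ g t, h2 g t]
      · rw [Char.inner_sub_left, Char.inner_sum_left, h4, co_ps_mul, sub_eq_zero]
        simp only [inner_chi hδ _ hc.sum, ← sum_eps_dn]
        exact Finset.sum_congr rfl fun j _ => if_congr Iff.rfl (eps_comm _ _) rfl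
    rw [sub_eq_zero.1 h5]
    ext σ
    rw [BlockB.regL_apply, BlockB.reg_apply]
    split_ifs with h
    · rfl
    · exact h3 σ h

/-- Power sums of the variables on one runner. -/
noncomputable def qq (p : ℕ) (κ : I → ℕ) (x : ℕ × ℕ) : Poly I :=
  ∑ i with κ i % p = x.2, X i ^ (p * x.1)

/-- Products of power sums along a multipartition. -/
noncomputable def QQ (p : ℕ) (κ : I → ℕ) (m : Multiset (ℕ × ℕ)) : Poly I := (m.map (qq p κ)).prod

theorem ren_QQ {κ : I → ℕ} {w : Perm I} (h : ∀ i, κ (w i) % p = κ i % p)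
    (m : Multiset (ℕ × ℕ)) : ren w (QQ p κ m) = QQ p κ m := by
  rw [QQ, map_multiset_prod, Multiset.map_map]
  congr 1
  refine Multiset.map_congr rfl fun x _ => ?_
  simp only [Function.comp_apply, qq, map_sum, map_pow, ren_X]
  exact Finset.sum_equiv w (fun i => by simp [h]) fun _ _ => rfl

theorem ps_eq_sum_qq (hp : 0 < p) (κ : I → ℕ) (k : ℕ) :
    ps X (p * k) = qq p κ (k, 0) + ∑ r ∈ Ico 1 p, qq p κ (k, r) := by
  rw [← Finset.sum_eq_sum_Ico_succ_bot hp (fun r => qq p κ (k, r)), ps]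
  exact (Finset.sum_fiberwise_of_maps_to (g := fun i => κ i % p)
    (fun i _ => mem_Ico.2 ⟨Nat.zero_le _, Nat.mod_lt _ hp⟩) _).symm

omit [DecidableEq I] in
theorem sum_rk (hp : 0 < p) {b : I → ℕ} (hb : Function.Injective b) (r : ℕ) :
    ∑ i with b i % p = r, rk p b i = (#{i | b i % p = r}).choose 2 := by
  have h : IsDel fun i : {i // b i % p = r} => rk p b i := by
    refine ⟨fun i j h => Subtype.ext ((isCore_core hp hb).inj ?_), fun i => ?_⟩
    · simp only [core] at h ⊢
      rw [i.2, j.2, h]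
    · have := (isCore_core hp hb).lt i
      simp only [core_mod, core_div hp, i.2] at this
      rwa [Fintype.card_subtype]
  rw [Finset.sum_subtype (p := fun i => b i % p = r) _ (by simp), h.sum, Fintype.card_subtype]

theorem Phi_mem_span (hp : 0 < p) {δ : I → ℕ} (hδ : IsDel δ)
    (hI : Fintype.card α ≤ Fintype.card I) {κ : I → ℕ} (hκ : IsCore p κ) (w N : ℕ) :
    ∀ (b : I → ℕ) (l : ℕ) (m : Multiset (ℕ × ℕ)), ∑ i, b i = N → (∀ i, b i % p = κ i % p) →
      m ∈ MP p l → ∑ i, b i + p * l = ∑ i, κ i + p * w → Phi α p δ (QQ p κ m * mon b) ∈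
        Submodule.span ℂ ((fun m => Phi α p δ (QQ p κ m * mon κ)) '' MP p w) := by
  induction N using Nat.strong_induction_on with
  | _ N ih =>
  intro b l m hN hr hm hs
  have hswap : ∀ {i j : I}, i ≠ j → κ i % p = κ j % p → ∀ c : I → ℕ,
      Phi α p δ (QQ p κ m * mon (c ∘ swap i j)) = - Phi α p δ (QQ p κ m * mon c) := by
    intro i j hij h c
    rw [← neg_one_smul ℂ, ← sg_swap hij, ← Phi_ren, map_mul (ren _), ren_mon, ren_QQ, swap_inv]
    intro l
    rw [swap_apply_def]
    split_ifs <;> simp_all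
  by_cases hb : Function.Injective b
  swap
  · obtain ⟨i, j, h1, h2⟩ := Function.not_injective_iff.1 hb
    have h3 : b ∘ swap i j = b := by
      ext l; simp only [Function.comp_apply, swap_apply_def]; split_ifs <;> simp_all
    have h4 := hswap h2 (by rw [← hr, ← hr, h1]) b
    rw [h3, eq_neg_iff_add_eq_zero, ← two_smul ℂ, smul_eq_zero, or_iff_right two_ne_zero] at h4
    rw [h4]; exact zero_mem _
  by_cases hw : wt p b = 0
  · have h1 := sum_core hp hb
    rw [hκ.sum_core_eq hp hb hr, hw] at h1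
    obtain ⟨v, rfl⟩ := hκ.exists_perm_of_sum hp hb hr (by simpa using h1)
    obtain rfl : l = w := Nat.eq_of_mul_eq_mul_left hp (by omega)
    have h2 := Phi_ren (α := α) (p := p) δ v⁻¹ (QQ p κ m * mon κ)
    rw [map_mul, ren_mon, inv_inv, ren_QQ] at h2
    · rw [h2]
      exact Submodule.smul_mem _ _ (Submodule.subset_span ⟨m, hm, rfl⟩)
    · intro i; simpa using (hr (v⁻¹ i)).symm
  obtain ⟨i₀, -, hi₀⟩ := Finset.exists_ne_zero_of_sum_ne_zero hw
  set r := b i₀ % p with hr₀
  let E : (I → ℕ) → I → ℕ := fun γ i => if κ i % p = r then r + p * γ i else b i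
  have hE : E (fun i => b i / p) = b := by
    ext i; simp only [E]; split_ifs with h
    · rw [← h, ← hr, Nat.mod_add_div]
    · rfl
  have hT : (univ.filter fun i => κ i % p = r) = univ.filter fun i => b i % p = r := by
    simp only [hr]
  have h1 : ((∑ i with κ i % p = r, b i / p : ℕ) : ℂ) - ((#{i | κ i % p = r}).choose 2 : ℕ) ≠ 0 := by
    rw [hT, ← sum_rk hp hb, sub_ne_zero, Ne, Nat.cast_inj]
    refine (Finset.sum_lt_sum (fun i _ => rk_le hp hb i) ⟨i₀, ?_, by omega⟩).ne'
    exact mem_filter.2 ⟨mem_univ _, rfl⟩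
  have h2 : ∑ i with κ i % p = r, ∑ k ∈ Icc 1 (b i / p),
      Phi α p δ (QQ p κ m * (qq p κ (k, r) * mon (dn b i (p * k)))) =
      (((∑ i with κ i % p = r, b i / p : ℕ) : ℂ) - ((#{i | κ i % p = r}).choose 2 : ℕ)) •
        Phi α p δ (QQ p κ m * mon b) := by
    ext σ
    have h3 := energy (G := fun γ => Phi α p δ (QQ p κ m * mon (E γ)) σ)
      (univ.filter fun i => κ i % p = r) (fun i hi j hj hij c => ?_) fun i => b i / p
    · simp only [hE] at h3
      rw [Pi.smul_apply, smul_eq_mul, ← h3, Finset.sum_apply]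
      refine Finset.sum_congr rfl fun i hi => ?_
      rw [Finset.sum_apply]
      refine Finset.sum_congr rfl fun k hk => ?_
      simp only [qq, Finset.sum_mul, Finset.mul_sum, map_sum, Finset.sum_apply, X_pow_mul_mon]
      refine Finset.sum_congr rfl fun j hj => ?_
      refine congrArg (fun c => Phi α p δ (QQ p κ m * mon c) σ) ?_
      ext l
      have h4 := (mem_filter.1 hi).2
      have h5 := (mem_filter.1 hj).2
      have h6 := Nat.mul_le_mul_left p (mem_Icc.1 hk).2
      have h7 := Nat.mod_add_div (b l) p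
      rw [hr] at h7
      simp only [E, up, dn, Function.update_apply]
      by_cases hj : l = j <;> by_cases hi : l = i
      · subst hj hi; simp only [if_true, h4, mul_add, Nat.mul_sub]; omega
      · subst hj; simp only [if_true, h5, hi, if_false, mul_add]; omega
      · subst hi; simp only [if_true, h4, hj, if_false, Nat.mul_sub]; omega
      · simp only [hi, hj, if_false]; split_ifs <;> omega
    · have h4 := (mem_filter.1 hi).2
      have h5 := (mem_filter.1 hj).2
      have : E (c ∘ swap i j) = E c ∘ swap i j := by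
        ext l
        simp only [E, Function.comp_apply, swap_apply_def]
        split_ifs <;> simp_all
      simp only [this, hswap hij (h4.trans h5.symm), Pi.neg_apply]
  rw [← Submodule.smul_mem_iff _ h1, ← h2]
  refine Submodule.sum_mem _ fun i _ => Submodule.sum_mem _ fun k hk => ?_
  obtain ⟨hk1, hk2⟩ := mem_Icc.1 hk
  have h3 : p * k ≤ b i := (Nat.mul_le_mul_left p hk2).trans (Nat.mul_div_le _ _)
  have h4 := sum_dn h3
  have h5 : 0 < p * k := Nat.mul_pos hp hk1
  have key : ∀ r ∈ Ico 1 p, Phi α p δ (QQ p κ m * (qq p κ (k, r) * mon (dn b i (p * k)))) ∈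
      Submodule.span ℂ ((fun m => Phi α p δ (QQ p κ m * mon κ)) '' MP p w) := fun r hr' => by
    have := ih _ (by omega) (dn b i (p * k)) (k + l) ((k, r) ::ₘ m) rfl
      (fun j => by rw [dn_mod (dvd_mul_right p k) h3, hr]) (cons_mem_MP hm hk1 hr')
      (by rw [mul_add]; omega)
    rwa [QQ, Multiset.map_cons, Multiset.prod_cons, mul_comm (qq _ _ _), mul_assoc] at this
  rcases Nat.eq_zero_or_pos r with h6 | h6
  · have h7 := Phi_ps_mul (α := α) hδ hI h5 (dvd_mul_right p k) (QQ p κ m * mon (dn b i (p * k)))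
    rw [ps_eq_sum_qq hp κ, mul_left_comm, add_mul, mul_add, map_add, add_eq_zero_iff_eq_neg] at h7
    rw [h6, h7, Finset.sum_mul, Finset.mul_sum, map_sum]
    exact neg_mem (Submodule.sum_mem _ key)
  · exact key r (mem_Ico.2 ⟨h6, Nat.mod_lt _ hp⟩)

theorem exists_span_of_core (hp : 0 < p) {δ : I → ℕ} (hδ : IsDel δ)
    (hI : Fintype.card α ≤ Fintype.card I) {κ : I → ℕ} (hκ : IsCore p κ) {w : ℕ}
    (hw : ∑ i, κ i + p * w = Fintype.card α + (Fintype.card I).choose 2) :
    ∃ V : Submodule ℂ (Perm α → ℂ), Module.finrank ℂ V ≤ (MP p w).ncard ∧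
      ∀ χ, IsIrrCharacter (Perm α) χ → Over p δ κ χ → pRegularPart p χ ∈ V := by
  classical
  refine ⟨Submodule.span ℂ ((fun m => Phi α p δ (QQ p κ m * mon κ)) '' MP p w), ?_, ?_⟩
  · have h := ((finite_MP (p := p) w).image fun m => Phi α p δ (QQ p κ m * mon κ))
    have := h.fintype
    refine (finrank_span_le_card _).trans ?_
    rw [← Set.ncard_eq_toFinset_card']
    exact Set.ncard_image_le (finite_MP w)
  · rintro χ hχ ⟨b, hb, hr⟩
    have h1 := Phi_mem_span (α := α) hp hδ hI hκ w _ b 0 0 rfl hr (by rw [MP_zero]; rfl)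
      (by rw [hw, (hb.adm hδ hχ).sum]; simp)
    obtain ⟨s, -, rfl⟩ := hb.exists_sign
    rw [← BlockB.regL_apply, map_smul, BlockB.regL_apply]
    refine Submodule.smul_mem _ _ ?_
    simpa [QQ, Phi_mon] using h1

theorem blockRank_le_MP (hp : 0 < p) {δ : I → ℕ} (hδ : IsDel δ)
    (hI : Fintype.card α ≤ Fintype.card I) {κ : I → ℕ} (hκ : IsCore p κ) {w : ℕ}
    (hw : ∑ i, κ i + p * w = Fintype.card α + (Fintype.card I).choose 2)
    {B : Set (IrrCharacter (Perm α))} (hB : ∀ χ ∈ B, Over p δ κ (χ : Perm α → ℂ)) :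
    blockRank p B ≤ (MP p w).ncard := by
  obtain ⟨V, h1, h2⟩ := exists_span_of_core hp hδ hI hκ hw
  refine (Submodule.finrank_mono (Submodule.span_le.2 ?_)).trans h1
  rintro _ ⟨χ, hχ, rfl⟩
  exact h2 χ χ.2 (hB χ hχ)

end CF.Block.Sn
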