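import Cfsg.Agent.Block.Sn5
import Cfsg.Agent.Block.PairRed

/-!
# Characters of symmetric groups, VI: blocks and defect groups
-/

namespace CF.Block.Sn

open Cfsg Equiv Finset MonoidAlgebra
open CF.BlockB (v O k resC nrm omega eSet ev incl pPart pReg Cen sec)
open scoped ComplexConjugate

variable {I α : Type*} [Fintype I] [DecidableEq I] [Fintype α] [DecidableEq α] {p : ℕ}

section Young

variable {A B : Type*}

/-- The left factor of a Young subgroup. -/
def embL (e : A ⊕ B ≃ α) : Perm A →* Perm α := (emb e).comp (MonoidHom.inl _ _)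

/-- The right factor of a Young subgroup. -/
def embR (e : A ⊕ B ≃ α) : Perm B →* Perm α := (emb e).comp (MonoidHom.inr _ _)

omit [Fintype α] [DecidableEq α]

theorem embL_injective (e : A ⊕ B ≃ α) : Function.Injective (embL e) := fun _ _ h =>
  congrArg Prod.fst (emb_injective e h)

theorem embR_injective (e : A ⊕ B ≃ α) : Function.Injective (embR e) := fun _ _ h =>
  congrArg Prod.snd (emb_injective e h)

@[simp] theorem embL_inl (e : A ⊕ B ≃ α) (g : Perm A) (x : A) :
    embL e g (e (Sum.inl x)) = e (Sum.inl (g x)) := emb_inl e _ x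

@[simp] theorem embL_inr (e : A ⊕ B ≃ α) (g : Perm A) (x : B) :
    embL e g (e (Sum.inr x)) = e (Sum.inr x) := emb_inr e _ x

@[simp] theorem embR_inl (e : A ⊕ B ≃ α) (g : Perm B) (x : A) :
    embR e g (e (Sum.inl x)) = e (Sum.inl x) := emb_inl e _ x

@[simp] theorem embR_inr (e : A ⊕ B ≃ α) (g : Perm B) (x : B) :
    embR e g (e (Sum.inr x)) = e (Sum.inr (g x)) := emb_inr e _ x

theorem embL_mul_embR (e : A ⊕ B ≃ α) (a : Perm A) (b : Perm B) :
    embL e a * embR e b = emb e (a, b) := by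
  simp [embL, embR, ← map_mul]

theorem embR_mul_embL (e : A ⊕ B ≃ α) (a : Perm A) (b : Perm B) :
    embR e b * embL e a = emb e (a, b) := by
  simp [embL, embR, ← map_mul]

theorem commute_embL_embR (e : A ⊕ B ≃ α) (a : Perm A) (b : Perm B) :
    Commute (embL e a) (embR e b) := (embL_mul_embR e a b).trans (embR_mul_embL e a b).symm

theorem mem_range_emb [Finite A] [Finite B] (e : A ⊕ B ≃ α) {g : Perm α}
    (h : ∀ x, ∃ y, g (e (Sum.inl x)) = e (Sum.inl y)) : ∃ a b, emb e (a, b) = g := by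
  obtain ⟨⟨a, b⟩, hab⟩ := Perm.mem_sumCongrHom_range_of_perm_mapsTo_inl
    (σ := e.symm.permCongr g) (by
      rintro _ ⟨x, rfl⟩
      obtain ⟨y, hy⟩ := h x
      exact ⟨y, by simp [hy]⟩)
  refine ⟨a, b, ?_⟩
  rw [emb_apply, show Perm.sumCongr a b = _ from hab]
  ext; simp

theorem mem_range_embR [Finite A] [Finite B] (e : A ⊕ B ≃ α) {g : Perm α}
    (h : ∀ x, g (e (Sum.inl x)) = e (Sum.inl x)) : g ∈ (embR e).range := by
  obtain ⟨a, b, rfl⟩ := mem_range_emb e fun x => ⟨x, h x⟩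
  obtain rfl : a = 1 := by ext x; simpa using h x
  exact ⟨b, rfl⟩

theorem range_embL_le_centralizer (e : A ⊕ B ≃ α) :
    (embL e).range ≤ Subgroup.centralizer ((embR e).range : Set (Perm α)) := by
  rintro _ ⟨a, rfl⟩ _ ⟨b, rfl⟩
  exact (commute_embL_embR e a b).symm

end Young

theorem cyc_prodCongrRight {R J A B : Type*} [CommRing R] [Fintype J] [Fintype A] [DecidableEq A]
    [Fintype B] [DecidableEq B] (z : J → R) (σ : A → Perm B) :
    cyc z (Equiv.prodCongrRight σ) = ∏ a, cyc z (σ a) := by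
  classical
  unfold cyc
  rw [Finset.prod_univ_sum, Fintype.piFinset_univ]
  refine Fintype.sum_equiv (Equiv.curry A B J) _ _ fun f => ?_
  rw [Finset.prod_ite_zero]
  have h1 : f ∘ Equiv.prodCongrRight σ = f ↔
      ∀ a ∈ (univ : Finset A), Equiv.curry A B J f a ∘ σ a = Equiv.curry A B J f a :=
    ⟨fun h a _ => funext fun b => congrFun h (a, b),
      fun h => funext fun x => congrFun (h x.1 (mem_univ _)) x.2⟩
  by_cases h : f ∘ Equiv.prodCongrRight σ = f
  · rw [if_pos h, if_pos (h1.1 h), Fintype.prod_prod_type]; rfl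
  · rw [if_neg h, if_neg (mt h1.2 h)]

/-- The base group of the wreath product. -/
def eh (w p : ℕ) : (Fin w → Multiplicative (ZMod p)) →* Perm (Fin w × ZMod p) where
  toFun a := Equiv.prodCongrRight fun i => Equiv.addRight (a i).toAdd
  map_one' := by ext <;> simp
  map_mul' a b := by ext <;> simp [add_comm, add_left_comm]

@[simp] theorem eh_apply {w : ℕ} (a : Fin w → Multiplicative (ZMod p)) (z : Fin w × ZMod p) :
    eh w p a z = (z.1, z.2 + (a z.1).toAdd) := rfl

theorem eh_injective (w p : ℕ) : Function.Injective (eh w p) := fun a b h => by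
  ext i
  simpa using congrArg Prod.snd (Perm.congr_fun h (i, 0))

/-- A product of `w` disjoint `p`-cycles. -/
def u0 (w p : ℕ) : Perm (Fin w × ZMod p) := eh w p fun _ => Multiplicative.ofAdd 1

theorem cyc_u0 {R J : Type*} [CommRing R] [Fintype J] (z : J → R) (w : ℕ) [NeZero p] :
    cyc z (u0 w p) = ps z p ^ w := by
  change cyc z (Equiv.prodCongrRight fun _ => rot p) = _
  rw [cyc_prodCongrRight]; simp [cyc_rot]

theorem u0_zpow {w : ℕ} (n : ℤ) (z : Fin w × ZMod p) : (u0 w p ^ n) z = (z.1, z.2 + n) := by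
  rw [u0, ← map_zpow, eh_apply]; simp

theorem eh_pow_eq_one {w : ℕ} (a : Fin w → Multiplicative (ZMod p)) : eh w p a ^ p = 1 := by
  have : a ^ p = 1 := by
    ext i; simp
  rw [← map_pow, this, map_one]

omit [Fintype α] [DecidableEq α] in
theorem pow_apply_of_commute {y u : Perm α} (h : Commute y u) {x : α} {n : ℤ}
    (hx : y x = (u ^ n) x) (j : ℕ) : (y ^ j) x = (u ^ (n * j)) x := by
  induction j with
  | zero => simp
  | succ j ih =>
    rw [pow_succ', Perm.mul_apply, ih, ← Perm.mul_apply, (h.zpow_right _).eq, Perm.mul_apply, hx,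
      ← Perm.mul_apply, ← zpow_add]
    push_cast; ring_nf

/-- Permutations commuting with `u` and fixing each of its cycles. -/
def cycKer (u : Perm α) : Subgroup (Perm α) where
  carrier := {g | Commute g u ∧ ∀ x, u.SameCycle x (g x)}
  one_mem' := ⟨Commute.one_left u, fun _ => Perm.SameCycle.rfl⟩
  mul_mem' := fun {a b} ha hb => ⟨ha.1.mul_left hb.1, fun x => (hb.2 x).trans (ha.2 _)⟩
  inv_mem' := fun {a} ha => ⟨ha.1.inv_left, fun x => by simpa using (ha.2 (a⁻¹ x)).symm⟩

omit [Fintype α] [DecidableEq α] in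
theorem cycKer_pow {u : Perm α} (hu : u ^ p = 1) {g : Perm α} (hg : g ∈ cycKer u) : g ^ p = 1 := by
  ext x
  obtain ⟨n, hn⟩ := hg.2 x
  rw [pow_apply_of_commute hg.1 hn.symm, mul_comm, zpow_mul, zpow_natCast, hu, one_zpow]

omit [Fintype α] [DecidableEq α] in
theorem cen_le_normalizer_cycKer (u : Perm α) :
    Cen u ≤ Subgroup.normalizer (cycKer u : Set (Perm α)) := by
  have key : ∀ h ∈ Cen u, ∀ g ∈ cycKer u, h * g * h⁻¹ ∈ cycKer u := fun h hh g hg => by
    have h1 : Commute h u := BlockB.mem_Cen.1 hh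
    refine ⟨(h1.mul_left hg.1).mul_left h1.inv_left, fun x => ?_⟩
    obtain ⟨n, hn⟩ := hg.2 (h⁻¹ x)
    refine ⟨n, ?_⟩
    rw [Perm.mul_apply, Perm.mul_apply, ← hn, ← Perm.mul_apply h, (h1.zpow_right n).eq]; simp
  intro h hh
  refine Subgroup.mem_normalizer_iff.2 fun g => ⟨key h hh g, fun hg => ?_⟩
  simpa [mul_assoc] using key h⁻¹ (inv_mem hh) _ hg

section Block

variable {w m : ℕ} (e : (Fin w × ZMod p) ⊕ Fin m ≃ α)

/-- The standard `p`-element of a block of weight `w`. -/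
def uu : Perm α := embL e (u0 w p)

omit [Fintype α] [DecidableEq α] in
theorem uu_pow : uu e ^ p = 1 := by rw [uu, ← map_pow, u0, eh_pow_eq_one, map_one]

omit [Fintype α] [DecidableEq α] in
theorem orderOf_uu (hp : p.Prime) : ∃ k : ℕ, orderOf (uu e) = p ^ k := by
  have h0 : orderOf (uu e) ∣ p ^ 1 := by
    rw [pow_one]; exact orderOf_dvd_of_pow_eq_one (uu_pow e)
  obtain ⟨k, -, h⟩ := (Nat.dvd_prime_pow hp).1 h0
  exact ⟨k, h⟩

omit [Fintype α] [DecidableEq α] in
theorem embL_eh_mem (a : Fin w → Multiplicative (ZMod p)) : embL e (eh w p a) ∈ cycKer (uu e) := by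
  refine ⟨((Commute.all _ _).map (eh w p)).map (embL e), fun x => ?_⟩
  obtain ⟨x | x, rfl⟩ := e.surjective x
  · obtain ⟨n, hn⟩ := ZMod.intCast_surjective (a x.1).toAdd
    exact ⟨n, by rw [uu, ← map_zpow, embL_inl, embL_inl, u0_zpow, hn]; rfl⟩
  · rw [embL_inr]

omit [Fintype α] [DecidableEq α] in
theorem mem_range_of_centralizer (hp : p.Prime) {y : Perm α}
    (hy : y ∈ Subgroup.centralizer (cycKer (uu e) : Set (Perm α))) (h : ¬ p ∣ orderOf y) :
    y ∈ (embR e).range := by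
  classical
  have := Fact.mk hp
  refine mem_range_embR e fun z => ?_
  have h1 : Commute y (uu e) := (hy _ (embL_eh_mem e _)).symm
  have h2 := hy _ (embL_eh_mem e (Pi.mulSingle z.1 (Multiplicative.ofAdd 1)))
  have h3 := Perm.congr_fun h2 (e (Sum.inl z))
  simp only [Perm.mul_apply, embL_inl, eh_apply, Pi.mulSingle_eq_same, toAdd_ofAdd] at h3
  have h4 : ∃ n : ℤ, y (e (Sum.inl z)) = (uu e ^ n) (e (Sum.inl z)) := by
    obtain ⟨t, ht⟩ := e.surjective (y (e (Sum.inl z)))
    have h5 : embL e (eh w p (Pi.mulSingle z.1 (Multiplicative.ofAdd 1))) (e t) ≠ e t := by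
      rw [ht, h3, Ne, y.injective.eq_iff, e.injective.eq_iff, Sum.inl.injEq, Prod.ext_iff]
      simp
    rcases t with t | t
    · by_cases h6 : t.1 = z.1
      · obtain ⟨n, hn⟩ := ZMod.intCast_surjective (t.2 - z.2)
        exact ⟨n, by rw [← ht, uu, ← map_zpow, embL_inl, u0_zpow, hn, ← h6]; simp⟩
      · exact absurd (by simp [Pi.mulSingle_eq_of_ne h6]) h5
    · exact absurd (embL_inr _ _ _) h5
  obtain ⟨n, hn⟩ := h4
  obtain ⟨j, hj⟩ := exists_pow_eq_self_of_coprime (x := y) ((hp.coprime_iff_not_dvd).2 h)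
  conv_lhs => rw [← hj, ← pow_mul, pow_apply_of_commute h1 hn]
  rw [show n * ((p * j : ℕ) : ℤ) = p * (n * j) by push_cast; ring, zpow_mul, zpow_natCast, uu_pow,
    one_zpow, Perm.one_apply]

omit [Fintype α] [DecidableEq α] in
theorem exists_of_mem_cen (hp : p.Prime) {h : Perm α} (hh : h ∈ Cen (uu e)) :
    ∃ a b, emb e (a, b) = h := by
  have := Fact.mk hp
  refine mem_range_emb e fun x => ?_
  obtain ⟨t | t, ht⟩ := e.surjective (h (e (Sum.inl x)))
  · exact ⟨t, ht.symm⟩
  · have h1 := Perm.congr_fun (BlockB.mem_Cen.1 hh) (e (Sum.inl x))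
    rw [Perm.mul_apply, Perm.mul_apply, ← ht, uu, embL_inl, embL_inr, ht, h.injective.eq_iff,
      e.injective.eq_iff, Sum.inl.injEq, u0, eh_apply, Prod.ext_iff] at h1
    simp at h1

omit [Fintype α] [DecidableEq α] in
theorem range_embR_le_cen : (embR e).range ≤ Cen (uu e) := by
  rintro _ ⟨b, rfl⟩
  exact BlockB.mem_Cen.2 (commute_embL_embR e _ b).symm

variable {M : Ideal AlgInt}

omit [DecidableEq α] in
theorem isBlk_mem_sub (hM : IsPModular p M) {f : (k M)[Perm α]} (hf : IsBlk (Cen (uu e)) f) :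
    f ∈ sub (k M) (embR e).range := by
  have := Fact.mk hM.1
  have := BlockB.charP_k hM
  have h1 := hf.mem_sub_centralizer (p := p) (P := cycKer (uu e))
    (fun g => ⟨1, Subtype.ext (by simpa using cycKer_pow (uu_pow e) g.2)⟩)
    (fun g hg => BlockB.mem_Cen.2 hg.1) (cen_le_normalizer_cycKer _)
  exact mem_sub'.2 fun x hx => mem_range_of_centralizer e hM.1 (mem_of_coeff_ne_zero h1 hx)
    (regSupp hM _ f hf x hx)

theorem IsCore.core_eq (hp : 0 < p) {κ : I → ℕ} (h : IsCore p κ) : core p κ = κ :=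
  core_eq_self_of_wt hp h.inj (h.wt_eq hp h.inj (fun _ => rfl) (w := 0) (by simp))

theorem IsCore.np_eq (hp : 0 < p) {κ : I → ℕ} (h : IsCore p κ) : np p κ = 1 := by
  have h1 := (np_spec hp h.inj).1
  rw [h.wt_eq hp h.inj (fun _ => rfl) (w := 0) (by simp), h.core_eq hp, pow_zero, one_mul] at h1
  exact_mod_cast h1.symm.trans (eps_self h.inj)

theorem Lab.charDegree {δ b : I → ℕ} (hδ : IsDel δ) {χ : Perm α → ℂ}
    (hχ : IsIrrCharacter (Perm α) χ) (h : Lab δ b χ) : charDegree χ = np 1 b := by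
  simp [Cfsg.charDegree, h.one_eq hδ hχ]

omit e in
theorem Lab.factorization (hp : p.Prime) {δ b : I → ℕ} (hδ : IsDel δ) {χ : Perm α → ℂ}
    (hχ : IsIrrCharacter (Perm α) χ) (h : Lab δ b χ) :
    (Cfsg.charDegree χ).factorization p + (p * wt p b).factorial.factorization p =
      (Nat.card (Perm α)).factorization p + (np p b).factorization p := by
  rw [h.charDegree hδ hχ, (h.adm hδ hχ).factorization_np hp, Nat.card_eq_fintype_card,
    Fintype.card_perm]

omit [DecidableEq α] in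
include e in
theorem card_eq_of_equiv [NeZero p] : Fintype.card α = m + p * w := by
  rw [← Fintype.card_congr e]; simp; ring

theorem chi_uu_mul (hp : p.Prime) (δ : I → ℕ) {κ : I → ℕ} (hκ : IsCore p κ) {b : I → ℕ}
    (hb : Function.Injective b) (hr : ∀ i, b i % p = κ i % p) (hw : wt p b = w) :
    ∃ s : ℂ, (s = 1 ∨ s = -1) ∧ ∀ y, chi δ b (embR e y * uu e) = s * np p b * chi δ κ y := by
  have := Fact.mk hp
  obtain ⟨t, ht⟩ := hκ.exists_perm (isCore_core hp.pos hb) fun i => by rw [core_mod, hr]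
  refine ⟨sg t, sg_eq t, fun y => ?_⟩
  rw [uu, embR_mul_embL, chi, cyc_emb, cyc_u0, mul_left_comm, ← hw,
    mn_core hp.pos hb (antiP_chi δ y), ← ht]
  change _ * chi δ _ y = _
  rw [chi_comp]; ring

theorem exists_block_cen (hM : IsPModular p M) {δ : I → ℕ} (hδ : IsDel δ) {κ : I → ℕ}
    (hκ : IsCore p κ) (hs : ∑ i, κ i = m + (Fintype.card I).choose 2) :
    ∃ F : Set (IrrCharacter (Cen (uu e))), IsPBlock M F ∧ ∀ B, IsPBlock M B →
      ∀ χ ∈ B, Over p δ κ (χ : Perm α → ℂ) → IsInducedBlock M (Cen (uu e)) F B := by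
  classical
  have := Fact.mk hM.1
  have := BlockB.charP_k hM
  have hκ' : Adm (Fintype.card (Fin m)) κ := ⟨hκ.inj, by simpa using hs⟩
  obtain ⟨ξ, hξ⟩ := hκ'.exists_lab hδ
  let φ := MonoidHom.ofInjective (embR_injective e)
  let ξ' := Char.irrEquivOfMulEquiv φ.symm ξ
  have h1 : IsPBlock M {ξ'} := by
    rw [← (BlockB.blockOf_eq_singleton_iff hM ξ').2]
    · exact BlockB.isPBlock_blockOf _
    · have := hξ.factorization hM.1 hδ ξ.2
      rw [hκ.wt_eq hM.1.pos hκ.inj (fun _ => rfl) (w := 0) (by simp), hκ.np_eq hM.1.pos] at this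
      rw [← Nat.card_congr φ.toEquiv]
      simpa [ξ', Char.irrEquivOfMulEquiv, Cfsg.charDegree] using this
  have h2 := isBlk_ebs hM h1
  have h3 : IsBlk (Cen (uu e)) (ebs M _ {ξ'}) := by
    refine h2.of_le (range_embR_le_cen e) (mem_fix.2 fun h hh => ?_) fun f => isBlk_mem_sub e hM
    obtain ⟨a, b, rfl⟩ := exists_of_mem_cen e hM.1 hh
    rw [← embL_mul_embR, cj_mul, mem_fix.1 h2.mem_fix _ ⟨b, rfl⟩]
    refine mem_fix.1 (mem_fix_of_mem_sub_centralizer (H := (embL e).range)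
      (sub_mono ?_ h2.mem_sub)) _ ⟨a, rfl⟩
    exact Subgroup.le_centralizer_iff.1 (range_embL_le_centralizer e)
  obtain ⟨F, hF, h4, -⟩ := exists_block_of_isBlk hM (range_embR_le_cen e) h1 h3
  refine ⟨F, hF, fun B hB χ hχ ⟨b, hb, hr⟩ => ?_⟩
  by_contra hn
  have h5 := BlockB.second_main' hM (orderOf_uu e hM.1) hχ hB hF hn (y := 1)
    (by simpa using hM.1.one_lt.ne')
  rw [BlockB.blockPart_sec_eq (Char.irr_isClassFunction χ.2) le_rfl,
    show incl (Cen (uu e)) (eSet F) = incl _ (eSet {ξ'}) from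
      eS_eq_of_ebs_eq hM (range_embR_le_cen e) h1 hF h4, BlockB.ev_incl_mul_single,
    ← Equiv.sum_comp φ.toEquiv] at h5
  have h6 := hb.adm hδ χ.2
  obtain ⟨s, hs1, h7⟩ := chi_uu_mul e hM.1 δ hκ h6.inj hr (hκ.wt_eq hM.1.pos h6.inj hr
    (by rw [h6.sum, hs, card_eq_of_equiv e]; ring))
  obtain ⟨t, ht1, ht⟩ := hb.exists_sign
  obtain ⟨r, hr1, hr⟩ := hξ.exists_sign
  have h8 : ∀ y, (eSet {ξ'}).coeff (φ.toEquiv y) * (χ : Perm α → ℂ)
      ((φ.toEquiv y : Perm α) * (uu e * ((1 : Cen (uu e)) : Perm α))) =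
        (t * s * r * np p b * (ξ : Perm (Fin m) → ℂ) 1) * ((Nat.card (Perm (Fin m)) : ℂ)⁻¹ *
          ((ξ : Perm (Fin m) → ℂ) y * conj ((ξ : Perm (Fin m) → ℂ) y))) := fun y => by
    have h9 : chi δ κ y = r * (ξ : Perm (Fin m) → ℂ) y := by
      rcases hr1 with rfl | rfl <;> simp [hr]
    rw [show (eSet {ξ'}).coeff (φ.toEquiv y) = blockCoeff {ξ'} (φ.toEquiv y) from rfl,
      BlockB.blockCoeff_singleton, ← Nat.card_congr φ.toEquiv, OneMemClass.coe_one, mul_one,
      show (φ.toEquiv y : Perm α) = embR e y from rfl, ht, Pi.smul_apply, h7, h9]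
    simp only [ξ', Char.irrEquivOfMulEquiv, Equiv.coe_fn_mk, map_one, MulEquiv.toEquiv_eq_coe,
      EquivLike.coe_coe, MulEquiv.symm_apply_apply, smul_eq_mul]
    ring
  simp only [h8, ← Finset.mul_sum] at h5
  have h9 := Char.inner_irr_self ξ.2
  rw [classInner] at h9
  rw [h9, mul_one] at h5
  have h10 : (np p b : ℂ) ≠ 0 := by exact_mod_cast np_ne_zero hM.1.pos h6.inj
  have h11 := Char.irr_one_ne_zero ξ.2
  rcases ht1 with rfl | rfl <;> rcases hs1 with rfl | rfl <;> rcases hr1 with rfl | rfl <;>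
    simp [h10, h11] at h5

variable {δ κ : I → ℕ} {B : Set (IrrCharacter (Perm α))} {χ : IrrCharacter (Perm α)}

include e in
/-- The other half of the Nakayama conjecture. -/
theorem mem_of_over (hM : IsPModular p M) (hδ : IsDel δ) (hκ : IsCore p κ)
    (hs : ∑ i, κ i = m + (Fintype.card I).choose 2) (hB : IsPBlock M B) (hχ : χ ∈ B)
    (h : Over p δ κ (χ : Perm α → ℂ)) {ψ : IrrCharacter (Perm α)}
    (h' : Over p δ κ (ψ : Perm α → ℂ)) : ψ ∈ B := by
  obtain ⟨F, -, hF⟩ := exists_block_cen e hM hδ hκ hs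
  rw [BlockB.isInducedBlock_unique hM (hF B hB χ hχ h)
    (hF _ (BlockB.isPBlock_blockOf ψ) ψ (BlockB.mem_blockOf_self hM ψ) h')]
  exact BlockB.mem_blockOf_self hM ψ

theorem Br_ne_zero (hM : IsPModular p M) (hδ : IsDel δ) (hκ : IsCore p κ)
    (hs : ∑ i, κ i = m + (Fintype.card I).choose 2) (hB : IsPBlock M B) (hχ : χ ∈ B)
    (h : Over p δ κ (χ : Perm α → ℂ)) {P : Subgroup (Perm α)} (hP : P ≤ (embL e).range) :
    Br P (eb M B) ≠ 0 := by
  classical
  have := Fact.mk hM.1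
  have := BlockB.charP_k hM
  obtain ⟨F, -, hF⟩ := exists_block_cen e hM hδ hκ hs
  have h1 := (IsInducedBlock.induces hM (hF B hB χ hχ h)).lam_trunc
  have h2 : trunc (Cen (uu e) : Set (Perm α)) (eb M B) = Br (Subgroup.zpowers (uu e)) (eb M B) := by
    rw [Br_def, centralizer_zpowers]
  have h3 : trunc (Cen (uu e) : Set (Perm α)) (eb M B) ∈ sub (k M) (embR e).range := by
    rw [(commSub_Zc (Cen (uu e))).eq_sum_prims
      (trunc_mem_Zc le_top (mem_Zc_top.1 (eb_mem_Zc B))) (by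
        rw [h2]
        exact Br_idem (BlockB.isPGroup_zpowers (orderOf_uu e hM.1))
          (fix_anti le_top (mem_Zc_top.1 (eb_mem_Zc B))) (eb_mul_self hM hB))]
    exact Subalgebra.sum_mem _ fun f hf => isBlk_mem_sub e hM (mem_prims.1 (mem_filter.1 hf).1)
  have h4 : trunc (Cen (uu e) : Set (Perm α)) (eb M B) ≠ 0 := fun h0 => by
    rw [h0, (IsInducedBlock.induces hM (hF B hB χ hχ h)).blk.lam_zero] at h1
    exact zero_ne_one h1
  obtain ⟨x, hx⟩ := exists_coeff_ne_zero h4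
  have h5 := mem_of_coeff_ne_zero h3 hx
  refine Br_ne_zero_iff.2 ⟨x, centralizer_anti hP
    (Subgroup.le_centralizer_iff.1 (range_embL_le_centralizer e) h5), ?_⟩
  rwa [coeff_trunc_of_mem _ (range_embR_le_cen e h5)] at hx

omit [Fintype α] [DecidableEq α] in
theorem card_range_embL [NeZero p] : Nat.card (embL e).range = (p * w).factorial := by
  rw [← Nat.card_congr (MonoidHom.ofInjective (embL_injective e)).toEquiv,
    Nat.card_eq_fintype_card, Fintype.card_perm]
  simp [mul_comm]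

include e in
theorem blockDefect_eq (hM : IsPModular p M) (hδ : IsDel δ) (hκ : IsCore p κ)
    (hs : ∑ i, κ i = m + (Fintype.card I).choose 2) (hB : IsPBlock M B)
    (h : ∀ χ ∈ B, Over p δ κ (χ : Perm α → ℂ)) :
    blockDefect p B = (p * w).factorial.factorization p := by
  have := Fact.mk hM.1
  have := BlockB.charP_k hM
  have hne := BlockB.block_nonempty hM hB
  obtain ⟨χ, hχ, h1⟩ := BlockB.exists_minExp_eq (p := p) hne
  refine le_antisymm ?_ ?_
  · obtain ⟨b, hb, hr⟩ := h χ hχ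
    have h2 := hb.factorization hM.1 hδ χ.2
    have h3 := hb.adm hδ χ.2
    rw [hκ.wt_eq hM.1.pos h3.inj hr (w := w) (by rw [h3.sum, hs, card_eq_of_equiv e]; ring)] at h2
    have := BlockB.blockDefect_add_minExp (p := p) hne
    omega
  · obtain ⟨D, hD⟩ := BlockB.exists_defectGroup hM hB
    obtain ⟨P, hP⟩ := exists_isSyl (p := p) (embL e).range
    have := ((isDefectGroup_iff hM hB D).1 hD).card_le (isBlk_eb hM hB) hP.isP le_top
      (Br_ne_zero e hM hδ hκ hs hB hχ (h χ hχ) hP.le)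
    rwa [BlockB.card_defectGroup hM hB hD, hP.card_eq, card_range_embL,
      Nat.pow_le_pow_iff_right hM.1.one_lt] at this

theorem isDefectGroup_of_isSyl (hM : IsPModular p M) (hδ : IsDel δ) (hκ : IsCore p κ)
    (hs : ∑ i, κ i = m + (Fintype.card I).choose 2) (hB : IsPBlock M B)
    (h : ∀ χ ∈ B, Over p δ κ (χ : Perm α → ℂ)) {P : Subgroup (Perm α)}
    (hP : IsSyl p P (embL e).range) : IsDefectGroup p M B P := by
  have := Fact.mk hM.1
  have := BlockB.charP_k hM
  obtain ⟨χ, hχ⟩ := BlockB.block_nonempty hM hB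
  obtain ⟨D, hD⟩ := BlockB.exists_defectGroup hM hB
  refine (isDefectGroup_iff hM hB P).2 (((isDefectGroup_iff hM hB D).1 hD).of_card_ge
    (isBlk_eb hM hB) hP.isP le_top (Br_ne_zero e hM hδ hκ hs hB hχ (h χ hχ) hP.le) ?_)
  rw [BlockB.card_defectGroup hM hB hD, hP.card_eq, card_range_embL,
    blockDefect_eq e hM hδ hκ hs hB h]

end Block

theorem nonempty_equiv [NeZero p] {w m : ℕ} (h : Fintype.card α = m + p * w) :
    Nonempty ((Fin w × ZMod p) ⊕ Fin m ≃ α) :=
  ⟨Fintype.equivOfCardEq (by simp [h]; ring)⟩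

omit [DecidableEq I] in
theorem IsCore.exists_sum {κ : I → ℕ} (hκ : IsCore p κ) {w n : ℕ}
    (h : ∑ i, κ i + p * w = n + (Fintype.card I).choose 2) :
    ∃ m, ∑ i, κ i = m + (Fintype.card I).choose 2 ∧ n = m + p * w := by
  have := choose_le_sum_of_inj hκ.inj
  exact ⟨∑ i, κ i - (Fintype.card I).choose 2, by omega, by omega⟩

end CF.Block.Sn
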