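import Cfsg.Agent.Block.Sn6
import Cfsg.Agent.Block.Idx2
import Cfsg.Agent.Perm.SylP2

/-!
# Characters of symmetric groups, VII: block data for symmetric and alternating groups
-/

namespace CF.Block.Sn

open Cfsg Equiv Finset MonoidAlgebra
open CF.BlockB (v O k resC nrm omega eSet ev incl pPart pReg Cen sec)
open CF.Clifford (NormalEmb)

variable {I α : Type*} [Fintype I] [DecidableEq I] [Fintype α] [DecidableEq α] {p w m : ℕ}
  {M : Ideal AlgInt}

theorem nonempty_equiv_of_cjs {G H K : Type*} [Group G] [Group H] [Group K] {f : H →* G}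
    {f' : K →* G} (hf : Function.Injective f) (hf' : Function.Injective f') {S : Subgroup H}
    {T : Subgroup K} {g : G} (h : cjs g (S.map f) = T.map f') : Nonempty (T ≃* S) :=
  ⟨((T.equivMapOfInjective f' hf').trans (MulEquiv.subgroupCongr h.symm)).trans
    (((S.equivMapOfInjective f hf).trans ((S.map f).equivSMul (MulAut.conj g))).symm)⟩

theorem sign_embL {A B : Type*} [Fintype A] [DecidableEq A] [Fintype B] [DecidableEq B]
    (e : A ⊕ B ≃ α) (a : Perm A) : Perm.sign (embL e a) = Perm.sign a := by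
  change Perm.sign (emb e (a, 1)) = _
  rw [emb_apply, Perm.sign_permCongr, Perm.sign_sumCongr]; simp

theorem map_inf_alt {A B : Type*} [Fintype A] [DecidableEq A] [Fintype B] [DecidableEq B]
    (e : A ⊕ B ≃ α) (S : Subgroup (Perm A)) :
    (S ⊓ alternatingGroup A).map (embL e) = S.map (embL e) ⊓ alternatingGroup α := by
  ext g
  constructor
  · rintro ⟨a, ⟨h1, h2⟩, rfl⟩
    exact ⟨⟨a, h1, rfl⟩, (sign_embL e a).trans h2⟩
  · rintro ⟨⟨a, h1, rfl⟩, h2⟩
    exact ⟨a, ⟨h1, (sign_embL e a).symm.trans h2⟩, rfl⟩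

variable (M) in
/-- The combinatorial data attached to a block of a symmetric group. -/
structure Dat (B : Set (IrrCharacter (Perm α))) (δ κ : I → ℕ)
    (e : (Fin w × ZMod p) ⊕ Fin m ≃ α) : Prop where
  mod : IsPModular p M
  blk : IsPBlock M B
  del : IsDel δ
  core : IsCore p κ
  sum : ∑ i, κ i = m + (Fintype.card I).choose 2
  card : Fintype.card α ≤ Fintype.card I
  ovr : ∀ χ ∈ B, Over p δ κ (χ : Perm α → ℂ)

variable {B : Set (IrrCharacter (Perm α))} {δ κ : I → ℕ} {e : (Fin w × ZMod p) ⊕ Fin m ≃ α}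

theorem exists_dat (hM : IsPModular p M) (hB : IsPBlock M B)
    (hI : Fintype.card α ≤ Fintype.card I) : ∃ (δ κ : I → ℕ) (w m : ℕ)
      (e : (Fin w × ZMod p) ⊕ Fin m ≃ α), Dat M B δ κ e := by
  have := Fact.mk hM.1
  obtain ⟨κ, w, h1, h2, h3⟩ := exists_core_of_block hM isDel_equivFin hI hB
  obtain ⟨m, h4, h5⟩ := h1.exists_sum h2
  obtain ⟨e⟩ := nonempty_equiv h5
  exact ⟨_, κ, w, m, e, hM, hB, isDel_equivFin, h1, h4, hI, h3⟩

namespace Dat

variable (h : Dat M B δ κ e)
include h

theorem card_eq : Fintype.card α = m + p * w :=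
  have := Fact.mk h.mod.1
  card_eq_of_equiv e

theorem sum' : ∑ i, κ i + p * w = Fintype.card α + (Fintype.card I).choose 2 := by
  rw [h.sum, h.card_eq]; ring

theorem rank_le : blockRank p B ≤ (MP p w).ncard :=
  blockRank_le_MP h.mod.1.pos h.del h.card h.core h.sum' h.ovr

theorem defect_eq : blockDefect p B = (p * w).factorial.factorization p :=
  blockDefect_eq e h.mod h.del h.core h.sum h.blk h.ovr

theorem mem_of {ψ : IrrCharacter (Perm α)} (h' : Over p δ κ (ψ : Perm α → ℂ)) : ψ ∈ B :=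
  let ⟨χ, hχ⟩ := BlockB.block_nonempty h.mod h.blk
  mem_of_over e h.mod h.del h.core h.sum h.blk hχ (h.ovr χ hχ) h'

theorem isDefectGroup [Fact p.Prime] (S : Sylow p (Perm (Fin w × ZMod p))) :
    IsDefectGroup p M B ((S : Subgroup _).map (embL e)) :=
  isDefectGroup_of_isSyl e h.mod h.del h.core h.sum h.blk h.ovr (by
    rw [MonoidHom.range_eq_map]; exact (isSyl_map (embL_injective e)).2 (isSyl_sylow S))

theorem nonempty_equiv [Fact p.Prime] {D : Subgroup (Perm α)} (hD : IsDefectGroup p M B D)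
    (S : Sylow p (Perm (Fin w × ZMod p))) : Nonempty (D ≃* S.toSubgroup) := by
  obtain ⟨g, hg⟩ := BlockB.IsDefectGroup.conj h.mod h.blk (h.isDefectGroup S) hD
  exact nonempty_equiv_of_cjs (f' := MonoidHom.id _) (embL_injective e) Function.injective_id
    (hg.trans (Subgroup.map_id _).symm)

theorem wt_eq {b : I → ℕ} (hb : Adm (Fintype.card α) b) (hr : ∀ i, b i % p = κ i % p) :
    wt p b = w := h.core.wt_eq h.mod.1.pos hb.inj hr (by rw [hb.sum, h.sum'])

theorem factorization {χ : Perm α → ℂ} (hχ : IsIrrCharacter (Perm α) χ) {b : I → ℕ}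
    (hb : Lab δ b χ) (hr : ∀ i, b i % p = κ i % p) :
    (charDegree χ).factorization p + blockDefect p B =
      (Nat.card (Perm α)).factorization p + (np p b).factorization p := by
  rw [h.defect_eq, ← hb.factorization h.mod.1 h.del hχ, h.wt_eq (hb.adm h.del hχ) hr]

theorem nonempty_equiv_alt [Fact p.Prime] {b : Set (IrrCharacter (alternatingGroup α))}
    (hb : IsPBlock M b) (hc : eb M B * ebs M _ b ≠ 0) {D : Subgroup (alternatingGroup α)}
    (hD : IsDefectGroup p M b D) (T : Sylow p (alternatingGroup (Fin w × ZMod p))) :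
    Nonempty (D ≃* T.toSubgroup) := by
  have := BlockB.charP_k h.mod
  obtain ⟨S, hS⟩ := CF.Perm.exists_sylow_map_eq T
  obtain ⟨P, hP, h1, -⟩ := (isBlk_eb h.mod h.blk).exists_defGrp_inf (isBlk_ebs h.mod hb)
    (le_normalizer_of_normal' _ _) le_top hc ((isDefectGroup_iff_sub h.mod hb D).1 hD)
  obtain ⟨g, hg⟩ := BlockB.IsDefectGroup.conj h.mod h.blk (h.isDefectGroup S)
    ((isDefectGroup_iff h.mod h.blk P).2 hP)
  refine nonempty_equiv_of_cjs (f := (embL e).comp (alternatingGroup _).subtype) (g := g)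
    ((embL_injective e).comp Subtype.val_injective) (alternatingGroup α).subtype_injective ?_
  rw [← Subgroup.map_map, hS, map_inf_alt, cjs_inf, hg, cjs_eq_of_normal, h1]

end Dat

theorem exists_covers (hM : IsPModular p M) {G : Type*} [Group G] [Finite G] {N : Subgroup G}
    {b : Set (IrrCharacter N)} (hb : IsPBlock M b) :
    ∃ B : Set (IrrCharacter G), IsPBlock M B ∧ eb M B * ebs M N b ≠ 0 := by
  have := Fintype.ofFinite G
  have := Fintype.ofFinite N
  obtain ⟨θ, hθ⟩ := BlockB.block_nonempty hM hb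
  obtain ⟨χ, hχ, h⟩ := Clifford.exists_irr_over N.subtype N.subtype_injective θ.2
  refine ⟨_, BlockB.isPBlock_blockOf ⟨χ, hχ⟩, ?_⟩
  rw [← (mem_iff_ebs_blockOf hM hb).1 hθ]
  exact covers_blockOf hM (BlockB.isPBlock_blockOf _) (BlockB.mem_blockOf_self hM ⟨χ, hχ⟩) h

theorem pow_le_of_sectional [Fact p.Prime] {G D A : Type*} [Group G] [Finite G] [Group D]
    [CommGroup A] {s r : ℕ} (hs : SectionalPRankLE p s D) {S : Sylow p G}
    (h : Nonempty (D ≃* (S : Subgroup G))) (hA : ∀ a : A, a ^ p = 1) (hc : Nat.card A = p ^ r)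
    {f : A →* G} (hf : Function.Injective f) : p ^ r ≤ p ^ s := by
  obtain ⟨φ⟩ := h
  obtain ⟨g, hg⟩ := CF.Perm.exists_injective_sylow (IsPGroup.of_card hc) hf S
  exact hc ▸ card_le_of_sectional hs hA (φ.symm.toMonoidHom.comp g) (φ.symm.injective.comp hg)

theorem Dat.rank_lt [Fact p.Prime] (h : Dat M B δ κ e) {D : Subgroup (Perm α)}
    (hD : IsDefectGroup p M B D) (hD1 : D ≠ ⊥) {s : ℕ} (hs : SectionalPRankLE p s D) :
    blockRank p B < p ^ s := by
  rcases w with _ | w
  · exact absurd (Subgroup.card_eq_one.1 (by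
      simpa [h.defect_eq] using BlockB.card_defectGroup h.mod h.blk hD)) hD1
  · exact (h.rank_le.trans_lt (ncard_MP_lt h.mod.1.pos w)).trans_le (pow_le_of_sectional hs
      (h.nonempty_equiv hD default) (fun a => by ext i; simp) (by simp) (eh_injective _ p))

end CF.Block.Sn
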