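import Cfsg.Agent.Block.Sn7
import Cfsg.Agent.BlockB.BF

/-!
# Characters of symmetric groups, VIII: blocks of alternating groups
-/

namespace CF.Block.Sn

open Cfsg Equiv Finset MonoidAlgebra Module
open CF.BlockB (v O k resC nrm omega eSet ev incl pPart pReg Cen sec)
open CF.Clifford (NormalEmb)

variable {I α : Type*} [Fintype I] [DecidableEq I] [Fintype α] [DecidableEq α] {p w m : ℕ}
  {M : Ideal AlgInt} {B : Set (IrrCharacter (Perm α))} {δ κ : I → ℕ}
  {e : (Fin w × ZMod p) ⊕ Fin m ≃ α} {b : Set (IrrCharacter (alternatingGroup α))}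

theorem res_alt [Nontrivial α] {t : Perm α} (ht : t ∉ alternatingGroup α) {χ : Perm α → ℂ}
    (hχ : IsIrrCharacter (Perm α) χ) {θ : alternatingGroup α → ℂ}
    (hθ : IsIrrCharacter (alternatingGroup α) θ)
    (h : classInner (fun n : alternatingGroup α => χ n) θ ≠ 0) :
    ((fun n : alternatingGroup α => χ n) = θ ∧ (NormalEmb.sub _).cj θ t = θ) ∨
      ((fun n : alternatingGroup α => χ n) = θ + (NormalEmb.sub _).cj θ t ∧
        ∀ g, g ∉ alternatingGroup α → χ g = 0) := by
  simpa using res_index_two (NormalEmb.sub (alternatingGroup α))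
    (by simp [NormalEmb.index]) (t := t) (by simpa using ht)
    hχ hθ h

theorem res_eq_of_ne_zero {t : Perm α} (ht : t ∉ alternatingGroup α) {χ : Perm α → ℂ}
    (hχ : IsIrrCharacter (Perm α) χ) (h0 : χ t ≠ 0) {θ : alternatingGroup α → ℂ}
    (hθ : IsIrrCharacter (alternatingGroup α) θ)
    (h : classInner (fun n : alternatingGroup α => χ n) θ ≠ 0) :
    (fun n : alternatingGroup α => χ n) = θ := by
  rcases subsingleton_or_nontrivial α with _ | _
  · exact absurd (Subsingleton.elim 1 t ▸ one_mem _) ht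
  exact (res_alt ht hχ hθ h).elim (·.1) fun h => absurd (h.2 t ht) h0

theorem irr_res_of_ne_zero {t : Perm α} (ht : t ∉ alternatingGroup α) {χ : Perm α → ℂ}
    (hχ : IsIrrCharacter (Perm α) χ) (h0 : χ t ≠ 0) :
    IsIrrCharacter (alternatingGroup α) fun n => χ n := by
  obtain ⟨θ, hθ, h⟩ := Clifford.exists_irr_constituent_comp (alternatingGroup α).subtype hχ
  exact res_eq_of_ne_zero ht hχ h0 hθ h ▸ hθ

theorem exists_not_mem_alt [Nontrivial α] : ∃ t, t ∉ alternatingGroup α :=
  let ⟨t, ht⟩ := Perm.sign_surjective α (-1)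
  ⟨t, by simp [ht]⟩

theorem sign_uu (e : (Fin w × ZMod 2) ⊕ Fin m ≃ α) : Perm.sign (uu e) = (-1) ^ w := by
  rw [uu, sign_embL]
  change Perm.sign (Equiv.prodCongrRight fun _ : Fin w => rot 2) = _
  rw [Perm.sign_prodCongrRight, show Perm.sign (rot 2) = -1 by decide]; simp

theorem factorization_card_alt_le (β : Type*) [Fintype β] [DecidableEq β] :
    (Nat.card (alternatingGroup β)).factorization p ≤
      (Fintype.card β).factorial.factorization p := by
  rw [← Fintype.card_perm, ← Nat.card_eq_fintype_card]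
  exact (Nat.factorization_le_iff_dvd Nat.card_pos.ne' Nat.card_pos.ne').2
    (Subgroup.card_subgroup_dvd_card _) p

theorem factorization_card_alt (β : Type*) [Fintype β] [DecidableEq β] [Nontrivial β] :
    (Nat.card (alternatingGroup β)).factorization p + (2 : ℕ).factorization p =
      (Nat.card (Perm β)).factorization p := by
  rw [← two_mul_nat_card_alternatingGroup, Nat.factorization_mul two_ne_zero Nat.card_pos.ne',
    add_comm]; rfl

/-- Coordinatewise regular action. -/
def ehV (n : ℕ) (V : Type*) [AddCommGroup V] : (Fin n → Multiplicative V) →* Perm (Fin n × V) where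
  toFun a := Equiv.prodCongrRight fun i => Equiv.addRight (a i).toAdd
  map_one' := by ext <;> simp
  map_mul' a b := by ext <;> simp [add_comm, add_left_comm]

theorem ehV_injective (n : ℕ) (V : Type*) [AddCommGroup V] : Function.Injective (ehV n V) :=
  fun a b h => by
    ext i
    simpa [ehV] using congrArg Prod.snd (Perm.congr_fun h (i, 0))

theorem sign_ehV {n : ℕ} {V : Type*} [AddCommGroup V] [Fintype V] [DecidableEq V]
    (a : Fin n → Multiplicative V) :
    Perm.sign (ehV n V a) = ∏ i, Perm.sign (Equiv.addRight (a i).toAdd) := by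
  convert Perm.sign_prodCongrRight fun i => Equiv.addRight (a i).toAdd
  rfl

theorem v4_sq : ∀ x : Multiplicative (ZMod 2 × ZMod 2), x ^ 2 = 1 := by decide

theorem v4_sign : ∀ x : ZMod 2 × ZMod 2, Perm.sign (Equiv.addRight x) = 1 := by decide

theorem pow_le_alt [hp : Fact p.Prime] {D : Type*} [Group D] {s : ℕ} (hs : SectionalPRankLE p s D)
    {T : Sylow p (alternatingGroup (Fin w × ZMod p))} (h : Nonempty (D ≃* T.toSubgroup)) :
    p ^ (if p = 2 then 2 * (w / 2) else w) ≤ p ^ s := by
  split_ifs with h2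
  · subst h2
    obtain ⟨ι⟩ : Nonempty (Fin (w / 2) × (ZMod 2 × ZMod 2) ↪ Fin w × ZMod 2) :=
      Function.Embedding.nonempty_of_card_le (by simp; omega)
    refine pow_le_of_sectional hs h (A := Fin (w / 2) → Multiplicative (ZMod 2 × ZMod 2))
      (f := ((Perm.viaEmbeddingHom ι).comp (ehV _ _)).codRestrict _ fun a => ?_)
      (fun a => funext fun i => v4_sq _)
      (by simp [pow_mul]) ((MonoidHom.injective_codRestrict _ _ _).2
        ((Perm.viaEmbeddingHom_injective ι).comp (ehV_injective _ _)))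
    rw [Perm.mem_alternatingGroup, MonoidHom.comp_apply, CF.Perm.sign_viaEmbeddingHom, sign_ehV]
    exact Finset.prod_eq_one fun i _ => v4_sign _
  · exact pow_le_of_sectional hs h (f := (eh w p).codRestrict _ fun a =>
      CF.Perm.sign_eq_one_of_pow_odd (hp.out.odd_of_ne_two h2) (eh_pow_eq_one a))
      (fun a => by ext i; simp) (by simp)
      ((MonoidHom.injective_codRestrict _ _ _).2 (eh_injective _ _))

namespace Dat

variable (h : Dat M B δ κ e)
include h

theorem adm_core : Adm (Fintype.card (Fin m)) κ := ⟨h.core.inj, by simpa using h.sum⟩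

theorem apply_uu_ne_zero {χ : IrrCharacter (Perm α)} (hχ : χ ∈ B) :
    (χ : Perm α → ℂ) (uu e) ≠ 0 := by
  obtain ⟨c, hc, hr⟩ := h.ovr χ hχ
  have h1 := hc.adm h.del χ.2
  obtain ⟨s, hs, h2⟩ := chi_uu_mul e h.mod.1 δ h.core h1.inj hr (h.wt_eq h1 hr)
  obtain ⟨t, ht, h3⟩ := hc.exists_sign
  have h4 := h2 1
  rw [map_one, one_mul] at h4
  have h5 := h.adm_core.chi_one_ne_zero h.del
  have h6 := np_ne_zero h.mod.1.pos h1.inj
  rcases hs with rfl | rfl <;> rcases ht with rfl | rfl <;> simp [h3, h4, h5, h6]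

theorem exists_span_alt : ∃ U : Submodule ℂ (alternatingGroup α → ℂ),
    finrank ℂ U ≤ (MP p w).ncard ∧
      ∀ χ ∈ B, pRegularPart p (fun n : alternatingGroup α => (χ : Perm α → ℂ) n) ∈ U := by
  obtain ⟨V, h1, h2⟩ := exists_span_of_core h.mod.1.pos h.del h.card h.core h.sum'
  exact ⟨V.map (LinearMap.funLeft ℂ ℂ Subtype.val), (Submodule.finrank_map_le _ _).trans h1,
    fun χ hχ => ⟨_, h2 χ χ.2 (h.ovr χ hχ), BlockB.reg_restrict _ _⟩⟩

theorem rank_alt_le_two_mul [Nontrivial α] (hb : IsPBlock M b) (hc : eb M B * ebs M _ b ≠ 0) :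
    blockRank p b ≤ 2 * (MP p w).ncard := by
  obtain ⟨U, h1, h2⟩ := h.exists_span_alt
  obtain ⟨t, ht⟩ := exists_not_mem_alt (α := α)
  refine (blockRank_le_two_mul h.mod hb ((NormalEmb.sub _).c t) (fun θ hθ g => ?_) U
    fun θ hθ => ?_).trans (by omega)
  · have h3 := congrFun ((NormalEmb.sub _).cj_ι hθ ⟨t * t, by simp⟩) g
    rwa [NormalEmb.cj_apply, NormalEmb.sub_ι, Subgroup.coe_subtype, NormalEmb.c_mul] at h3
  · obtain ⟨χ, hχ, h3⟩ := exists_over_of_covers h.mod h.blk hb hc hθ
    change pRegularPart p (_ + (NormalEmb.sub _).cj _ t) ∈ U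
    rcases res_alt ht χ.2 θ.2 h3 with ⟨h4, h5⟩ | ⟨h4, -⟩
    · have h6 := h2 χ hχ
      rw [h4] at h6
      rw [h5]
      convert U.add_mem h6 h6 using 1
      funext g
      simp only [Pi.add_apply, BlockB.reg_apply]
      split_ifs <;> simp
    · exact h4 ▸ h2 χ hχ

theorem rank_alt_le (hu : uu e ∉ alternatingGroup α) (hb : IsPBlock M b)
    (hc : eb M B * ebs M _ b ≠ 0) : blockRank p b ≤ (MP p w).ncard := by
  obtain ⟨U, h1, h2⟩ := h.exists_span_alt
  refine (Submodule.finrank_mono (Submodule.span_le.2 ?_)).trans h1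
  rintro _ ⟨θ, hθ, rfl⟩
  obtain ⟨χ, hχ, h3⟩ := exists_over_of_covers h.mod h.blk hb hc hθ
  have h4 := h2 χ hχ
  rwa [res_eq_of_ne_zero hu χ.2 (h.apply_uu_ne_zero hχ) θ.2 h3] at h4

theorem defect_alt [Fact p.Prime] (hb : IsPBlock M b) (hc : eb M B * ebs M _ b ≠ 0) :
    blockDefect p b = (Nat.card (alternatingGroup (Fin w × ZMod p))).factorization p := by
  obtain ⟨D, hD⟩ := BlockB.exists_defectGroup h.mod hb
  obtain ⟨φ⟩ := h.nonempty_equiv_alt hb hc hD default
  have := Nat.card_congr φ.toEquiv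
  rwa [BlockB.card_defectGroup h.mod hb hD, Sylow.card_eq_multiplicity,
    Nat.pow_right_inj h.mod.1.one_lt] at this

theorem defect_alt_le [Fact p.Prime] (hb : IsPBlock M b) (hc : eb M B * ebs M _ b ≠ 0)
    (hw : w ≤ 2) : blockDefect p b ≤ if p = 2 then 2 * (w / 2) else w := by
  rw [h.defect_alt hb hc]
  have h1 := factorization_card_alt_le (p := p) (Fin w × ZMod p)
  rw [Fintype.card_prod, Fintype.card_fin, ZMod.card] at h1
  split_ifs with h2
  · subst h2
    interval_cases w
    · simpa using h1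
    · have := factorization_card_alt (p := 2) (Fin 1 × ZMod 2)
      rw [Nat.card_perm, show (Nat.card (Fin 1 × ZMod 2)).factorial = 2 by simp] at this
      omega
    · have := factorization_card_alt (p := 2) (Fin 2 × ZMod 2)
      rw [Nat.card_perm, show (Nat.card (Fin 2 × ZMod 2)).factorial = 2 ^ 3 * 3 by simp [Nat.factorial],
        Nat.factorization_mul (by simp) (by simp), Nat.factorization_pow] at this
      simp [Nat.prime_two.factorization, Nat.prime_three.factorization] at this
      simp [this]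
  · have h3 := h.mod.1.two_le
    rwa [factorization_factorial_eq h.mod.1, Nat.mul_div_cancel _ h.mod.1.pos,
      Nat.factorization_eq_zero_of_not_dvd (n := w.factorial)
        (by rw [h.mod.1.dvd_factorial]; omega), zero_add] at h1

end Dat

theorem rank_lt_alt [Fact p.Prime] (hM : IsPModular p M) (hb : IsPBlock M b)
    {D : Subgroup (alternatingGroup α)} (hD : IsDefectGroup p M b D) (hD1 : D ≠ ⊥) {s : ℕ}
    (hs : SectionalPRankLE p s D) : blockRank p b < p ^ s := by
  rcases subsingleton_or_nontrivial α with _ | _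
  · exact absurd (Subsingleton.elim _ _) hD1
  obtain ⟨B, hB, hc⟩ := exists_covers hM hb
  obtain ⟨δ, κ, w, m, e, h⟩ := exists_dat (I := α) hM hB le_rfl
  refine lt_of_lt_of_le ?_ (pow_le_alt hs (h.nonempty_equiv_alt hb hc hD default))
  rcases le_or_gt w 2 with hw | hw
  · have h1 := h.defect_alt_le hb hc hw
    refine ((BlockB.blockRank_lt_card hM hb fun h0 => hD1 (Subgroup.card_eq_one.1 ?_)).trans_le
      (BlockB.card_le_of_defect_le_two hM hb ?_)).trans_le (Nat.pow_le_pow_right hM.1.pos h1)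
    · rw [BlockB.card_defectGroup hM hb hD, h0, pow_zero]
    · split_ifs at h1 <;> omega
  obtain ⟨w, rfl⟩ : ∃ w', w = w' + 3 := ⟨w - 3, by omega⟩
  have h1 := two_mul_ncard_MP_lt hM.1.pos w
  have h2 := h.rank_alt_le_two_mul hb hc
  split_ifs with h3
  · subst h3
    rcases Nat.even_or_odd (w + 3) with h4 | h4
    · rw [Nat.two_mul_div_two_of_even h4]; omega
    · have h5 := h.rank_alt_le (by simp [sign_uu, h4.neg_one_pow]) hb hc
      rw [show 2 * ((w + 3) / 2) = w + 2 by obtain ⟨c, hc⟩ := h4; omega]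
      rw [pow_succ] at h1
      omega
  · omega

end CF.Block.Sn
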