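import Cfsg.Agent.Block.Sn8

/-!
# Characters of symmetric groups, IX: characters of degree `p` of Sylow subgroups
-/

namespace CF.Block.Sn

open Cfsg Equiv
open CF.Perm (wr wrSub wrTop)

variable {p : ℕ}

/-- `H` has an irreducible character of degree `p`. -/
def HasDeg (p : ℕ) (H : Type*) [Group H] : Prop :=
  ∃ φ : IrrCharacter H, charDegree (φ : H → ℂ) = p

theorem HasDeg.of_surjective {H K : Type*} [Group H] [Group K] [Finite H] (h : HasDeg p K)
    (f : H →* K) (hf : Function.Surjective f) : HasDeg p H :=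
  let ⟨φ, hφ⟩ := h
  ⟨⟨fun x => (φ : K → ℂ) (f x), (Char.irr_comp_iff_of_surjective
    (Char.irr_isCharacter φ.2) f hf).2 φ.2⟩, by simpa [charDegree] using hφ⟩

theorem hasDeg_of_card_lt [hp : Fact p.Prime] {Ω : Type*} [Finite Ω] (hΩ : Nat.card Ω < p ^ 3)
    {H : Subgroup (Perm Ω)} (hH : IsPGroup p H) (h : ¬ IsMulCommutative H) : HasDeg p H := by
  by_contra h0
  refine h (CF.Perm.isMulCommutative_iff_derivedSeries.2 ?_)
  rw [derivedSeries_one, eq_bot_iff]
  intro g hg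
  refine Subtype.ext (Equiv.ext fun x => ?_)
  by_contra hx
  refine h0 (exists_irr_degree_prime hp.out hH (K := MulAction.stabilizer H x) ?_ fun h => hx (h hg))
  obtain ⟨j, hj⟩ := hH.index (MulAction.stabilizer H x)
  have h1 : p ^ j < p ^ 3 := by
    rw [← hj, MulAction.index_stabilizer]
    exact (Set.ncard_le_card _).trans_lt hΩ
  rw [hj]
  exact Nat.pow_le_pow_right hp.out.pos
    (Nat.lt_succ_iff.1 ((Nat.pow_lt_pow_iff_right hp.out.one_lt).1 h1))

/-- The action on blocks. -/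
noncomputable def wrProj {A R : Type*} (Q : Subgroup (Perm A)) : wrSub R p Q →* Q :=
  MonoidHom.mk' (fun g => ⟨g.2.choose, g.2.choose_spec.1⟩) fun a b => Subtype.ext <| by
    obtain ⟨f, hf⟩ := a.2.choose_spec.2
    obtain ⟨g, hg⟩ := b.2.choose_spec.2
    obtain ⟨h, hh⟩ := (a * b).2.choose_spec.2
    exact (CF.Perm.wr_inj.1 (hh.trans ((congrArg₂ (· * ·) hf hg).symm.trans
      (CF.Perm.wr_mul _ _ _ _)))).1

theorem wrProj_wr {A R : Type*} {Q : Subgroup (Perm A)} {g : wrSub R p Q} {σ : Perm A}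
    {f : A → ZMod p} (h : wr R σ f = g) : (wrProj Q g : Perm A) = σ :=
  let ⟨_, hf⟩ := g.2.choose_spec.2
  (CF.Perm.wr_inj.1 (hf.trans h.symm)).1

theorem sign_wrTop' [hp : Fact p.Prime] {A R : Type*} [Fintype A] [DecidableEq A] [Fintype R]
    [DecidableEq R] {σ : Perm A} {k : ℕ} (h : σ ^ p ^ k = 1) : Perm.sign (wrTop R p σ) = 1 := by
  rcases hp.out.eq_two_or_odd' with rfl | h2
  · have : wrTop R 2 σ = Equiv.sumCongr (prodCongrLeft fun _ : ZMod 2 => σ) (1 : Perm R) := by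
      ext (⟨i, z⟩ | r) <;> simp [CF.Perm.wrTop_apply]
    rw [this, Perm.sign_sumCongr, Perm.sign_prodCongrLeft]
    simp
  · exact CF.Perm.sign_eq_one_of_pow_odd h2.pow (by rw [← map_pow, h, map_one])

theorem hasDeg_step [hp : Fact p.Prime] {Ω : Type*} [Fintype Ω] [DecidableEq Ω]
    (ih : ∀ Q : Sylow p (Perm (Fin (Nat.card Ω / p))), ¬ IsMulCommutative Q → HasDeg p Q)
    (P : Sylow p (Perm Ω)) {H : Subgroup (Perm Ω)} (h1 : P.toSubgroup ⊓ alternatingGroup Ω ≤ H)
    (h2 : H ≤ P) (h : ¬ IsMulCommutative H) : HasDeg p H := by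
  rcases lt_or_ge (Nat.card Ω) (p ^ 3) with h3 | h3
  · exact hasDeg_of_card_lt h3 (P.isPGroup'.to_le h2) h
  obtain ⟨e, Q, h4⟩ := CF.Perm.exists_sylow_model P
  refine (ih Q ?_).of_surjective ((wrProj Q.toSubgroup).comp
    ((e.permCongrHom.toMonoidHom.comp H.subtype).codRestrict _ fun g => (h4 g).1 (h2 g.2)))
    fun σ => ?_
  · rw [CF.Perm.sylow_perm_comm_iff, Nat.card_fin, not_lt, Nat.le_div_iff_mul_le hp.out.pos]
    exact h3
  · obtain ⟨k, hk⟩ := Q.isPGroup' σ
    refine ⟨⟨e.permCongrHom.symm (wrTop _ p σ), h1 ⟨(h4 _).2 ?_, ?_⟩⟩, Subtype.ext (wrProj_wr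
      (f := 0) (e.permCongrHom.apply_symm_apply _).symm)⟩
    · exact (e.permCongrHom.apply_symm_apply _).symm ▸ CF.Perm.wr_mem_wrSub.2 σ.2
    · simpa [permCongrHom] using sign_wrTop' (congrArg Subtype.val hk)

theorem hasDeg_fin [hp : Fact p.Prime] (n : ℕ) (P : Sylow p (Perm (Fin n)))
    (h : ¬ IsMulCommutative P) : HasDeg p P := by
  induction n using Nat.strong_induction_on with
  | _ n ih =>
    rcases Nat.eq_zero_or_pos n with rfl | hn
    · exact absurd ⟨⟨fun _ _ => Subsingleton.elim _ _⟩⟩ h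
    exact hasDeg_step (ih _ (by simpa using Nat.div_lt_self hn hp.out.one_lt)) P inf_le_left
      le_rfl h

theorem hasDeg_alt [Fact p.Prime] {Ω : Type*} [Fintype Ω] [DecidableEq Ω]
    (T : Sylow p (alternatingGroup Ω)) (h : ¬ IsMulCommutative T) : HasDeg p T := by
  obtain ⟨P, hP⟩ := CF.Perm.exists_sylow_map_eq T
  let φ := T.toSubgroup.equivMapOfInjective _ (alternatingGroup Ω).subtype_injective
  exact (hasDeg_step (hasDeg_fin _) P hP.ge (hP.le.trans inf_le_left) fun h' =>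
    h (CF.Perm.isMulCommutative_of_injective (f := φ.toMonoidHom) φ.injective h')).of_surjective
      φ.toMonoidHom φ.surjective

end CF.Block.Sn
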